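import Cfsg.Agent.Lib.SLn.Steinberg3
import Cfsg.Agent.Lib.Mult.Comm

/-!
# Central extensions of `SL_n(q)`, `n ≥ 3`
-/

set_option autoImplicit false

namespace Cfsg.Agent.SLn

open MulAut Cfsg.Agent.Mult
open scoped commutatorElement

variable {ι K G Γ : Type*} [DecidableEq ι] [Field K] [Group G] [Group Γ] {σ : Γ →* G}
  (hσ : IsStemExtension σ) {x : ι → ι → K → G}

theorem cm_comm_eq_one {g a b : G} (ha : Commute g a) (hb : Commute g b) :
    cm hσ ⁅a, b⁆ g = 1 := by
  have := cm_conj hσ (sec hσ g) a b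
  rw [map_sec, ha.eq, hb.eq, mul_inv_cancel_right, mul_inv_cancel_right,
    mul_inv_eq_iff_eq_mul] at this
  have h2 := (cm_eq_one_iff hσ).2 (show Commute (cm hσ a b) (sec hσ g) from this.symm)
  rwa [map_cm, map_sec] at h2

theorem commute_of_cm {a b : Γ} {g g' : G} (h : cm hσ g g' = 1) (ha : σ a = g) (hb : σ b = g') :
    Commute a b := by
  rw [← cm_eq_one_iff hσ, ha, hb, h]

theorem eq_one_of_scale {f : K → Γ} (hf : ∀ t u, f (t + u) = f u * f t) {c : K} (hc : c ≠ 1)
    (h : ∀ t, f (c * t) = f t) (t : K) : f t = 1 := by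
  have h1 := hf t ((c - 1)⁻¹ * t)
  have h2 := sub_ne_zero.2 hc
  rw [show t + (c - 1)⁻¹ * t = c * ((c - 1)⁻¹ * t) by field_simp; ring, h] at h1
  exact left_eq_mul.1 h1

omit [DecidableEq ι] in
theorem Mon.pow {g : G} {d : ι → K} (h : Mon x g 1 d) (n : ℕ) :
    Mon x (g ^ n) 1 fun i => d i ^ n := by
  induction n with
  | zero => exact ⟨by simp, by simp⟩
  | succ n ih => rw [pow_succ]; exact (ih.mul h).congr (by simp) fun i => by simp [pow_succ]

omit [DecidableEq ι] in
theorem Mon.commute_x {g : G} {d : ι → K} (h : Mon x g 1 d) {i j : ι} (hij : i ≠ j)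
    (e : d i = d j) (t : K) : Commute g (x i j t) := by
  have := h.2 i j hij t
  rw [conj_apply, mul_inv_eq_iff_eq_mul, e, mul_right_comm, mul_inv_cancel₀ (h.1 j), one_mul] at this
  exact this

omit [DecidableEq ι] in
theorem Mon.cm_eq {g : G} {τ : Equiv.Perm ι} {d : ι → K} (h : Mon x g τ d) {i j k l : ι}
    (hij : i ≠ j) (hkl : k ≠ l) {t u : K} (hc : Commute (x i j t) (x k l u)) :
    cm hσ (x (τ i) (τ j) (d i * t * (d j)⁻¹)) (x (τ k) (τ l) (d k * u * (d l)⁻¹)) =
      cm hσ (x i j t) (x k l u) := by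
  rw [← h.2 i j hij, ← h.2 k l hkl]
  exact cm_conj_of_commute hσ hc g

variable (h : StR x)
include h

omit [DecidableEq ι] in
theorem cm_add_left {i j k l : ι} (hij : i ≠ j) (hkl : k ≠ l) (hil : i ≠ l) (hjk : j ≠ k)
    (t t' u : K) : cm hσ (x i j (t + t')) (x k l u) =
      cm hσ (x i j t') (x k l u) * cm hσ (x i j t) (x k l u) := by
  rw [← h.add hij, cm_mul_left' hσ (h.comm hij hkl hil hjk _ _)]

omit [DecidableEq ι] in
theorem cm_of_index {i j k l m : ι} (hij : i ≠ j) (hkl : k ≠ l) (hil : i ≠ l) (hjk : j ≠ k)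
    (him : i ≠ m) (hjm : j ≠ m) (hkm : k ≠ m) (hlm : l ≠ m) (t u : K) :
    cm hσ (x i j t) (x k l u) = 1 := by
  rw [← mul_one t, ← h.step him hjm.symm hij]
  exact cm_comm_eq_one hσ (h.comm hkl him hkm hil.symm _ _) (h.comm hkl hjm.symm hjk.symm hlm _ _)

theorem mon_hh {i j l : ι} (hij : i ≠ j) (hil : i ≠ l) (hjl : j ≠ l) {a : K} (ha : a ≠ 0) :
    ∃ g d, Mon x g 1 d ∧ d i = a ∧ d l = a ∧ d j = (a ^ 2)⁻¹ := by
  refine ⟨_, _, ((h.mon_h hij hil hjl ha).mul (h.mon_h hjl.symm hil.symm hij.symm ha)).congr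
    (mul_one _) fun _ => rfl, ?_, ?_, ?_⟩
  · simp [hil, hij]
  · simp [hil.symm, hjl.symm]
  · simp [hij.symm, hjl, sq]

theorem cm_row {i j l : ι} (hij : i ≠ j) (hil : i ≠ l) (hjl : j ≠ l) {a : K} (ha : a ≠ 0)
    (ha3 : a ^ 3 ≠ 1) (t u : K) : cm hσ (x i j t) (x i l u) = 1 := by
  obtain ⟨g, d, hm, d1, d2, d3⟩ := mon_hh h hij hil hjl ha
  refine eq_one_of_scale (f := fun t => cm hσ (x i j t) (x i l u))
    (fun t t' => cm_add_left hσ h hij hil hil hij.symm t t' u) ha3 (fun t => ?_) t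
  rw [← hm.cm_eq hσ hij hil (h.comm hij hil hil hij.symm t u), d1, d2, d3]
  congr 2
  · field_simp
  · field_simp

theorem cm_col {i j k : ι} (hij : i ≠ j) (hik : i ≠ k) (hkj : k ≠ j) {a : K} (ha : a ≠ 0)
    (ha3 : a ^ 3 ≠ 1) (t u : K) : cm hσ (x i j t) (x k j u) = 1 := by
  obtain ⟨g, d, hm, d1, d2, d3⟩ := mon_hh h hij.symm hkj.symm hik (inv_ne_zero ha)
  refine eq_one_of_scale (f := fun t => cm hσ (x i j t) (x k j u))
    (fun t t' => cm_add_left hσ h hij hkj hij hkj.symm t t' u) ha3 (fun t => ?_) t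
  rw [← hm.cm_eq hσ hij hkj (h.comm hij hkj hij hkj.symm t u), d1, d2, d3]
  congr 2
  · field_simp
  · field_simp

theorem cm_disj {i j k l : ι} (hij : i ≠ j) (hkl : k ≠ l) (hil : i ≠ l) (hjk : j ≠ k)
    (hik : i ≠ k) (hjl : j ≠ l) (h3 : ∃ a : K, a ≠ 0 ∧ a ≠ 1) (t u : K) :
    cm hσ (x i j t) (x k l u) = 1 := by
  by_cases h4 : ∃ a : K, a ≠ 0 ∧ a ^ 2 ≠ 1
  · obtain ⟨a, ha, ha2⟩ := h4
    refine eq_one_of_scale (f := fun t => cm hσ (x i j t) (x k l u))
      (fun t t' => cm_add_left hσ h hij hkl hil hjk t t' u) ha2 (fun t => ?_) t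
    rw [← (h.mon_h hij hik hjk ha).cm_eq hσ hij hkl (h.comm hij hkl hil hjk t u)]
    congr 2
    · simp [hij.symm]; ring
    · simp [hik.symm, hjk.symm, hil.symm, hjl.symm]
  push Not at h4
  have h5 : ∀ a : K, a = 0 ∨ a = 1 ∨ a = -1 := fun a => by
    by_cases ha : a = 0
    · exact Or.inl ha
    · exact Or.inr (mul_self_eq_one_iff.1 (by rw [← sq]; exact h4 a ha))
  obtain ⟨a, a0, a1⟩ := h3
  have h6 : (-1 : K) ≠ 1 := by
    rcases h5 a with e | e | e
    exacts [absurd e a0, absurd e a1, e ▸ a1]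
  have h7 : (1 + 1 : K) = -1 := by
    rcases h5 (1 + 1) with e | e | e
    · exact absurd (by linear_combination -e) h6
    · exact absurd (by linear_combination e) (one_ne_zero (α := K))
    · exact e
  have hsw : ∀ t u : K, cm hσ (x k l t) (x i j u) = cm hσ (x i j t) (x k l u) := fun t u => by
    rw [← ((h.mon_w hik hij hjk.symm one_ne_zero).mul
      (h.mon_w hjl hij.symm hil.symm one_ne_zero)).cm_eq hσ hij hkl (h.comm hij hkl hil hjk t u)]
    simp [Equiv.swap_apply_def, hij, hij.symm, hil, hil.symm, hik, hik.symm, hjk, hjk.symm, hjl,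
      hjl.symm, hkl, hkl.symm]
  have hl : ∀ t u : K, cm hσ (x i j (-t)) (x k l u) = (cm hσ (x i j t) (x k l u))⁻¹ := fun t u => by
    have h1 := cm_add_left hσ h hij hkl hil hjk 0 0 u
    rw [add_zero, left_eq_mul] at h1
    rw [eq_inv_iff_mul_eq_one, ← cm_add_left hσ h hij hkl hil hjk, add_neg_cancel, h1]
  have hsk : ∀ t u : K, cm hσ (x i j u) (x k l t) = (cm hσ (x i j t) (x k l u))⁻¹ := fun t u => by
    rw [← hsw, cm_swap]
  have h11 : cm hσ (x i j 1) (x k l 1) = 1 := by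
    have e1 := cm_add_left hσ h hij hkl hil hjk 1 1 1
    rw [h7, hl, ← hsk] at e1
    exact left_eq_mul.1 e1
  have h0 : ∀ u : K, cm hσ (x i j 0) (x k l u) = 1 := fun u => by
    have h1 := cm_add_left hσ h hij hkl hil hjk 0 0 u
    rwa [add_zero, left_eq_mul] at h1
  have h1 : ∀ t : K, cm hσ (x i j t) (x k l 1) = 1 := fun t => by
    rcases h5 t with rfl | rfl | rfl
    exacts [h0 1, h11, by rw [hl, h11, inv_one]]
  rcases h5 t with rfl | rfl | rfl
  · exact h0 u
  · rw [hsk, h1, inv_one]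
  · rw [hl, hsk, h1, inv_one, inv_one]

omit [DecidableEq ι] in
theorem cm_hall (H1 : ∀ {i j k l : ι}, i ≠ j → k ≠ l → i ≠ l → j ≠ k → ∀ t u,
      cm hσ (x i j t) (x k l u) = 1) {m i j k : ι} (hmi : m ≠ i) (hmj : m ≠ j) (hmk : m ≠ k)
    (hij : i ≠ j) (hik : i ≠ k) (hjk : j ≠ k) (t u : K) :
    cm hσ (x m j t) (x j k u) = cm hσ (x m i 1) (x i k (t * u)) := by
  set a := sec hσ (x m i 1)
  set b := sec hσ (x i j t)
  set c := sec hσ (x j k u)
  have e1 : σ ⁅a, b⁆ = x m j t := by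
    rw [map_commutatorElement, map_sec, map_sec, commutatorElement_def, h.step hmi hij hmj, one_mul]
  have e2 : σ ⁅b, c⁆ = x i k (t * u) := by
    rw [map_commutatorElement, map_sec, map_sec, commutatorElement_def, h.step hij hjk hik]
  have e3 : σ ⁅⁅a, b⁆, c⁆ = x m k (t * u) := by
    rw [map_commutatorElement, e1, map_sec, commutatorElement_def, h.step hmj hjk hmk]
  have c1 : Commute a c := commute_of_cm hσ (H1 hmi hjk hmk hij _ _) (map_sec _ _) (map_sec _ _)
  have c2 : Commute ⁅a, b⁆ ⁅b, c⁆ := commute_of_cm hσ (H1 hmj hik hmk hij.symm _ _) e1 e2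
  have c3 : Commute ⁅b, c⁆ ⁅⁅a, b⁆, c⁆ := commute_of_cm hσ (H1 hik hmk hik hmk.symm _ _) e2 e3
  rw [← e1, ← e2, ← map_sec hσ (x j k u), ← map_sec hσ (x m i 1), ← cm_eq, ← cm_eq]
  have e4 : a * ⁅b, c⁆ * a⁻¹ = ⁅a, b⁆ * ⁅b, c⁆ * ⁅a, b⁆⁻¹ * ⁅⁅a, b⁆, c⁆ := by
    rw [conjugate_commutatorElement, c1.eq, mul_inv_cancel_right]
    simp only [commutatorElement_def]
    group
  rw [commutatorElement_def a ⁅b, c⁆, e4, c2.eq, mul_inv_cancel_right, c3.eq, mul_inv_cancel_right]

omit [DecidableEq ι] h in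
theorem closure_cubes [Finite K] (h4 : Nat.card K ≠ 4) :
    Subfield.closure {c : K | ∃ a, c = a ^ 3} = ⊤ := by
  set S := Subfield.closure {c : K | ∃ a, c = a ^ 3}
  by_contra hS
  have := Fintype.ofFinite K
  classical
  have h1 : Fintype.card K = Fintype.card S ^ Module.finrank S K := Module.card_eq_pow_finrank
  have h2 : 2 ≤ Module.finrank S K := by
    by_contra h2
    have : Module.finrank S K = 1 := by have := Module.finrank_pos (R := S) (M := K); omega
    rw [this, pow_one] at h1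
    apply hS
    have hb := (Fintype.bijective_iff_injective_and_card (Subtype.val : S → K)).2
      ⟨Subtype.val_injective, h1.symm⟩
    rw [eq_top_iff]
    intro y _
    obtain ⟨z, rfl⟩ := hb.2 y
    exact z.2
  have h3 : Fintype.card K - 1 ∣ 3 * (Fintype.card S - 1) := by
    rw [← FiniteField.forall_pow_eq_one_iff]
    intro a
    have hm : (a : K) ^ 3 ∈ S := Subfield.subset_closure ⟨a, rfl⟩
    have := FiniteField.pow_card_sub_one_eq_one (⟨_, hm⟩ : S) (fun e => by simpa using congrArg Subtype.val e)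
    ext
    simpa [pow_mul] using congrArg Subtype.val this
  have h5 : 1 < Fintype.card S := Fintype.one_lt_card
  have h6 := Nat.le_of_dvd (by omega) h3
  rw [Nat.card_eq_fintype_card] at h4
  have h7 : Fintype.card S ^ 2 ≤ Fintype.card K := h1 ▸ Nat.pow_le_pow_right (by omega) h2
  generalize Fintype.card S = s at *
  generalize Fintype.card K = q at *
  have h8 : s = 2 := by
    by_contra h8
    have : 3 ≤ s := by omega
    have : s * s ≥ 3 * s := by nlinarith
    rw [sq] at h7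
    omega
  subst h8
  omega

theorem cm_three [Finite K] (h4 : Nat.card K ≠ 4)
    (H1 : ∀ {i j k l : ι}, i ≠ j → k ≠ l → i ≠ l → j ≠ k → ∀ t u,
      cm hσ (x i j t) (x k l u) = 1) {i j k : ι} (hij : i ≠ j) (hik : i ≠ k) (hjk : j ≠ k)
    (t u : K) : cm hσ (x i j t) (x j k u) = cm hσ (x i j 1) (x j k (t * u)) := by
  have e1 : ∀ t u, σ (cm hσ (x i j t) (x j k u)) = x i k (t * u) := fun t u => by
    rw [map_cm, commutatorElement_def, h.step hij hjk hik]
  have hl : ∀ t t' u, cm hσ (x i j (t + t')) (x j k u) =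
      cm hσ (x i j t') (x j k u) * cm hσ (x i j t) (x j k u) := fun t t' u => by
    rw [← h.add hij, cm_mul_left hσ (commute_of_cm hσ (H1 hij hik hik hij.symm _ _)
      (map_sec _ _) (e1 _ _))]
  have hr : ∀ t u u', cm hσ (x i j t) (x j k (u + u')) =
      cm hσ (x i j t) (x j k u) * cm hσ (x i j t) (x j k u') := fun t u u' => by
    rw [← h.add hjk, cm_mul_right hσ (commute_of_cm hσ (H1 hjk hik hjk hik.symm _ _)
      (map_sec _ _) (e1 _ _))]
  have hcube : ∀ a : K, a ≠ 0 → ∀ t u, cm hσ (x i j (a ^ 3 * t)) (x j k u) =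
      cm hσ (x i j t) (x j k (a ^ 3 * u)) := by
    intro a ha t u
    obtain ⟨g, d, hm, d1, d2, d3⟩ := mon_hh h hij hik hjk ha
    have hc : ∀ s, Commute g (x i k s) := hm.commute_x hik (d1.trans d2.symm)
    have hχ : ∀ s, cm hσ (x i k s) g = 1 := by
      intro s
      obtain ⟨p, hp⟩ := CharP.exists K
      have := Fintype.ofFinite K
      obtain ⟨n, hp', hn⟩ := FiniteField.card K p
      have p1 : ∀ m : ℕ, cm hσ (x i k s) (g ^ m) = cm hσ (x i k s) g ^ m := fun m => by
        induction m with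
        | zero => simpa using cm_pow_self hσ (x i k s) 0
        | succ m ih => rw [pow_succ, cm_mul_right' hσ (hc s).symm, ih, pow_succ]
      have p2 : ∀ m : ℕ, cm hσ (x i k (m * s)) g = cm hσ (x i k s) g ^ m := fun m => by
        induction m with
        | zero =>
          rw [Nat.cast_zero, zero_mul, h.zero hik, cm_swap, pow_zero, inv_eq_one]
          simpa using cm_pow_self hσ g 0
        | succ m ih =>
          rw [Nat.cast_succ, add_mul, one_mul, ← h.add hik, cm_mul_left' hσ (hc s).symm, ih,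
            pow_succ']
      have p3 : cm hσ (x i k s) g ^ (Fintype.card K - 1) = 1 := by
        have hm' := hm.pow (Fintype.card K - 1)
        have hd : ∀ i, d i ^ (Fintype.card K - 1) = 1 := fun i =>
          FiniteField.pow_card_sub_one_eq_one _ (hm.1 i)
        rw [← p1, ← mul_one s, ← h.step hij hjk hik]
        exact cm_comm_eq_one hσ (hm'.commute_x hij (by simp only [hd]) _)
          (hm'.commute_x hjk (by simp only [hd]) _)
      have p4 : cm hσ (x i k s) g ^ Fintype.card K = 1 := by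
        rw [← p2, FiniteField.cast_card_eq_zero, ← Nat.cast_zero, p2, pow_zero]
      have p5 : Fintype.card K = Fintype.card K - 1 + 1 := by
        have := Fintype.card_pos (α := K); omega
      rwa [p5, pow_succ, p3, one_mul] at p4
    have e2 := cm_conj hσ (sec hσ g) (x i j t) (x j k (a ^ 3 * u))
    rw [← (commute_of_cm hσ (hχ _) (e1 _ _) (map_sec _ _)).eq, mul_inv_cancel_right, map_sec,
      ← conj_apply, ← conj_apply, hm.2 _ _ hij, hm.2 _ _ hjk, d1, d2, d3] at e2
    rw [e2]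
    congr 2
    · field_simp
    · field_simp
  have key : ∀ c ∈ Subfield.closure {c : K | ∃ a, c = a ^ 3}, ∀ t u,
      cm hσ (x i j (c * t)) (x j k u) = cm hσ (x i j t) (x j k (c * u)) := by
    have h0 : ∀ t u, cm hσ (x i j (0 * t)) (x j k u) = cm hσ (x i j t) (x j k (0 * u)) := by
      intro t u
      have a1 := hl 0 0 u
      have a2 := hr t 0 0
      rw [add_zero, left_eq_mul] at a1 a2
      rw [zero_mul, zero_mul, a1, a2]
    intro c hc
    induction hc using Subfield.closure_induction with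
    | mem c hc =>
      obtain ⟨a, rfl⟩ := hc
      by_cases ha : a = 0
      · simpa [ha] using h0
      · exact hcube a ha
    | one => simp
    | add a b _ _ ha hb => intro t u; rw [add_mul, hl, ha, hb, ← hr, add_mul, add_comm]
    | neg a _ ha =>
      intro t u
      have := hcube (-1) (by simp) (a * t) u
      rw [show (-1 : K) ^ 3 = -1 by ring] at this
      rw [show -a * t = -1 * (a * t) by ring, this, ha]
      congr 2
      ring
    | inv a _ ha =>
      intro t u
      by_cases h : a = 0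
      · simpa [h] using h0 t u
      rw [← mul_inv_cancel_left₀ h u, ← ha, mul_inv_cancel_left₀ h, mul_inv_cancel_left₀ h]
    | mul a b _ _ ha hb => intro t u; rw [mul_assoc, ha, hb, mul_left_comm, mul_assoc]
  rw [← key t (by rw [closure_cubes h4]; trivial), mul_one]

omit [DecidableEq ι] in
theorem exists_stR_lift (h3 : ∀ k l : ι, ∃ m, k ≠ m ∧ l ≠ m)
    (H1 : ∀ {i j k l : ι}, i ≠ j → k ≠ l → i ≠ l → j ≠ k → ∀ t u, cm hσ (x i j t) (x k l u) = 1)
    (H2 : ∀ {i j j' k : ι}, i ≠ j → j ≠ k → i ≠ k → i ≠ j' → k ≠ j' → ∀ t u,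
      cm hσ (x i j t) (x j k u) = cm hσ (x i j' 1) (x j' k (t * u))) :
    ∃ y : ι → ι → K → Γ, StR y ∧ ∀ i j, i ≠ j → ∀ t, σ (y i j t) = x i j t := by
  choose m m1 m2 using h3
  have e : ∀ i j, i ≠ j → ∀ t, σ (cm hσ (x i (m i j) 1) (x (m i j) j t)) = x i j t :=
    fun i j hij t => by
      rw [map_cm, commutatorElement_def, h.step (m1 i j) (m2 i j).symm hij, one_mul]
  refine ⟨fun i j t => cm hσ (x i (m i j) 1) (x (m i j) j t), ⟨fun {i j} hij t u => ?_,
    fun {i j k l} hij hkl hil hjk t u => ?_, fun {i j l} hij hjl hil t u => ?_⟩, e⟩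
  · rw [← h.add (m2 i j).symm, cm_mul_right hσ (commute_of_cm hσ
      (H1 (m2 i j).symm hij (m2 i j).symm hij.symm _ _) (map_sec _ _) (e i j hij _))]
  · exact commute_of_cm hσ (H1 hij hkl hil hjk t u) (e i j hij t) (e k l hkl u)
  · rw [← commutatorElement_def, cm_eq hσ, e i j hij, e j l hjl, H2 hij hjl hil (m1 i l) (m2 i l)]

omit h in
theorem exists_ne_of_card [Fintype ι] (s : Finset ι) (hs : s.card < Fintype.card ι) :
    ∃ m, m ∉ s := by
  by_contra hc
  push Not at hc
  exact absurd (Finset.card_le_card (s := Finset.univ) fun m _ => hc m) (by simpa using hs)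

include hσ in
theorem exists_stR_lift' [Fintype ι] [Finite K] (hn : 3 ≤ Fintype.card ι)
    (h3 : Fintype.card ι = 3 → Nat.card K ≠ 2 ∧ Nat.card K ≠ 4)
    (h4 : Fintype.card ι = 4 → Nat.card K ≠ 2) :
    ∃ y : ι → ι → K → Γ, StR y ∧ ∀ i j, i ≠ j → ∀ t, σ (y i j t) = x i j t := by
  have := Fintype.ofFinite K
  have hq : 1 < Fintype.card K := Fintype.one_lt_card
  rw [Nat.card_eq_fintype_card] at h3 h4
  have ha3 : Fintype.card ι = 3 → ∃ a : K, a ≠ 0 ∧ a ^ 3 ≠ 1 := fun e => by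
    by_contra hc
    push Not at hc
    have h1 := (FiniteField.forall_pow_eq_one_iff K 3).1 fun a => Units.ext (by
      simpa using hc a a.ne_zero)
    have := h3 e
    rcases (Nat.dvd_prime Nat.prime_three).1 h1 with h | h <;> omega
  have h4' : ∀ a b c : ι, Fintype.card ι ≠ 3 → ∃ m, a ≠ m ∧ b ≠ m ∧ c ≠ m := fun a b c e => by
    obtain ⟨m, hm⟩ := exists_ne_of_card {a, b, c} (Finset.card_le_three.trans_lt (by omega))
    exact ⟨m, by simpa [not_or, eq_comm] using hm⟩
  have H1 : ∀ {i j k l : ι}, i ≠ j → k ≠ l → i ≠ l → j ≠ k → ∀ t u,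
      cm hσ (x i j t) (x k l u) = 1 := by
    intro i j k l hij hkl hil hjk t u
    by_cases hik : i = k
    · subst hik
      by_cases hjl : j = l
      · subst hjl
        obtain ⟨m, m1, m2⟩ := exists_third hn i j
        exact cm_of_index hσ h hij hkl hil hjk m1 m2 m1 m2 t u
      by_cases e : Fintype.card ι = 3
      · obtain ⟨a, a1, a2⟩ := ha3 e
        exact cm_row hσ h hij hil hjl a1 a2 t u
      · obtain ⟨m, m1, m2, m3⟩ := h4' i j l e
        exact cm_of_index hσ h hij hkl hil hjk m1 m2 m1 m3 t u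
    by_cases hjl : j = l
    · subst hjl
      by_cases e : Fintype.card ι = 3
      · obtain ⟨a, a1, a2⟩ := ha3 e
        exact cm_col hσ h hij hik hkl a1 a2 t u
      · obtain ⟨m, m1, m2, m3⟩ := h4' i j k e
        exact cm_of_index hσ h hij hkl hil hjk m1 m2 m3 m2 t u
    by_cases e : 5 ≤ Fintype.card ι
    · obtain ⟨m, hm⟩ := exists_ne_of_card {i, j, k, l} (Finset.card_le_four.trans_lt (by omega))
      simp only [Finset.mem_insert, Finset.mem_singleton, not_or] at hm
      exact cm_of_index hσ h hij hkl hil hjk (Ne.symm hm.1) (Ne.symm hm.2.1) (Ne.symm hm.2.2.1)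
        (Ne.symm hm.2.2.2) t u
    · refine cm_disj hσ h hij hkl hil hjk hik hjl ?_ t u
      by_contra hc
      push Not at hc
      have h1 := (FiniteField.forall_pow_eq_one_iff K 1).1 fun a => Units.ext (by
        simpa using hc a a.ne_zero)
      rw [Nat.dvd_one] at h1
      omega
  refine exists_stR_lift hσ h (exists_third hn) H1 fun {i j j' k} hij hjk hik hij' hkj' t u => ?_
  by_cases hjj : j = j'
  · subst hjj
    by_cases e : Fintype.card ι = 3
    · exact cm_three hσ h (by rw [Nat.card_eq_fintype_card]; exact (h3 e).2) H1 hij hik hjk t u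
    · obtain ⟨m, m1, m2, m3⟩ := h4' i j k e
      rw [cm_hall hσ h H1 m1 hij hik m2.symm m3.symm hjk, cm_hall hσ h H1 m1 hij hik m2.symm
        m3.symm hjk, one_mul]
  · exact cm_hall hσ h H1 hij' hij hik (Ne.symm hjj) hkj'.symm hjk t u

omit h in
theorem commutator_SL [Fintype ι] (hn : 3 ≤ Fintype.card ι) :
    commutator (Matrix.SpecialLinearGroup ι K) = ⊤ := by
  refine eq_top_of_xSL_mem fun i j hij t => ?_
  obtain ⟨m, m1, m2⟩ := exists_third hn i j
  rw [← mul_one t, ← stR_xSL.step m1 m2.symm hij]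
  exact Subgroup.commutator_mem_commutator (Subgroup.mem_top _) (Subgroup.mem_top _)

omit h in
/-- stem extensions of `SL_n(q)`, `n ≥ 3`, are trivial apart from the three exceptions -/
theorem ker_eq_bot_SL [Fintype ι] [Finite K] (hn : 3 ≤ Fintype.card ι)
    (h3 : Fintype.card ι = 3 → Nat.card K ≠ 2 ∧ Nat.card K ≠ 4)
    (h4 : Fintype.card ι = 4 → Nat.card K ≠ 2) {τ : Γ →* Matrix.SpecialLinearGroup ι K}
    (hτ : IsStemExtension τ) : τ.ker = ⊥ := by
  obtain ⟨y, hy, hy'⟩ := exists_stR_lift' hτ stR_xSL hn h3 h4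
  obtain ⟨f, hf⟩ := hy.exists_hom hn
  have e : τ.comp f = MonoidHom.id _ := by
    refine MonoidHom.eq_of_eqOn_dense (s := {g | ∃ i j, i ≠ j ∧ ∃ t, g = xSL i j t})
      (eq_top_of_xSL_mem fun i j h t => Subgroup.subset_closure ⟨i, j, h, t, rfl⟩) ?_
    rintro _ ⟨i, j, h, t, rfl⟩
    simp [hf i j h, hy' i j h]
  have e' : ∀ g, τ (f g) = g := fun g => DFunLike.congr_fun e g
  have h1 : commutator Γ ≤ f.range := by
    rw [commutator_def, Subgroup.commutator_le]
    intro a _ b _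
    refine ⟨⁅τ a, τ b⁆, ?_⟩
    rw [map_commutatorElement, cm_eq hτ, cm_eq hτ, e', e']
  rw [eq_bot_iff]
  intro z hz
  obtain ⟨g, rfl⟩ := h1 (hτ.2.2 hz)
  rw [MonoidHom.mem_ker, e'] at hz
  rw [hz, map_one]
  exact Subgroup.one_mem _

end Cfsg.Agent.SLn
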