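import Cfsg.Agent.Lib.SLn.PresAlt
import Cfsg.Agent.Lib.Alt.PresSmall

/-!
# Bounded presentations of `SL_n(q)`, `n ≥ 4`
-/

set_option autoImplicit false

namespace Cfsg.Agent.SLn

open MulAut Polynomial Cfsg.Agent.Pres
open Equiv (Perm swap)
open Cfsg.Agent.SL2 (word)
open scoped commutatorElement

variable {ι : Type} {K : Type*} [Fintype ι] [DecidableEq ι] [Field K]

theorem exists_perm_four {a b c d a' b' c' d' : ι} (h1 : a ≠ b) (h2 : a ≠ c) (h3 : a ≠ d)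
    (h4 : b ≠ c) (h5 : b ≠ d) (h6 : c ≠ d) (h1' : a' ≠ b') (h2' : a' ≠ c') (h3' : a' ≠ d')
    (h4' : b' ≠ c') (h5' : b' ≠ d') (h6' : c' ≠ d') :
    ∃ σ : Perm ι, σ a = a' ∧ σ b = b' ∧ σ c = c' ∧ σ d = d' := by
  have inj : ∀ {a b c d : ι}, a ≠ b → a ≠ c → a ≠ d → b ≠ c → b ≠ d → c ≠ d →
      Function.Injective ![a, b, c, d] := by
    intro a b c d h1 h2 h3 h4 h5 h6 i j
    fin_cases i <;> fin_cases j <;> simp [*, Ne.symm]
  obtain ⟨σ, hσ⟩ := Equiv.Perm.exists_extending_pair _ _ (inj h1 h2 h3 h4 h5 h6)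
    (inj h1' h2' h3' h4' h5' h6')
  exact ⟨σ, hσ 0, hσ 1, hσ 2, hσ 3⟩

theorem alt_or (σ : Perm ι) {a b : ι} (h : a ≠ b) :
    σ ∈ alternatingGroup ι ∨ σ * swap a b ∈ alternatingGroup ι := by
  simp only [Equiv.Perm.mem_alternatingGroup, map_mul, Equiv.Perm.sign_swap h]
  rcases Int.units_eq_one_or (Perm.sign σ) with e | e <;> simp [e]

theorem exists_fourth (h : 4 ≤ Fintype.card ι) (i j k : ι) : ∃ r, i ≠ r ∧ j ≠ r ∧ k ≠ r := by
  by_contra hc
  push Not at hc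
  have : (Finset.univ : Finset ι) ⊆ {i, j, k} := fun m _ => by
    by_cases e : i = m
    · simp [e]
    by_cases e' : j = m
    · simp [e']
    · simp [hc m e e']
  have h1 := Finset.card_le_card this
  have h2 : ({i, j, k} : Finset ι).card ≤ 3 := Finset.card_le_three
  rw [Finset.card_univ] at h1
  omega

/-- the relators -/
noncomputable def rels4 {J : Type*} [Group J] (i0 i1 i2 i3 : ι) (L : List (alternatingGroup ι))
    (T : List ι) (p : ℕ) (mp : ℤ[X]) (α : alternatingGroup ι → J) (h u : J) : List J :=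
  let H := cA (alternatingGroup ι).subtype i0 i1 α h
  let U := cA (alternatingGroup ι).subtype i0 i1 α u
  L.map (fun l => ⁅α l, h⁆) ++ L.map (fun l => ⁅α l, u⁆) ++
    T.map (fun r => H i0 i1 * H i1 r * (H i0 r)⁻¹) ++
    T.map (fun r => ⁅U i0 i1, U i1 r⁆ * (U i0 r)⁻¹) ++
    [⁅H i0 i1, H i0 i2⁆, ⁅H i0 i2 * H i1 i2, U i0 i1⁆, ⁅H i2 i3, U i0 i1⁆, ⁅U i0 i1, U i0 i2⁆,
      ⁅U i0 i1, U i2 i1⁆, ⁅U i0 i1, U i2 i3⁆, ⁅U i0 i1, U i3 i2⁆, U i0 i1 ^ p,
      word (U i0 i1) (H i0 i2) mp]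

theorem map_rels4 {J J' : Type*} [Group J] [Group J'] (φ : J →* J') (i0 i1 i2 i3 : ι)
    (L : List (alternatingGroup ι)) (T : List ι) (p : ℕ) (mp : ℤ[X])
    (α : alternatingGroup ι → J) (h u : J) :
    (rels4 i0 i1 i2 i3 L T p mp α h u).map φ =
      rels4 i0 i1 i2 i3 L T p mp (fun a => φ (α a)) (φ h) (φ u) := by
  simp [rels4, map_cA, SL2.map_word, map_commutatorElement, Function.comp_def]

theorem card_four [Finite K] {ζ : Kˣ} (hζ : ∀ u, u ∈ Subgroup.zpowers ζ) {p : ℕ} {mp : ℤ[X]}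
    (hm : ∀ f : ℤ[X], aeval (ζ : K) f = 0 → ∃ g r : ℤ[X], f = g * mp + r * C (p : ℤ))
    {i0 i1 i2 i3 : ι} (h01 : i0 ≠ i1) (h02 : i0 ≠ i2) (h03 : i0 ≠ i3) (h12 : i1 ≠ i2)
    (h13 : i1 ≠ i3) (h23 : i2 ≠ i3) {L : List (alternatingGroup ι)}
    (hL : ∀ σ : alternatingGroup ι, σ.1 i0 = i0 → σ.1 i1 = i1 → σ ∈ Subgroup.closure {l | l ∈ L})
    {T : List ι} (hT0 : ∀ r ∈ T, i0 ≠ r ∧ i1 ≠ r) (hT : ∀ i j k, i ≠ j → j ≠ k → i ≠ k →
      ∃ σ : alternatingGroup ι, ∃ r ∈ T, σ.1 i0 = i ∧ σ.1 i1 = j ∧ σ.1 r = k)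
    {σ0 : alternatingGroup ι} (hσ0 : Subgroup.normalClosure {σ0} = ⊤)
    {J : Type*} [Group J] (α : alternatingGroup ι →* J) (h u : J)
    (hgen : Subgroup.closure (Set.range α ∪ Set.range ![h, u]) = ⊤)
    (hr : ∀ w ∈ rels4 i0 i1 i2 i3 L T p mp α h u, w = 1)
    (hk : α σ0 ∈ Subgroup.normalClosure {u}) :
    Finite J ∧ Nat.card J ≤ Nat.card (Matrix.SpecialLinearGroup ι K) := by
  have h4 : 4 ≤ Fintype.card ι := by
    have := Finset.card_le_univ ({i0, i1, i2, i3} : Finset ι)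
    rwa [Finset.card_insert_of_notMem (by simp [*]), Finset.card_insert_of_notMem (by simp [*]),
      Finset.card_insert_of_notMem (by simp [*]), Finset.card_singleton] at this
  have h3 := exists_third (ι := ι) (by omega)
  simp only [rels4, List.forall_mem_append, List.forall_mem_map, List.forall_mem_cons,
    commutatorElement_eq_one_iff_commute, mul_inv_eq_one] at hr
  obtain ⟨⟨⟨⟨r1, r2⟩, r3⟩, r4⟩, r5, r6, r7, r8, r9, r10, r11, r12, r13, -⟩ := hr
  set ρ := (alternatingGroup ι).subtype with hρ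
  set H := cA ρ i0 i1 α h
  set U := cA ρ i0 i1 α u
  have hh : ∀ σ, ρ σ i0 = i0 → ρ σ i1 = i1 → Commute (α σ) h :=
    fun σ a b => commute_of_list r1 (hL σ a b)
  have hu : ∀ σ, ρ σ i0 = i0 → ρ σ i1 = i1 → Commute (α σ) u :=
    fun σ a b => commute_of_list r2 (hL σ a b)
  have tr2 : ∀ i j, i ≠ j → ∃ σ, ρ σ i0 = i ∧ ρ σ i1 = j := fun i j hij => by
    obtain ⟨k, a, b⟩ := h3 i j
    obtain ⟨σ, r, -, c, d, -⟩ := hT i j k hij b a
    exact ⟨σ, c, d⟩
  have cH : ∀ σ {i j}, i ≠ j → conj (α σ) (H i j) = H (ρ σ i) (ρ σ j) :=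
    fun σ i j hij => conj_cA hh (tr2 i j hij) σ
  have cU : ∀ σ {i j}, i ≠ j → conj (α σ) (U i j) = U (ρ σ i) (ρ σ j) :=
    fun σ i j hij => conj_cA hu (tr2 i j hij) σ
  have t23 : ∀ i j k l, i ≠ j → i ≠ k → i ≠ l → j ≠ k → j ≠ l → k ≠ l → ∃ σ, ρ σ i0 = i ∧
      ρ σ i1 = j ∧ (ρ σ i2 = k ∧ ρ σ i3 = l ∨ ρ σ i2 = l ∧ ρ σ i3 = k) := by
    intro i j k l a1 a2 a3 a4 a5 a6
    obtain ⟨σ, b1, b2, b3, b4⟩ := exists_perm_four h01 h02 h03 h12 h13 h23 a1 a2 a3 a4 a5 a6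
    rcases alt_or σ h23 with e | e
    · exact ⟨⟨σ, e⟩, b1, b2, Or.inl ⟨b3, b4⟩⟩
    · refine ⟨⟨_, e⟩, ?_, ?_, Or.inr ⟨?_, ?_⟩⟩ <;>
        simp [ρ, Equiv.swap_apply_of_ne_of_ne, *]
  have t12 : ∀ i j k, i ≠ j → j ≠ k → i ≠ k → ∃ σ, ρ σ i0 = i ∧
      (ρ σ i1 = j ∧ ρ σ i2 = k ∨ ρ σ i1 = k ∧ ρ σ i2 = j) := by
    intro i j k a1 a2 a3
    obtain ⟨l, a4, a5, a6⟩ := exists_fourth h4 i j k
    obtain ⟨σ, b1, b2, b3, -⟩ := exists_perm_four h01 h02 h03 h12 h13 h23 a1 a3 a4 a2 a5 a6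
    rcases alt_or σ h12 with e | e
    · exact ⟨⟨σ, e⟩, b1, Or.inl ⟨b2, b3⟩⟩
    · refine ⟨⟨_, e⟩, ?_, Or.inr ⟨?_, ?_⟩⟩ <;> simp [ρ, Equiv.swap_apply_of_ne_of_ne, *]
  have t02 : ∀ i j k, i ≠ j → j ≠ k → i ≠ k → ∃ σ, ρ σ i1 = j ∧
      (ρ σ i0 = i ∧ ρ σ i2 = k ∨ ρ σ i0 = k ∧ ρ σ i2 = i) := by
    intro i j k a1 a2 a3
    obtain ⟨l, a4, a5, a6⟩ := exists_fourth h4 i j k
    obtain ⟨σ, b1, b2, b3, -⟩ := exists_perm_four h01 h02 h03 h12 h13 h23 a1 a3 a4 a2 a5 a6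
    rcases alt_or σ h02 with e | e
    · exact ⟨⟨σ, e⟩, b2, Or.inl ⟨b1, b3⟩⟩
    · refine ⟨⟨_, e⟩, ?_, Or.inr ⟨?_, ?_⟩⟩ <;>
        simp [ρ, Equiv.swap_apply_of_ne_of_ne, h01.symm, *]
  have hmul : ∀ i j k, i ≠ j → j ≠ k → i ≠ k → H i j * H j k = H i k := by
    intro i j k a1 a2 a3
    obtain ⟨σ, r, hr, rfl, rfl, rfl⟩ := hT i j k a1 a2 a3
    have := congrArg (conj (α σ)) (r3 r hr)
    rwa [map_mul, cH σ h01, cH σ (hT0 r hr).2, cH σ (hT0 r hr).1] at this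
  have tor : Tor fun i j => if i = j then 1 else H i j := by
    refine Tor.of_rel h3 hmul fun i j k a1 a2 a3 => ?_
    obtain ⟨σ, rfl, ⟨rfl, rfl⟩ | ⟨rfl, rfl⟩⟩ := t12 i j k a1 a2 a3 <;>
    · have := r5.map (conj (α σ))
      rw [cH σ h01, cH σ h02] at this
      first | exact this | exact this.symm
  set H' : ι → ι → J := fun i j => if i = j then 1 else H i j
  have hH' : ∀ {i j}, i ≠ j → H' i j = H i j := fun hij => if_neg hij
  let r : ι → ι → ι := fun i j => ρ (tau ρ i0 i1 i j) i2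
  have hr : ∀ {i j}, i ≠ j → i ≠ r i j ∧ j ≠ r i j ∧ Commute (H i (r i j) * H j (r i j)) (U i j) ∧
      U i j ^ p = 1 ∧ word (U i j) (H i (r i j)) mp = 1 := by
    intro i j hij
    obtain ⟨a, b⟩ := tau_spec ρ i0 i1 (tr2 i j hij)
    have e1 := r6.map (conj (α (tau ρ i0 i1 i j)))
    have e2 := congrArg (conj (α (tau ρ i0 i1 i j))) r12
    have e3 := congrArg (conj (α (tau ρ i0 i1 i j))).toMonoidHom r13
    rw [map_mul, cH _ h02, cH _ h12, cU _ h01, a, b] at e1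
    rw [map_pow, cU _ h01, a, b, map_one] at e2
    rw [SL2.map_word, map_one] at e3
    simp only [MulEquiv.coe_toMonoidHom] at e3
    rw [cH _ h02, cU _ h01, a, b] at e3
    exact ⟨by rw [← a]; exact (ρ _).injective.ne h02 |>.trans_eq (by rw [a]),
      by rw [← b]; exact (ρ _).injective.ne h12 |>.trans_eq (by rw [b]), e1, e2, e3⟩
  have orb : ∀ {i j}, i ≠ j → Orb H' i j fun m => conj (H' i (r i j) ^ m) (U i j) := by
    intro i j hij
    obtain ⟨a1, a2, a3, -⟩ := hr hij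
    refine tor.orb hij a1 a2 (by rwa [hH' a1, hH' a2]) fun k b1 b2 b3 => ?_
    obtain ⟨σ, c1, c2, ⟨c3, c4⟩ | ⟨c3, c4⟩⟩ := t23 i j k (r i j) hij b1.symm a1 b2.symm a2 b3 <;>
    · have := r7.map (conj (α σ))
      rw [cH σ h23, cU σ h01, c1, c2, c3, c4] at this
      first
      | rwa [hH' b3]
      | (rw [← tor.inv, hH' b3.symm]; exact this.inv_left)
  have c1 : ∀ i j k, i ≠ j → j ≠ k → i ≠ k → Commute (U i j) (U i k) := by
    intro i j k a1 a2 a3
    obtain ⟨σ, rfl, ⟨rfl, rfl⟩ | ⟨rfl, rfl⟩⟩ := t12 i j k a1 a2 a3 <;>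
    · have := r8.map (conj (α σ))
      rw [cU σ h01, cU σ h02] at this
      first | exact this | exact this.symm
  have c2 : ∀ i j k, i ≠ j → j ≠ k → i ≠ k → Commute (U i j) (U k j) := by
    intro i j k a1 a2 a3
    obtain ⟨σ, rfl, ⟨rfl, rfl⟩ | ⟨rfl, rfl⟩⟩ := t02 i j k a1 a2 a3 <;>
    · have := r9.map (conj (α σ))
      rw [cU σ h01, cU σ h12.symm] at this
      first | exact this | exact this.symm
  have c3 : ∀ i j k l, i ≠ j → i ≠ k → i ≠ l → j ≠ k → j ≠ l → k ≠ l →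
      Commute (U i j) (U k l) := by
    intro i j k l a1 a2 a3 a4 a5 a6
    obtain ⟨σ, rfl, rfl, ⟨rfl, rfl⟩ | ⟨rfl, rfl⟩⟩ := t23 i j k l a1 a2 a3 a4 a5 a6
    · have := r10.map (conj (α σ))
      rwa [cU σ h01, cU σ h23] at this
    · have := r11.map (conj (α σ))
      rwa [cU σ h01, cU σ h23.symm] at this
  have st : ∀ i j k, i ≠ j → j ≠ k → i ≠ k → ⁅U i j, U j k⁆ = U i k := by
    intro i j k a1 a2 a3
    obtain ⟨σ, r, hr, rfl, rfl, rfl⟩ := hT i j k a1 a2 a3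
    have := congrArg (conj (α σ)) (r4 r hr)
    rwa [map_commutatorElement, cU σ h01, cU σ (hT0 r hr).2, cU σ (hT0 r hr).1] at this
  have rich := rich_one (exists_fourth h4) H'
  have hx : ∀ i j, ∃ x : K → J, i ≠ j → (∀ a b, x a * x b = x (a + b)) ∧
      ∀ m : ℤ, x (ζ ^ m : Kˣ) = conj (H' i (r i j) ^ m) (U i j) := by
    intro i j
    by_cases hij : i = j
    · exact ⟨1, fun h => absurd hij h⟩
    obtain ⟨a1, a2, -, a3, a4⟩ := hr hij
    suffices hc : ∀ m : ℤ, Commute (U i j) (conj (H' i (r i j) ^ m) (U i j)) by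
      obtain ⟨x, hx⟩ := exists_param hζ hm (g := H' i (r i j))
        (fun n => by have := hc n; rwa [zpow_natCast] at this) a3 (by rwa [hH' a1])
      exact ⟨x, fun _ => hx⟩
    intro m
    obtain ⟨k, b1, b2⟩ := h3 i j
    nth_rewrite 1 [← st i k j b1 b2.symm hij]
    have d1 : Commute (U i k) (conj (H' i (r i j) ^ m) (U i j)) := by
      obtain ⟨g, a, hg, e1, e2⟩ := rich j i k (Ne.symm hij) b1 b2 (-m) 0
      have := (c1 i k j b1 b2.symm hij).map (conj g)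
      have f1 := hg i k _ (orb b1) 0
      have f2 := hg i j _ (orb hij) 0
      simp only [zpow_zero, map_one, MulAut.one_apply, zero_add, e2] at f1 f2
      rwa [f1, f2, show a i - a j = m by linear_combination -e1] at this
    have d2 : Commute (U k j) (conj (H' i (r i j) ^ m) (U i j)) := by
      obtain ⟨g, a, hg, e1, e2⟩ := rich i j k hij b2 b1 m 0
      have := (c2 k j i b2.symm (Ne.symm hij) b1.symm).map (conj g)
      have f1 := hg k j _ (orb b2.symm) 0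
      have f2 := hg i j _ (orb hij) 0
      simp only [zpow_zero, map_one, MulAut.one_apply, zero_add,
        show a k - a j = 0 by linear_combination -e2] at f1 f2
      rwa [f1, f2, show a i - a j = m by linear_combination e1] at this
    exact ((d1.mul_left d2).mul_left d1.inv_left).mul_left d2.inv_left
  choose x hx using hx
  have x1 : ∀ {i j}, i ≠ j → x i j 1 = U i j := fun {i j} hij => by simpa using (hx i j hij).2 0
  have ho : ∀ i j, i ≠ j → Orb H' i j fun m => x i j (ζ ^ m : Kˣ) := fun i j hij => by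
    simp only [(hx i j hij).2]; exact orb hij
  have hS : StR x := by
    refine stR_of_rep hζ (span_one hζ) rich (fun i j hij => (hx i j hij).1) ho ?_ ?_ ?_ ?_
    · rintro i j k a1 a2 a3 o rfl
      simpa [x1 a1, x1 a3] using c1 i j k a1 a2 a3
    · rintro i j k a1 a2 a3 o rfl
      simpa [x1 a1, x1 a2.symm] using c2 i j k a1 a2 a3
    · intro i j k l a1 a2 a3 a4 a5 a6
      simpa [x1 a1, x1 a6] using c3 i j k l a1 a2 a3 a4 a5 a6
    · rintro i j k a1 a2 a3 o rfl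
      simpa [x1 a1, x1 a2, x1 a3] using st i j k a1 a2 a3
  have e1 : H' i0 i1 = h := (hH' h01).trans (cA_base hh)
  have e2 : x i0 i1 1 = u := (x1 h01).trans (cA_base hu)
  have hα : ∀ σ, α σ ∈ Subgroup.normalClosure {u} := fun σ => by
    have : Subgroup.normalClosure {σ0} ≤ (Subgroup.normalClosure {u}).comap α :=
      Subgroup.normalClosure_le_normal (by rintro _ rfl; exact hk)
    exact this (hσ0 ▸ Subgroup.mem_top σ)
  refine card_le_of_act (by omega) hζ (ρ := ρ) (α := α) hS ho (fun σ i j hij => ?_)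
    (fun σ i j hij => ?_) h01 (by rwa [e1, e2]) (by rwa [e2]) ?_
  · rw [hH' hij, hH' ((ρ σ).injective.ne hij), cH σ hij]
  · rw [x1 hij, x1 ((ρ σ).injective.ne hij), cU σ hij]
  · rw [e1, e2, ← QuotientGroup.eq_one_iff]
    have q : ∀ i j, (QuotientGroup.mk' (Subgroup.normalClosure {u})) (H i j) =
        QuotientGroup.mk' (Subgroup.normalClosure {u}) h := fun i j => by
      have := (QuotientGroup.eq_one_iff _).2 (hα (tau ρ i0 i1 i j))
      simp [H, cA, this]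
    have := congrArg (QuotientGroup.mk' (Subgroup.normalClosure {u})) (hmul i0 i1 i2 h01 h12 h02)
    rw [map_mul, q, q, q] at this
    exact mul_eq_left.1 this

theorem sign_alt (σ : alternatingGroup ι) :
    ((Perm.sign ((alternatingGroup ι).subtype σ) : ℤ) : K) = 1 := by
  have : Perm.sign ((alternatingGroup ι).subtype σ) = 1 := σ.2
  rw [this]; simp

theorem hasPres_four [Finite K] {i0 i1 i2 i3 : ι} (h01 : i0 ≠ i1) (h02 : i0 ≠ i2) (h03 : i0 ≠ i3)
    (h12 : i1 ≠ i2) (h13 : i1 ≠ i3) (h23 : i2 ≠ i3) {L : List (alternatingGroup ι)}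
    (hL0 : ∀ σ ∈ L, σ.1 i0 = i0 ∧ σ.1 i1 = i1)
    (hL : ∀ σ : alternatingGroup ι, σ.1 i0 = i0 → σ.1 i1 = i1 → σ ∈ Subgroup.closure {l | l ∈ L})
    {T : List ι} (hT0 : ∀ r ∈ T, i0 ≠ r ∧ i1 ≠ r) (hT : ∀ i j k, i ≠ j → j ≠ k → i ≠ k →
      ∃ σ : alternatingGroup ι, ∃ r ∈ T, σ.1 i0 = i ∧ σ.1 i1 = j ∧ σ.1 r = k)
    {X : Type} {π : X → alternatingGroup ι} {r : ℕ} (hπ : HasPres π r) :
    ∃ π' : X ⊕ Fin 2 → Matrix.SpecialLinearGroup ι K,
      HasPres π' (r + (2 * L.length + 2 * T.length + 10)) := by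
  have := Fintype.ofFinite K
  obtain ⟨ζ, hζ⟩ := IsCyclic.exists_generator (α := Kˣ)
  obtain ⟨p, hp, _⟩ := SL2.exists_char (F := K)
  have := Fact.mk hp
  obtain ⟨mp, hm0, hm⟩ := SL2.exists_minpoly_lift p (ζ : K)
  have h3 : ∀ k l : ι, ∃ m, k ≠ m ∧ l ≠ m := exists_third (by
    have := Finset.card_le_univ ({i0, i1, i2} : Finset ι)
    rwa [Finset.card_insert_of_notMem (by simp [*]), Finset.card_insert_of_notMem (by simp [*]),
      Finset.card_singleton] at this)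
  have hσ0 : Subgroup.normalClosure {Alt.t3 i2 i0 i1} = ⊤ := by
    rw [eq_top_iff, ← Alt.closure_star_t3 h01, Subgroup.closure_le]
    rintro _ ⟨⟨a, a0, a1⟩, rfl⟩
    have hm : Alt.t3 i2 i0 i1 ∈ Subgroup.normalClosure {Alt.t3 i2 i0 i1} :=
      Subgroup.subset_normalClosure rfl
    rcases alt_or (swap i2 a) h01 with e | e
    · have := Subgroup.Normal.conj_mem inferInstance _ hm ⟨_, e⟩
      rw [Alt.conj_t3] at this
      simpa [Equiv.swap_apply_of_ne_of_ne, h02, h12, a0.symm, a1.symm] using this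
    · have := inv_mem (Subgroup.Normal.conj_mem inferInstance _ hm ⟨_, e⟩)
      rw [Alt.conj_t3] at this
      simp only [Perm.mul_apply, Equiv.swap_apply_left, Equiv.swap_apply_right,
        Equiv.swap_apply_of_ne_of_ne h02.symm h12.symm, Equiv.swap_apply_of_ne_of_ne h02 a0.symm,
        Equiv.swap_apply_of_ne_of_ne h12 a1.symm] at this
      rwa [Alt.t3_inv a1 a0 h01.symm] at this
  set ρ := (alternatingGroup ι).subtype with hρ
  set j := pmSL K ρ sign_alt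
  have tr2 : ∀ i j, i ≠ j → ∃ σ, ρ σ i0 = i ∧ ρ σ i1 = j := fun i j hij => by
    obtain ⟨k, a, b⟩ := h3 i j
    obtain ⟨σ, r, -, c, d, -⟩ := hT i j k hij b a
    exact ⟨σ, c, d⟩
  have eH : ∀ {a b}, a ≠ b → cA ρ i0 i1 j (hSL ζ i0 i1) a b = hSL ζ a b := fun hab =>
    cA_eq (fun σ => conj_pmSL_hSL _ σ ζ _ _) (tr2 _ _ hab)
  have eU : ∀ {a b}, a ≠ b → cA ρ i0 i1 j (xSL i0 i1 (1 : K)) a b = xSL a b 1 := fun hab =>
    cA_eq (f := fun a b => xSL a b (1 : K)) (fun σ => conj_pmSL_xSL _ σ h01 _) (tr2 _ _ hab)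
  have hgen : Subgroup.closure (Set.range j ∪ Set.range ![hSL ζ i0 i1, xSL i0 i1 1]) = ⊤ := by
    set H := Subgroup.closure (Set.range j ∪ Set.range ![hSL ζ i0 i1, xSL i0 i1 1])
    have m1 : ∀ σ, j σ ∈ H := fun σ => Subgroup.subset_closure (Or.inl ⟨σ, rfl⟩)
    have m2 : hSL ζ i0 i1 ∈ H := Subgroup.subset_closure (Or.inr ⟨0, rfl⟩)
    have m3 : xSL i0 i1 1 ∈ H := Subgroup.subset_closure (Or.inr ⟨1, rfl⟩)
    refine eq_top_of_hSL h3 hζ (fun a b hab => ?_) fun a b hab g hg m => ?_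
    · rw [← eU hab]; exact mul_mem (mul_mem (m1 _) m3) (inv_mem (m1 _))
    · have : hSL ζ a b ^ m ∈ H := by
        rw [← eH hab]; exact zpow_mem (mul_mem (mul_mem (m1 _) m2) (inv_mem (m1 _))) _
      exact mul_mem (mul_mem this hg) (inv_mem this)
  obtain ⟨ω, hω1, hω2⟩ := exists_mem_normalClosure.{_, _, 0}
    (Sum.elim j ![hSL ζ i0 i1, xSL i0 i1 1]) (by rw [Set.Sum.elim_range]; exact hgen) {Sum.inr 1} (by
      rw [Set.image_singleton]
      change Subgroup.normalClosure {xSL i0 i1 (1 : K)} = ⊤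
      refine eq_top_of_hSL h3 hζ (fun a b hab => ?_) fun a b hab g hg m => ?_
      · rw [← eU hab]; exact cA_mem _ (Subgroup.subset_normalClosure (Set.mem_singleton _)) _ _ _
      · exact Subgroup.Normal.conj_mem inferInstance _ hg _) (j (Alt.t3 i2 i0 i1))
  refine ⟨_, (hπ.extendN j ![hSL ζ i0 i1, xSL i0 i1 1]
    (rels4 i0 i1 i2 i3 L T p mp (fun a => FreeGroup.of (.inl a)) (FreeGroup.of (.inr 0))
      (FreeGroup.of (.inr 1)) ++ [FreeGroup.of (.inl (Alt.t3 i2 i0 i1)) * ω⁻¹]) hgen ?_ ?_).mono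
    (by simp [rels4]; omega)⟩
  · rw [List.forall_mem_append, ← List.forall_mem_map (P := fun w => w = 1), map_rels4]
    refine ⟨?_, by simp [hω1]⟩
    simp only [FreeGroup.lift_apply_of, Sum.elim_inl, Sum.elim_inr, Matrix.cons_val_zero,
      Matrix.cons_val_one, rels4, List.forall_mem_append, List.forall_mem_map, List.forall_mem_cons,
      commutatorElement_eq_one_iff_commute, mul_inv_eq_one, ← hρ]
    refine ⟨⟨⟨⟨fun l hl => ?_, fun l hl => ?_⟩, fun r hr => ?_⟩, fun r hr => ?_⟩, ?_⟩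
    · refine commute_of_conj_eq ((conj_pmSL_hSL _ l ζ _ _).trans ?_)
      rw [show ρ l i0 = i0 from (hL0 l hl).1, show ρ l i1 = i1 from (hL0 l hl).2]
    · refine commute_of_conj_eq ((conj_pmSL_xSL _ l h01 _).trans ?_)
      rw [show ρ l i0 = i0 from (hL0 l hl).1, show ρ l i1 = i1 from (hL0 l hl).2]
    · rw [eH h01, eH (hT0 r hr).1, eH (hT0 r hr).2, (tor_hSL ζ).mul]
    · rw [eU h01, eU (hT0 r hr).1, eU (hT0 r hr).2, commutatorElement_def,
        stR_xSL.step h01 (hT0 r hr).2 (hT0 r hr).1, mul_one]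
    · simp only [eH h01, eH h02, eH h12, eH h23, eU h01, eU h02, eU h12.symm, eU h23, eU h23.symm]
      refine ⟨(tor_hSL ζ).comm _ _ _ _, commute_of_conj_eq ?_, commute_of_conj_eq ?_,
        stR_xSL.comm h01 h02 h02 h01.symm _ _, stR_xSL.comm h01 h12.symm h01 h12 _ _,
        stR_xSL.comm h01 h23 h03 h12 _ _, stR_xSL.comm h01 h23.symm h02 h13 _ _,
        xSL_pow_char p h01, ?_, by simp⟩
      · rw [map_mul, MulAut.mul_apply, conj_hSL_xSL _ _ _ h01, conj_hSL_xSL _ _ _ h01]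
        simp [dd, h01, h02, h12, h01.symm]
      · rw [conj_hSL_xSL _ _ _ h01]
        simp [dd, h02, h03, h12, h13]
      · rw [word_xSL ζ h01 h02 h12, hm0, stR_xSL.zero h01]
  · intro J _ α y hg hr
    rw [List.forall_mem_append, ← List.forall_mem_map (P := fun w => w = 1), map_rels4] at hr
    have hy : y = ![y 0, y 1] := by ext a; fin_cases a <;> rfl
    refine card_four hζ hm h01 h02 h03 h12 h13 h23 hL hT0 hT hσ0 α (y 0) (y 1) (hy ▸ hg)
      (by simpa using hr.1) ?_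
    have h1 := hr.2 _ List.mem_cons_self
    have h2 := hω2 J (Sum.elim α y)
    rw [map_mul, map_inv, mul_inv_eq_one, FreeGroup.lift_apply_of, Sum.elim_inl] at h1
    rwa [← h1, Set.image_singleton] at h2

theorem exists_stab_list {i0 i1 : ι} {k : ℕ}
    (h : ∃ L : List (alternatingGroup {a // a ≠ i0 ∧ a ≠ i1}), L.length ≤ k ∧
      Subgroup.closure {l | l ∈ L} = ⊤) :
    ∃ L : List (alternatingGroup ι), L.length ≤ k ∧ (∀ σ ∈ L, σ.1 i0 = i0 ∧ σ.1 i1 = i1) ∧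
      ∀ σ : alternatingGroup ι, σ.1 i0 = i0 → σ.1 i1 = i1 → σ ∈ Subgroup.closure {l | l ∈ L} := by
  obtain ⟨L, h1, h2⟩ := h
  let φ : alternatingGroup {a // a ≠ i0 ∧ a ≠ i1} →* alternatingGroup ι :=
    (Perm.ofSubtype.comp (Subgroup.subtype _)).codRestrict _ fun σ => by
      rw [Perm.mem_alternatingGroup, MonoidHom.comp_apply, Perm.sign_ofSubtype]; exact σ.2
  refine ⟨L.map φ, by simpa using h1, fun σ hσ => ?_, fun σ a b => ?_⟩
  · obtain ⟨τ, -, rfl⟩ := List.mem_map.1 hσ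
    exact ⟨Perm.ofSubtype_apply_of_not_mem _ (by simp), Perm.ofSubtype_apply_of_not_mem _ (by simp)⟩
  · have hp : ∀ x, (σ.1 x ≠ i0 ∧ σ.1 x ≠ i1) ↔ (x ≠ i0 ∧ x ≠ i1) := fun x => by
      conv_lhs => rw [← a, ← b]
      simp
    have hq : ∀ x, σ.1 x ≠ x → x ≠ i0 ∧ x ≠ i1 := fun x hx =>
      ⟨by rintro rfl; exact hx a, by rintro rfl; exact hx b⟩
    have e := Perm.ofSubtype_subtypePerm (p := fun x => x ≠ i0 ∧ x ≠ i1) hp hq
    have hs : σ.1.subtypePerm (p := fun x => x ≠ i0 ∧ x ≠ i1) hp ∈ alternatingGroup _ := by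
      rw [Perm.mem_alternatingGroup, ← Perm.sign_ofSubtype, e]; exact σ.2
    have : σ = φ ⟨_, hs⟩ := Subtype.ext e.symm
    rw [this]
    have hm : (⟨_, hs⟩ : alternatingGroup _) ∈ Subgroup.closure {l | l ∈ L} := h2 ▸ trivial
    have := Subgroup.mem_map_of_mem φ hm
    rw [MonoidHom.map_closure] at this
    refine Subgroup.closure_mono ?_ this
    rintro _ ⟨l, hl, rfl⟩
    exact List.mem_map_of_mem hl

theorem card_stab_dom {n : ℕ} {i0 i1 : Fin n} (h : i0 ≠ i1) :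
    Fintype.card {a // a ≠ i0 ∧ a ≠ i1} = n - 2 := by
  have := Alt.card_ne_ne h
  rw [Fintype.card_fin] at this
  omega

theorem hasPres_SL_four [Finite K] : ∃ π : Fin 6 → Matrix.SpecialLinearGroup (Fin 4) K,
    HasPres π 20 := by
  obtain ⟨L, h1, h2, h3⟩ := exists_stab_list (i0 := (0 : Fin 4)) (i1 := 1) (k := 0) ⟨[], le_rfl, by
    have : Subsingleton (alternatingGroup {a : Fin 4 // a ≠ 0 ∧ a ≠ 1}) := by
      rw [alternatingGroup.eq_bot_of_card_le_two (by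
        rw [Nat.card_eq_fintype_card, card_stab_dom (by decide)])]
      infer_instance
    exact Subsingleton.elim _ _⟩
  obtain ⟨π, hπ⟩ := hasPres_four (K := K) (i2 := 2) (i3 := 3) (by decide) (by decide) (by decide)
    (by decide) (by decide) (by decide) h2 h3 (T := [2, 3]) (by decide) (by
      intro i j k a1 a2 a3
      obtain ⟨l, a4, a5, a6⟩ := exists_fourth (by simp) i j k
      obtain ⟨σ, b1, b2, b3, b4⟩ := exists_perm_four (a := (0 : Fin 4)) (b := 1) (c := 2) (d := 3)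
        (by decide) (by decide) (by decide) (by decide) (by decide) (by decide) a1 a3 a4 a2 a5 a6
      rcases alt_or σ (a := 2) (b := 3) (by decide) with e | e
      · exact ⟨⟨σ, e⟩, 2, by simp, b1, b2, b3⟩
      · exact ⟨⟨_, e⟩, 3, by simp, b1, b2, b3⟩)
    (Alt.carmichael_pres (α := Fin 4) (u := 0) (v := 1) (by decide))
  have hc : Fintype.card ({i : Fin 4 // i ≠ 0 ∧ i ≠ 1} ⊕ Fin 2) = 4 := by
    rw [Fintype.card_sum, card_stab_dom (by decide)]; rfl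
  obtain ⟨π', h⟩ := hπ.pad (k := 6) (by omega)
  refine ⟨π', h.mono ?_⟩
  rw [hc]
  simp only [Fintype.card_fin, List.length_cons, List.length_nil]
  omega

theorem hasPres_SL_five_le [Finite K] {n k : ℕ} (hn : 5 ≤ n) (hk : n = 5 ∧ k = 1 ∨ k = 2) :
    ∃ π : Option (Fin 2) ⊕ Fin 2 → Matrix.SpecialLinearGroup (Fin n) K,
      HasPres π (19 + 2 * k) := by
  obtain ⟨n, rfl⟩ : ∃ m, n = m + 5 := ⟨n - 5, by omega⟩
  have d : ∀ {a b : ℕ} {ha hb}, a ≠ b → (⟨a, ha⟩ : Fin (n + 5)) ≠ ⟨b, hb⟩ := fun h e =>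
    h (congrArg Fin.val e)
  let i0 : Fin (n + 5) := ⟨0, by omega⟩
  let i1 : Fin (n + 5) := ⟨1, by omega⟩
  let i2 : Fin (n + 5) := ⟨2, by omega⟩
  let i3 : Fin (n + 5) := ⟨3, by omega⟩
  let i4 : Fin (n + 5) := ⟨4, by omega⟩
  obtain ⟨L, h1, h2, h3⟩ := exists_stab_list (i0 := i0) (i1 := i1) (k := k) (by
    have hc := card_stab_dom (i0 := i0) (i1 := i1) (d (by omega))
    rcases hk with ⟨h5, rfl⟩ | rfl
    · have : Nontrivial {a // a ≠ i0 ∧ a ≠ i1} := by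
        rw [← Fintype.one_lt_card_iff_nontrivial]; omega
      have h2 := two_mul_nat_card_alternatingGroup (α := {a // a ≠ i0 ∧ a ≠ i1})
      rw [Nat.card_perm, Nat.card_eq_fintype_card (α := {a // a ≠ i0 ∧ a ≠ i1}), hc,
        show n + 5 - 2 = 3 by omega] at h2
      have : Fact (Nat.Prime 3) := ⟨by norm_num⟩
      have := isCyclic_of_prime_card (α := alternatingGroup {a // a ≠ i0 ∧ a ≠ i1}) (p := 3)
        (by simp only [Nat.factorial] at h2; omega)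
      obtain ⟨g, hg⟩ := IsCyclic.exists_generator (α := alternatingGroup {a // a ≠ i0 ∧ a ≠ i1})
      refine ⟨[g], le_rfl, eq_top_iff.2 fun y _ => ?_⟩
      simpa [← Subgroup.zpowers_eq_closure] using hg y
    · obtain ⟨t, u, -, h⟩ := Alt.exists_pair_alt (α := {a // a ≠ i0 ∧ a ≠ i1}) (by omega)
      exact ⟨[t, u], le_rfl, by rw [← h]; congr 1; ext; simp⟩)
  obtain ⟨⟨π0, -, hπ0⟩, -⟩ := Alt.main_pres (n + 5) hn
  obtain ⟨π, hπ⟩ := hasPres_four (K := K) (i2 := i2) (i3 := i3) (d (by omega)) (d (by omega))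
    (d (by omega)) (d (by omega)) (d (by omega)) (d (by omega)) h2 h3 (T := [i2])
    (by simp only [List.forall_mem_singleton]; exact ⟨d (by omega), d (by omega)⟩) (by
      intro i j k a1 a2 a3
      obtain ⟨l, a4, a5, a6⟩ := exists_fourth (by simp) i j k
      obtain ⟨σ, b1, b2, b3, b4⟩ := exists_perm_four (a := i0) (b := i1) (c := i2) (d := i3)
        (d (by omega)) (d (by omega)) (d (by omega)) (d (by omega)) (d (by omega)) (d (by omega))
        a1 a3 a4 a2 a5 a6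
      rcases alt_or σ (a := i3) (b := i4) (d (by omega)) with e | e
      · exact ⟨⟨σ, e⟩, i2, by simp, b1, b2, b3⟩
      · refine ⟨⟨_, e⟩, i2, by simp, ?_, ?_, ?_⟩ <;>
        · rwa [Perm.mul_apply, Equiv.swap_apply_of_ne_of_ne (d (by omega)) (d (by omega))]) hπ0
  exact ⟨π, hπ.mono (by simp; omega)⟩

instance isCyclic_center_SL {n : Type*} [Fintype n] [DecidableEq n] :
    IsCyclic (Subgroup.center (Matrix.SpecialLinearGroup n K)) :=
  have : NeZero (max (Fintype.card n) 1) := ⟨by omega⟩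
  (Matrix.SpecialLinearGroup.center_equiv_rootsOfUnity (n := n) (R := K)).isCyclic.2 inferInstance

end Cfsg.Agent.SLn
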