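import Cfsg.Agent.Lib.SLn.PresThree

/-!
# A presentation of `SL₃(4)` with four generators and fourteen relations
-/

set_option autoImplicit false

namespace Cfsg.Agent.SLn

open MulAut Polynomial Cfsg.Agent.Pres
open Equiv (Perm swap)
open Cfsg.Agent.SL2 (word)
open scoped commutatorElement

variable {K : Type*} [Field K]

theorem pres_sym_three : HasPres ![swap (0 : Fin 3) 1, swap 0 1 * swap 1 2] 2 := by
  refine HasPres.of_card [FreeGroup.of 0 ^ 2,
    FreeGroup.of 0 * FreeGroup.of 1 * (FreeGroup.of 0)⁻¹ * (FreeGroup.of 1 ^ 2)⁻¹] ?_ ?_ ?_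
  · rw [eq_top_iff]
    intro x _
    set H := Subgroup.closure (Set.range ![swap (0 : Fin 3) 1, swap 0 1 * swap 1 2])
    have h0 : swap 0 1 ∈ H := Subgroup.subset_closure ⟨0, rfl⟩
    have h1 : swap 0 1 * swap 1 2 ∈ H := Subgroup.subset_closure ⟨1, rfl⟩
    have : ∀ x : Perm (Fin 3), ∃ a : Fin 2, ∃ b : Fin 3,
        x = swap 0 1 ^ a.1 * (swap 0 1 * swap 1 2) ^ b.1 := by decide
    obtain ⟨a, b, rfl⟩ := this x
    exact mul_mem (pow_mem h0 _) (pow_mem h1 _)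
  · simp only [List.forall_mem_cons, map_mul, map_pow, map_inv, FreeGroup.lift_apply_of]
    exact ⟨by decide, by decide, by simp⟩
  · intro J _ f hf hrel
    simp only [List.forall_mem_cons, map_mul, map_pow, map_inv, FreeGroup.lift_apply_of,
      mul_inv_eq_one] at hrel
    obtain ⟨r1, r2, -⟩ := hrel
    have h3 : f 1 ^ 3 = 1 := by
      have e : f 0 * (f 0 * f 1 * (f 0)⁻¹) * (f 0)⁻¹ = f 1 := by
        calc _ = f 0 ^ 2 * f 1 * (f 0 ^ 2)⁻¹ := by rw [sq]; group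
          _ = _ := by rw [r1]; simp
      rw [r2, ← conj_pow, r2, ← pow_mul] at e
      have : f 1 ^ 3 * f 1 = 1 * f 1 := by rw [← pow_succ, e, one_mul]
      exact mul_right_cancel this
    have hN : (Subgroup.zpowers (f 1)).Normal := by
      rw [← Subgroup.normalizer_eq_top_iff, eq_top_iff, ← hf, Subgroup.closure_le]
      have : Finite (Subgroup.zpowers (f 1)) :=
        (finite_zpowers.2 (isOfFinOrder_iff_pow_eq_one.2 ⟨3, by omega, h3⟩)).to_subtype
      rintro _ ⟨i, rfl⟩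
      fin_cases i
      · refine Subgroup.mem_normalizer_fintype ?_
        rintro _ ⟨k, rfl⟩
        change f 0 * f 1 ^ k * (f 0)⁻¹ ∈ Subgroup.zpowers (f 1)
        rw [← conj_zpow, r2]
        exact zpow_mem (pow_mem (Subgroup.mem_zpowers _) _) _
      · exact Subgroup.le_normalizer (Subgroup.mem_zpowers _)
    have : Finite (Subgroup.zpowers (f 1)) :=
      (finite_zpowers.2 (isOfFinOrder_iff_pow_eq_one.2 ⟨3, by omega, h3⟩)).to_subtype
    rw [Alt.range_fin_two] at hf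
    have := Alt.card_le_of_normal (Subgroup.zpowers (f 1)) hf
      (by simp) two_pos (by rw [r1]; exact one_mem _)
    refine ⟨this.1, this.2.trans ?_⟩
    have h4 : Nat.card (Subgroup.zpowers (f 1)) ≤ 3 := by
      rw [Nat.card_zpowers]; exact orderOf_le_of_pow_eq_one (by omega) h3
    rw [Nat.card_eq_fintype_card (α := Perm (Fin 3)), Fintype.card_perm, Fintype.card_fin]
    simp only [Nat.factorial]
    omega

theorem four_facts [Finite K] (h4 : Nat.card K = 4) {ζ : Kˣ} (hζ : ∀ u, u ∈ Subgroup.zpowers ζ) :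
    (2 : K) = 0 ∧ (ζ : K) ≠ 1 ∧ (ζ : K) ^ 2 = 1 + ζ := by
  have := Fintype.ofFinite K
  have ho : orderOf ζ = 3 := by
    rw [orderOf_eq_card_of_forall_mem_zpowers hζ, Nat.card_units, h4]
  have h1 : (ζ : K) ≠ 1 := fun h => by
    rw [show ζ = 1 from Units.ext h, orderOf_one] at ho; omega
  have h2 : (2 : K) = 0 := by
    have := FiniteField.cast_card_eq_zero K
    rw [← Nat.card_eq_fintype_card, h4] at this
    exact pow_eq_zero_iff (two_ne_zero) |>.1 (by rw [← this]; norm_num)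
  have h3 : (ζ : K) ^ 3 = 1 := by
    rw [← Units.val_pow_eq_pow_val, ← ho, pow_orderOf_eq_one, Units.val_one]
  refine ⟨h2, h1, ?_⟩
  have : ((ζ : K) - 1) * (ζ ^ 2 - (1 + ζ)) = 0 := by
    linear_combination h3 + (1 - (ζ : K) ^ 2) * h2
  exact sub_eq_zero.1 ((mul_eq_zero.1 this).resolve_left (sub_ne_zero.2 h1))

theorem span_four {ζ : Kˣ} (hζ : ∀ u, u ∈ Subgroup.zpowers ζ) (h : (ζ : K) ^ 2 = 1 + ζ) :
    Span ζ 3 {0, 1} := by
  intro P h0 hadd β hP t
  by_cases ht : t = 0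
  · rwa [ht]
  obtain ⟨m, rfl⟩ := exists_zpow hζ ht
  rcases (by omega : m = β + 3 * ((m - β) / 3) + 0 ∨ m = β + 3 * ((m - β) / 3) + 1 ∨
    m = β + 3 * ((m - β) / 3) + 2) with e | e | e <;> rw [e]
  · exact hP _ 0 (by simp)
  · exact hP _ 1 (by simp)
  · convert hadd _ _ (hP ((m - β) / 3) 0 (by simp)) (hP ((m - β) / 3) 1 (by simp)) using 1
    simp only [zpow_add _ _ 2, zpow_add _ _ 1, add_zero, Units.val_mul, zpow_ofNat,
      Units.val_pow_eq_pow_val, h]
    ring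

theorem four_ideal {ζ : K} (h2 : (2 : K) = 0) (h0 : ζ ≠ 0) (h1 : ζ ≠ 1) (h : ζ ^ 2 = 1 + ζ)
    (f : ℤ[X]) (hf : aeval ζ f = 0) :
    ∃ g r : ℤ[X], f = g * (1 + X - X ^ 2) + r * C ((2 : ℕ) : ℤ) := by
  have hM : (X ^ 2 - (X + 1) : ℤ[X]).Monic := by monicity!
  have hd : (X ^ 2 - (X + 1) : ℤ[X]).degree = 2 := by compute_degree!
  have e1 := modByMonic_add_div f (X ^ 2 - (X + 1))
  have e2 := degree_modByMonic_lt f hM
  rw [hd] at e2
  have e3 := eq_X_add_C_of_degree_le_one (p := f %ₘ (X ^ 2 - (X + 1)))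
    (Order.le_of_lt_succ (by exact_mod_cast e2))
  generalize (f %ₘ (X ^ 2 - (X + 1))).coeff 1 = a at e3
  generalize (f %ₘ (X ^ 2 - (X + 1))).coeff 0 = b at e3
  rw [e3] at e1
  have e4 : (a : K) * ζ + b = 0 := by
    rw [← e1] at hf
    simp only [map_add, map_mul, map_sub, map_pow, aeval_X, map_one, eq_intCast, map_intCast] at hf
    linear_combination hf - (aeval ζ) (f /ₘ (X ^ 2 - (X + 1))) * h
  obtain ⟨a', ha⟩ := Int.even_or_odd' a
  obtain ⟨b', hb⟩ := Int.even_or_odd' b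
  rcases ha with rfl | rfl <;> rcases hb with rfl | rfl <;> push_cast at e4
  · refine ⟨-(f /ₘ (X ^ 2 - (X + 1))), C a' * X + C b', ?_⟩
    nth_rewrite 1 [← e1]
    simp only [map_mul, Nat.cast_ofNat]
    ring
  · exact absurd (by linear_combination e4 - (a' * ζ + b') * h2) (one_ne_zero (α := K))
  · exact absurd (by linear_combination e4 - (a' * ζ + b') * h2) h0
  · exact absurd (by linear_combination e4 - (a' * ζ + b' + 1) * h2) h1

theorem sym3_reach : ∀ i j k : Fin 3, i ≠ j → j ≠ k → i ≠ k →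
    ∃ σ : Perm (Fin 3), σ 0 = i ∧ σ 1 = j ∧ σ 2 = k := by decide

theorem sym3_reach' : ∀ i j : Fin 3, i ≠ j → ∃ σ : Perm (Fin 3), σ 0 = i ∧ σ 1 = j := by decide

theorem sym3_stab : ∀ σ : Perm (Fin 3), σ 0 = 0 → σ 1 = 1 → σ = 1 := by decide

/-- the relators -/
noncomputable def rels34 {J : Type*} [Group J] (α : Perm (Fin 3) → J) (h u : J) : List J :=
  let H := cA (MonoidHom.id _) 0 1 α h
  let U := cA (MonoidHom.id _) 0 1 α u
  [H 0 1 * H 1 2 * (H 0 2)⁻¹, ⁅H 0 1, H 0 2⁆, ⁅H 0 2 * H 1 2, U 0 1⁆, U 0 1 ^ 2,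
    H 0 2 ^ 2 * U 0 1 * (H 0 2 ^ 2)⁻¹ * (U 0 1 * (H 0 2 * U 0 1 * (H 0 2)⁻¹))⁻¹,
    ⁅U 0 1, U 0 2⁆, ⁅H 0 2 * U 0 1 * (H 0 2)⁻¹, U 0 2⁆, ⁅U 0 1, U 2 1⁆,
    ⁅H 0 2 * U 0 1 * (H 0 2)⁻¹, U 2 1⁆, ⁅U 0 1, U 1 2⁆ * (U 0 2)⁻¹,
    ⁅H 0 2 * U 0 1 * (H 0 2)⁻¹, U 1 2⁆ * (H 0 1 * U 0 2 * (H 0 1)⁻¹)⁻¹]

theorem map_rels34 {J J' : Type*} [Group J] [Group J'] (φ : J →* J')
    (α : Perm (Fin 3) → J) (h u : J) :
    (rels34 α h u).map φ = rels34 (fun a => φ (α a)) (φ h) (φ u) := by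
  simp [rels34, map_cA, map_commutatorElement]

theorem card_three_four [Finite K] (h4 : Nat.card K = 4)
    {J : Type*} [Group J] (α : Perm (Fin 3) →* J) (h u : J)
    (hgen : Subgroup.closure (Set.range α ∪ Set.range ![h, u]) = ⊤)
    (hr : ∀ w ∈ rels34 α h u, w = 1) (hα : ∀ σ, α σ ∈ Subgroup.normalClosure {u}) :
    Finite J ∧ Nat.card J ≤ Nat.card (Matrix.SpecialLinearGroup (Fin 3) K) := by
  obtain ⟨ζ, hζ⟩ := IsCyclic.exists_generator (α := Kˣ)
  obtain ⟨z2, z1, zz⟩ := four_facts h4 hζ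
  set H := cA (MonoidHom.id _) 0 1 α h with hH
  set U := cA (MonoidHom.id _) 0 1 α u with hU
  have hv : ∀ v : J, ∀ σ : Perm (Fin 3), MonoidHom.id _ σ 0 = 0 → MonoidHom.id _ σ 1 = 1 →
      Commute (α σ) v := fun v σ a b => by rw [sym3_stab σ a b]; simp
  have cH : ∀ σ {i j}, i ≠ j → conj (α σ) (H i j) = H (σ i) (σ j) :=
    fun σ i j hij => conj_cA (hv h) (sym3_reach' i j hij) σ
  have cU : ∀ σ {i j}, i ≠ j → conj (α σ) (U i j) = U (σ i) (σ j) :=
    fun σ i j hij => conj_cA (hv u) (sym3_reach' i j hij) σ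
  have R : ∀ i j k, i ≠ j → j ≠ k → i ≠ k → H i j * H j k = H i k ∧ Commute (H i j) (H i k) ∧
      Commute (H i k * H j k) (U i j) ∧ U i j ^ 2 = 1 ∧
      H i k ^ 2 * U i j * (H i k ^ 2)⁻¹ = U i j * (H i k * U i j * (H i k)⁻¹) ∧
      Commute (U i j) (U i k) ∧ Commute (H i k * U i j * (H i k)⁻¹) (U i k) ∧
      Commute (U i j) (U k j) ∧ Commute (H i k * U i j * (H i k)⁻¹) (U k j) ∧
      ⁅U i j, U j k⁆ = U i k ∧
      ⁅H i k * U i j * (H i k)⁻¹, U j k⁆ = H i j * U i k * (H i j)⁻¹ := by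
    intro i j k a1 a2 a3
    obtain ⟨σ, rfl, rfl, rfl⟩ := sym3_reach i j k a1 a2 a3
    have : ∀ w ∈ (rels34 α h u).map (conj (α σ)), w = 1 := by
      rw [List.forall_mem_map]
      intro w hw
      rw [hr w hw, map_one]
    simp only [rels34, ← hH, ← hU, List.map_cons, map_mul, map_inv, map_pow, map_commutatorElement,
      cH σ (show (0 : Fin 3) ≠ 1 by decide), cH σ (show (0 : Fin 3) ≠ 2 by decide),
      cH σ (show (1 : Fin 3) ≠ 2 by decide), cU σ (show (0 : Fin 3) ≠ 1 by decide),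
      cU σ (show (0 : Fin 3) ≠ 2 by decide), cU σ (show (1 : Fin 3) ≠ 2 by decide),
      cU σ (show (2 : Fin 3) ≠ 1 by decide), List.forall_mem_cons,
      commutatorElement_eq_one_iff_commute, mul_inv_eq_one] at this
    obtain ⟨r1, r2, r3, r4, r5, r6, r7, r8, r9, r10, r11, -⟩ := this
    exact ⟨r1, r2, r3, r4, r5, r6, r7, r8, r9, r10, r11⟩
  have h3 : ∀ k l : Fin 3, ∃ m, k ≠ m ∧ l ≠ m := exists_third (by simp)
  have tor : Tor fun i j => if i = j then 1 else H i j :=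
    Tor.of_rel h3 (fun i j k a1 a2 a3 => (R i j k a1 a2 a3).1)
      fun i j k a1 a2 a3 => (R i j k a1 a2 a3).2.1
  set H' : Fin 3 → Fin 3 → J := fun i j => if i = j then 1 else H i j
  have hH' : ∀ {i j}, i ≠ j → H' i j = H i j := fun hij => if_neg hij
  have uniq : ∀ i j k r : Fin 3, i ≠ j → k ≠ i → k ≠ j → i ≠ r → j ≠ r → k = r := by decide
  have hx : ∀ i j, ∃ x : K → J, i ≠ j → (∀ a b, x a * x b = x (a + b)) ∧
      (Orb H' i j fun m => x (ζ ^ m : Kˣ)) ∧ x 1 = U i j := by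
    intro i j
    by_cases hij : i = j
    · exact ⟨1, fun h => absurd hij h⟩
    obtain ⟨r, a1, a2⟩ := h3 i j
    obtain ⟨-, -, r3, r4, r5, -⟩ := R i j r hij a2 a1
    have hc0 : Commute (U i j) (H i r * U i j * (H i r)⁻¹) := by
      have e1 : (U i j)⁻¹ = U i j := by rw [inv_eq_iff_mul_eq_one, ← sq, r4]
      have e2 : (H i r ^ 2 * U i j * (H i r ^ 2)⁻¹)⁻¹ = H i r ^ 2 * U i j * (H i r ^ 2)⁻¹ := by
        rw [conj_inv, e1]
      rw [r5, mul_inv_rev, conj_inv, e1] at e2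
      exact e2.symm
    have hc := SL2.commute_of_rel_one hc0 r5
    obtain ⟨x, hx1, hx2⟩ := exists_param hζ (four_ideal z2 ζ.ne_zero z1 zz) hc r4 (by
      have := SL2.word_add hc (1 + X - X ^ 2) (X ^ 2)
      rwa [sub_add_cancel, SL2.word_add hc, SL2.word_one, ← mul_one X, SL2.word_X_mul hc,
        SL2.word_one, mul_one, SL2.word_X_pow hc, r5, eq_comm, mul_eq_right] at this)
    refine ⟨x, fun _ => ⟨hx1, ?_, by simpa using hx2 0⟩⟩
    simp only [hx2, ← hH' a1]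
    exact tor.orb hij a1 a2 (by rwa [hH' a1, hH' a2]) fun k b1 b2 b3 =>
      absurd (uniq i j k r hij b1 b2 a1 a2) b3
  choose x hx using hx
  have x1 : ∀ {i j}, i ≠ j → x i j 1 = U i j := fun {i j} hij => (hx i j hij).2.2
  have xz : ∀ {i j k}, i ≠ j → j ≠ k → i ≠ k → x i j ζ = H i k * U i j * (H i k)⁻¹ :=
    fun {i j k} a1 a2 a3 => by
      have := (hx i j a1).2.1.eq a1 a3 a2 1
      simpa [x1 a1, hH' a3] using this
  have hS : StR x := by
    refine stR_of_rep hζ (span_four hζ zz) (rich_three H') (fun i j hij => (hx i j hij).1)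
      (fun i j hij => (hx i j hij).2.1) ?_ ?_ ?_ ?_
    · rintro i j k a1 a2 a3 o (rfl | rfl)
      · simpa [x1 a1, x1 a3] using (R i j k a1 a2 a3).2.2.2.2.2.1
      · rw [zpow_one, xz a1 a2 a3, x1 a3]; exact (R i j k a1 a2 a3).2.2.2.2.2.2.1
    · rintro i j k a1 a2 a3 o (rfl | rfl)
      · simpa [x1 a1, x1 a2.symm] using (R i j k a1 a2 a3).2.2.2.2.2.2.2.1
      · rw [zpow_one, xz a1 a2 a3, x1 a2.symm]; exact (R i j k a1 a2 a3).2.2.2.2.2.2.2.2.1
    · intro i j k l a1 a2 a3 a4 a5 a6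
      exact absurd (uniq i j k l a1 a2.symm a4.symm a3 a5) a6
    · rintro i j k a1 a2 a3 o (rfl | rfl)
      · simpa [x1 a1, x1 a2, x1 a3] using (R i j k a1 a2 a3).2.2.2.2.2.2.2.2.2.1
      · rw [zpow_one, xz a1 a2 a3, x1 a2, xz a3 a2.symm a1]
        exact (R i j k a1 a2 a3).2.2.2.2.2.2.2.2.2.2
  have h01 : (0 : Fin 3) ≠ 1 := by decide
  have e1 : H' 0 1 = h := (hH' h01).trans (cA_base (hv h))
  have e2 : x 0 1 1 = u := (x1 h01).trans (cA_base (hv u))
  refine card_le_of_act (by simp) hζ (ρ := MonoidHom.id _) (α := α) hS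
    (fun i j hij => (hx i j hij).2.1) (fun σ i j hij => ?_)
    (fun σ i j hij => ?_) h01 (by rwa [e1, e2]) (by rwa [e2]) ?_
  · rw [hH' hij, MonoidHom.id_apply, hH' (σ.injective.ne hij), cH σ hij]
  · rw [x1 hij, MonoidHom.id_apply, x1 (σ.injective.ne hij), cU σ hij]
  · rw [e1, e2, ← QuotientGroup.eq_one_iff]
    have q : ∀ i j, (QuotientGroup.mk' (Subgroup.normalClosure {u})) (H i j) =
        QuotientGroup.mk' (Subgroup.normalClosure {u}) h := fun i j => by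
      have := (QuotientGroup.eq_one_iff _).2 (hα (tau (MonoidHom.id _) 0 1 i j))
      simp [H, cA, this]
    have := congrArg (QuotientGroup.mk' (Subgroup.normalClosure {u}))
      (R 0 1 2 h01 (by decide) (by decide)).1
    rw [map_mul, q, q, q] at this
    exact mul_eq_left.1 this

theorem hasPres_three_four [Finite K] (h4 : Nat.card K = 4) :
    ∃ π : Fin 4 → Matrix.SpecialLinearGroup (Fin 3) K, HasPres π 14 := by
  obtain ⟨ζ, hζ⟩ := IsCyclic.exists_generator (α := Kˣ)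
  obtain ⟨z2, z1, zz⟩ := four_facts h4 hζ
  have : CharP K 2 := (CharP.charP_iff_prime_eq_zero Nat.prime_two).2 (by exact_mod_cast z2)
  have hs : ∀ σ : Perm (Fin 3), ((Perm.sign (MonoidHom.id _ σ) : ℤ) : K) = 1 := fun σ => by
    rcases Int.units_eq_one_or (Perm.sign (MonoidHom.id _ σ)) with e | e <;> rw [e]
    · simp
    · simp only [Units.val_neg, Units.val_one, Int.cast_neg, Int.cast_one]
      linear_combination -z2
  have h3 : ∀ k l : Fin 3, ∃ m, k ≠ m ∧ l ≠ m := exists_third (by simp)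
  have h01 : (0 : Fin 3) ≠ 1 := by decide
  have h02 : (0 : Fin 3) ≠ 2 := by decide
  have h12 : (1 : Fin 3) ≠ 2 := by decide
  set j := pmSL K (MonoidHom.id _) hs
  have eH : ∀ {a b}, a ≠ b → cA (MonoidHom.id _) 0 1 j (hSL ζ 0 1) a b = hSL ζ a b := fun hab =>
    cA_eq (fun σ => conj_pmSL_hSL _ σ ζ _ _) (sym3_reach' _ _ hab)
  have eU : ∀ {a b}, a ≠ b → cA (MonoidHom.id _) 0 1 j (xSL 0 1 (1 : K)) a b = xSL a b 1 :=
    fun hab => cA_eq (f := fun a b => xSL a b (1 : K)) (fun σ => conj_pmSL_xSL _ σ h01 _)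
      (sym3_reach' _ _ hab)
  have hgen : Subgroup.closure (Set.range j ∪ Set.range ![hSL ζ 0 1, xSL 0 1 1]) = ⊤ := by
    set H := Subgroup.closure (Set.range j ∪ Set.range ![hSL ζ 0 1, xSL 0 1 1])
    have m1 : ∀ σ, j σ ∈ H := fun σ => Subgroup.subset_closure (Or.inl ⟨σ, rfl⟩)
    have m2 : hSL ζ 0 1 ∈ H := Subgroup.subset_closure (Or.inr ⟨0, rfl⟩)
    have m3 : xSL 0 1 1 ∈ H := Subgroup.subset_closure (Or.inr ⟨1, rfl⟩)
    refine eq_top_of_hSL h3 hζ (fun a b hab => ?_) fun a b hab g hg m => ?_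
    · rw [← eU hab]; exact mul_mem (mul_mem (m1 _) m3) (inv_mem (m1 _))
    · have : hSL ζ a b ^ m ∈ H := by
        rw [← eH hab]; exact zpow_mem (mul_mem (mul_mem (m1 _) m2) (inv_mem (m1 _))) _
      exact mul_mem (mul_mem this hg) (inv_mem this)
  obtain ⟨ω, hω1, hω2⟩ := exists_mem_normalClosure.{_, _, 0}
    (Sum.elim j ![hSL ζ 0 1, xSL 0 1 1]) (by rw [Set.Sum.elim_range]; exact hgen) {Sum.inr 1} (by
      rw [Set.image_singleton]
      change Subgroup.normalClosure {xSL 0 1 (1 : K)} = ⊤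
      refine eq_top_of_hSL h3 hζ (fun a b hab => ?_) fun a b hab g hg m => ?_
      · rw [← eU hab]; exact cA_mem _ (Subgroup.subset_normalClosure (Set.mem_singleton _)) _ _ _
      · exact Subgroup.Normal.conj_mem inferInstance _ hg _) (j (swap 0 1))
  have key := pres_sym_three.extendN j ![hSL ζ 0 1, xSL 0 1 1]
    (rels34 (fun a => FreeGroup.of (.inl a)) (FreeGroup.of (.inr 0))
      (FreeGroup.of (.inr 1)) ++ [FreeGroup.of (.inl (swap 0 1)) * ω⁻¹]) hgen ?_ ?_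
  · obtain ⟨π', h⟩ := key.pad (k := 4) (by simp)
    exact ⟨π', h.mono (by simp [rels34])⟩
  · rw [List.forall_mem_append, ← List.forall_mem_map (P := fun w => w = 1), map_rels34]
    refine ⟨?_, by simp [hω1]⟩
    have e : ∀ t : K, hSL ζ (0 : Fin 3) 2 * xSL 0 1 t * (hSL ζ 0 2)⁻¹ = xSL 0 1 (ζ * t) :=
      fun t => by rw [← conj_apply, conj_hSL_xSL _ _ _ h01]; simp [dd]
    have e' : hSL ζ (0 : Fin 3) 1 * xSL 0 2 1 * (hSL ζ 0 1)⁻¹ = xSL 0 2 (ζ : K) := by
      rw [← conj_apply, conj_hSL_xSL _ _ _ h02]; simp [dd]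
    simp only [FreeGroup.lift_apply_of, Sum.elim_inl, Sum.elim_inr, Matrix.cons_val_zero,
      Matrix.cons_val_one, rels34, List.forall_mem_cons, commutatorElement_eq_one_iff_commute,
      mul_inv_eq_one, eH h01, eH h02, eH h12, eU h01, eU h02, eU h12, eU h12.symm, e, e']
    refine ⟨(tor_hSL ζ).mul _ _ _, (tor_hSL ζ).comm _ _ _ _, commute_of_conj_eq ?_,
      xSL_pow_char 2 h01, ?_, stR_xSL.comm h01 h02 h02 h01.symm _ _,
      stR_xSL.comm h01 h02 h02 h01.symm _ _, stR_xSL.comm h01 h12.symm h01 h12 _ _,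
      stR_xSL.comm h01 h12.symm h01 h12 _ _, ?_, ?_, by simp⟩
    · rw [map_mul, MulAut.mul_apply, conj_hSL_xSL _ _ _ h01, conj_hSL_xSL _ _ _ h01]
      simp [dd]
    · rw [stR_xSL.add h01, mul_one, ← zz, sq (ζ : K), ← e, ← mul_one (ζ : K), ← e, sq]
      group
    · rw [commutatorElement_def, stR_xSL.step h01 h12 h02, mul_one]
    · rw [commutatorElement_def, stR_xSL.step h01 h12 h02, mul_one, mul_one]
  · intro J _ α y hg hr
    rw [List.forall_mem_append, ← List.forall_mem_map (P := fun w => w = 1), map_rels34] at hr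
    have hy : y = ![y 0, y 1] := by ext a; fin_cases a <;> rfl
    have h1 := hr.2 _ List.mem_cons_self
    have h2 := hω2 J (Sum.elim α y)
    rw [map_mul, map_inv, mul_inv_eq_one, FreeGroup.lift_apply_of] at h1
    rw [← h1, Set.image_singleton] at h2
    refine card_three_four h4 α (y 0) (y 1) (hy ▸ hg) (by simpa using hr.1) fun σ => ?_
    have hN : ((Subgroup.normalClosure {y 1}).comap α).Normal := inferInstance
    have : ∀ σ : Perm (Fin 3), ∃ a b : Perm (Fin 3), σ = a * swap 0 1 * a⁻¹ ∨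
        σ = a * swap 0 1 * a⁻¹ * (b * swap 0 1 * b⁻¹) := by decide +kernel
    obtain ⟨a, b, rfl | rfl⟩ := this σ
    · exact hN.conj_mem _ h2 a
    · exact mul_mem (hN.conj_mem _ h2 a) (hN.conj_mem _ h2 b)

theorem hasPres_SL_three [Finite K] :
    ∃ π : Fin 4 → Matrix.SpecialLinearGroup (Fin 3) K, HasPres π 14 := by
  by_cases h4 : Nat.card K = 4
  · exact hasPres_three_four h4
  · obtain ⟨π, h⟩ := hasPres_three h4
    simpa using h.pad (k := 4) (by simp)

end Cfsg.Agent.SLn
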