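import Cfsg.Agent.Lib.SLn.PresThreeFour
import Cfsg.Agent.Lib.SLn.PresFour
import Cfsg.Agent.Lib.Pres.Cover
import Cfsg.Agent.S2286
import Cfsg.Agent.S2290

/-!
# The presentations of the special linear groups, collected
-/

set_option autoImplicit false

namespace Cfsg.Agent.SLn

open Pres Matrix Equiv

variable {K : Type*} [Field K] [Finite K]

theorem presN_two : PresN (SpecialLinearGroup (Fin 2) K) 3 9 := by
  have := Fintype.ofFinite K
  obtain ⟨R, hR, ⟨e⟩⟩ := (S2286.result (F := K)).1
  exact ⟨_, (hasPres_of_equiv R e).mono hR⟩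

theorem presN_three : PresN (SpecialLinearGroup (Fin 3) K) 4 14 := hasPres_SL_three

theorem presN_four : PresN (SpecialLinearGroup (Fin 4) K) 4 18 := by
  obtain ⟨L, h1, h2, h3⟩ := exists_stab_list (i0 := (0 : Fin 4)) (i1 := 1) (k := 0) ⟨[], le_rfl, by
    have : Subsingleton (alternatingGroup {a : Fin 4 // a ≠ 0 ∧ a ≠ 1}) := by
      rw [alternatingGroup.eq_bot_of_card_le_two (by
        rw [Nat.card_eq_fintype_card, card_stab_dom (by decide)])]
      infer_instance
    exact Subsingleton.elim _ _⟩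
  obtain ⟨π, hπ⟩ := hasPres_four (K := K) (i2 := 2) (i3 := 3) (by decide) (by decide) (by decide)
    (by decide) (by decide) (by decide) h2 h3 (T := [2, 3]) (by decide) (by
      intro i j k a1 a2 a3
      obtain ⟨l, a4, a5, a6⟩ := exists_fourth (by simp) i j k
      obtain ⟨σ, b1, b2, b3, b4⟩ := exists_perm_four (a := (0 : Fin 4)) (b := 1) (c := 2) (d := 3)
        (by decide) (by decide) (by decide) (by decide) (by decide) (by decide) a1 a3 a4 a2 a5 a6
      rcases alt_or σ (a := 2) (b := 3) (by decide) with e | e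
      · exact ⟨⟨σ, e⟩, 2, by simp, b1, b2, b3⟩
      · exact ⟨⟨_, e⟩, 3, by simp, b1, b2, b3⟩)
    (Alt.carmichael_pres (α := Fin 4) (u := 0) (v := 1) (by decide))
  have hc : Fintype.card ({i : Fin 4 // i ≠ 0 ∧ i ≠ 1} ⊕ Fin 2) = 4 := by
    rw [Fintype.card_sum, card_stab_dom (by decide)]; rfl
  refine hπ.pres (by omega) ?_
  rw [hc]
  simp only [Fintype.card_fin, List.length_cons, List.length_nil]
  omega

theorem presN_five : PresN (SpecialLinearGroup (Fin 5) K) 5 21 := by
  obtain ⟨π, h⟩ := hasPres_SL_five_le (K := K) (n := 5) (k := 1) le_rfl (Or.inl ⟨rfl, rfl⟩)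
  exact h.pres (by simp) (by simp)

theorem presN_five_le {n : ℕ} (hn : 5 ≤ n) : PresN (SpecialLinearGroup (Fin n) K) 5 23 := by
  obtain ⟨π, h⟩ := hasPres_SL_five_le (K := K) (k := 2) hn (Or.inr rfl)
  exact h.pres (by simp) (by simp)

theorem presN_all {n : ℕ} (hn : 2 ≤ n) : PresN (SpecialLinearGroup (Fin n) K) 5 23 := by
  by_cases h : 5 ≤ n
  · exact presN_five_le h
  interval_cases n
  · exact presN_two.mono (by simp) (by simp)
  · exact presN_three.mono (by simp) (by simp)
  · exact presN_four.mono (by simp) (by simp)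

theorem exists_two_gen {n : ℕ} (hn : 2 ≤ n) :
    ∃ a b : SpecialLinearGroup (Fin n) K, Subgroup.closure {a, b} = ⊤ := by
  have := Fintype.ofFinite K
  obtain ⟨n, rfl⟩ : ∃ m, n = m + 1 := ⟨n - 1, by omega⟩
  exact S2290.two_gen n (by omega)

end Cfsg.Agent.SLn
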