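import Cfsg.Agent.Lib.SLn.MinIndexAux

/-!
# The minimal index of a proper subgroup of `SL_n(q)`, `n ≥ 3`
-/

set_option autoImplicit false

namespace Cfsg.Agent.SLn

open Matrix
open scoped Pointwise

variable {ι F : Type*} [Fintype ι] [DecidableEq ι] [Field F]

theorem tvHom_fix {φ : ι → F} {U : Submodule F (ι → F)} {hU : U ≤ kerv φ} {χ : ι → F}
    (hχ : U ≤ kerv χ) (a : Multiplicative U) :
    χ ᵥ* ((tvHom φ U hU a)⁻¹ : SpecialLinearGroup ι F).1 = χ := by
  apply vecMul_inv_of_eq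
  have : χ ⬝ᵥ a.toAdd.1 = 0 := hχ a.toAdd.2
  rw [coe_tvHom, vecMul_add, vecMul_one, vecMul_vecMulVec, this, zero_smul, add_zero]

theorem tvHom_conj [Finite F] {φ : ι → F} {U : Submodule F (ι → F)} (hU : U ≤ kerv φ)
    (hcard : Nat.card F < Nat.card U) (a b : Multiplicative U) (ha : a ≠ 1) (hb : b ≠ 1) :
    ∃ g : SpecialLinearGroup ι F, g * tvHom φ U hU a * g⁻¹ = tvHom φ U hU b ∧
      ∀ χ, U ≤ kerv χ → χ ᵥ* (g⁻¹ : SpecialLinearGroup ι F).1 = χ := by
  obtain ⟨g, hg, hg'⟩ := exists_SL_map U hcard a.toAdd.2 b.toAdd.2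
    (fun h => ha (Subtype.ext h)) (fun h => hb (Subtype.ext h))
  have h : ∀ χ, U ≤ kerv χ → χ ᵥ* (g⁻¹ : SpecialLinearGroup ι F).1 = χ :=
    fun χ hχ => vecMul_inv_of_eq (hg' χ hχ)
  refine ⟨g, Subtype.ext ?_, h⟩
  rw [coe_conj_of_eq g (coe_tvHom φ U hU a), hg, h φ hU, coe_tvHom]

theorem axA_smul {Ω : Type*} [MulAction (SpecialLinearGroup ι F) Ω] (ω : Ω)
    {φ : ι → F} {g : SpecialLinearGroup ι F} (hg : φ ᵥ* (g⁻¹ : SpecialLinearGroup ι F).1 = φ) :
    axA (MulAction.stabilizer (SpecialLinearGroup ι F) (g • ω)) φ =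
      g • axA (MulAction.stabilizer (SpecialLinearGroup ι F) ω) φ := by
  ext w
  rw [AddSubgroup.mem_pointwise_smul_iff_inv_smul_mem, mem_axA, mem_axA,
    ← hasTv_stabilizer_smul_iff (ω := ω) g, hg]
  change _ ↔ HasTv _ (g.1 *ᵥ ((g⁻¹ : SpecialLinearGroup ι F).1 *ᵥ w)) _
  rw [mulVec_mulVec, coe_mul_inv, one_mulVec]

theorem card_axA_dvd (H : Subgroup (SpecialLinearGroup ι F)) (φ : ι → F) :
    Nat.card (axA H φ) ∣ Nat.card (kerv φ) :=
  AddSubgroup.card_dvd_of_le (K := (kerv φ).toAddSubgroup) fun _ h => HasTv.dot h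

theorem card_kerv [Finite F] {φ : ι → F} (hφ : φ ≠ 0) :
    Nat.card (kerv φ) = Nat.card F ^ (Fintype.card ι - 1) := by
  have h := card_kerv_mul hφ
  have hq : 0 < Nat.card F := Nat.card_pos
  obtain ⟨i, -⟩ := Function.ne_iff.1 hφ
  have : 0 < Fintype.card ι := Fintype.card_pos_iff.2 ⟨i⟩
  apply Nat.eq_of_mul_eq_mul_right hq
  rw [h, ← pow_succ]
  congr 1; omega

theorem many_conjugates [Finite F] {Ω : Type*} [MulAction (SpecialLinearGroup ι F) Ω]
    (hn : 4 ≤ Fintype.card ι) {φ : ι → F} (hφ : φ ≠ 0) (ω₀ : Ω) (a : ℕ)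
    (ha : Nat.card (axA (MulAction.stabilizer (SpecialLinearGroup ι F) ω₀) φ) = a) (h1 : 1 < a)
    (h2 : a * Nat.card F < Nat.card (kerv φ)) :
    Nat.card (kerv φ) ≤ Nat.card F *
      Nat.card ((fun ω => axA (MulAction.stabilizer (SpecialLinearGroup ι F) ω) φ) ''
        {ω : Ω | Nat.card (axA (MulAction.stabilizer (SpecialLinearGroup ι F) ω) φ) = a}) := by
  classical
  set A := axA (MulAction.stabilizer (SpecialLinearGroup ι F) ω₀) φ with hA
  set X := (fun ω => axA (MulAction.stabilizer (SpecialLinearGroup ι F) ω) φ) ''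
        {ω : Ω | Nat.card (axA (MulAction.stabilizer (SpecialLinearGroup ι F) ω) φ) = a} with hX
  have hq : 1 < Nat.card F := Finite.one_lt_card
  obtain ⟨a₀, ha₀⟩ : ∃ a₀ : A, a₀ ≠ 0 := by
    have : Nontrivial A := Finite.one_lt_card_iff_nontrivial.1 (ha ▸ h1)
    exact exists_ne 0
  have ha₀' : a₀.1 ≠ 0 := fun h => ha₀ (Subtype.ext h)
  obtain ⟨ψ, hψ⟩ := exists_dot_ne_zero ha₀'
  rw [dotProduct_comm] at hψ
  set U : Submodule F (ι → F) := kerv φ ⊓ kerv ψ with hU
  have hUc : Nat.card U * Nat.card F = Nat.card (kerv φ) :=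
    card_inf_kerv_mul (kerv φ) (HasTv.dot a₀.2) hψ
  have hUq : Nat.card F < Nat.card U := by
    have h3 := card_kerv hφ
    have h4 : Nat.card F ^ 3 ≤ Nat.card F ^ (Fintype.card ι - 1) :=
      Nat.pow_le_pow_right (by omega) (by omega)
    by_contra h
    have h5 := Nat.mul_le_mul_right (Nat.card F) (not_lt.1 h)
    nlinarith
  have hXg : ∀ g : SpecialLinearGroup ι F, φ ᵥ* (g⁻¹ : SpecialLinearGroup ι F).1 = φ →
      ∀ B ∈ X, g • B ∈ X := by
    rintro g hg _ ⟨ω, hω, rfl⟩
    refine ⟨g • ω, ?_, axA_smul ω hg⟩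
    have := card_axA_smul ω φ g
    rw [hg] at this
    exact this.trans hω
  obtain ⟨r, f, e1, e2⟩ := burnside_uniform (tvHom ψ U inf_le_right) X
    (fun b => hXg _ (tvHom_fix inf_le_left b)) (fun b c hb hc => by
      obtain ⟨g, hg, hg'⟩ := tvHom_conj inf_le_right hUq b c hb hc
      refine ⟨g, hg, fun B => ⟨hXg g (hg' φ inf_le_left) B, fun h => ?_⟩⟩
      have := hXg g⁻¹ (vecMul_inv_of_eq (g := g⁻¹) (hg' φ inf_le_left)) _ h
      rwa [inv_smul_smul] at this)
  have hΓ : Nat.card (Multiplicative U) = Nat.card U := rfl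
  rw [hΓ] at e1 e2
  have := Fintype.ofFinite X
  have hlt : r * Nat.card U < Nat.card X * Nat.card U := by
    rw [e2, finsum_eq_sum_of_fintype, Nat.card_eq_fintype_card (α := X), ← Finset.card_univ,
      ← smul_eq_mul, ← Finset.sum_const]
    refine Finset.sum_lt_sum (fun B _ => Finite.card_subtype_le _) ⟨⟨A, ω₀, ha, rfl⟩,
      Finset.mem_univ _, ?_⟩
    by_contra hle
    have hall : ∀ b : Multiplicative U, tvHom ψ U inf_le_right b • A = A := by
      intro b
      by_contra hb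
      exact hle (Finite.card_subtype_lt (p := fun b : Multiplicative U =>
        tvHom ψ U inf_le_right b • A = A) hb)
    have hle2 : U.toAddSubgroup ≤ A := by
      intro u hu
      have h3 := hall (Multiplicative.ofAdd ⟨(ψ ⬝ᵥ a₀.1)⁻¹ • u, U.smul_mem _ hu⟩)
      have h4 := AddSubgroup.smul_mem_pointwise_smul a₀.1
        (tvHom ψ U inf_le_right (Multiplicative.ofAdd ⟨(ψ ⬝ᵥ a₀.1)⁻¹ • u, U.smul_mem _ hu⟩)) A a₀.2
      rw [h3] at h4
      have h5 := A.sub_mem h4 a₀.2
      change (1 + vecMulVec ((ψ ⬝ᵥ a₀.1)⁻¹ • u) ψ) *ᵥ a₀.1 - a₀.1 ∈ A at h5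
      rw [add_mulVec, one_mulVec, add_sub_cancel_left, vecMulVec_mulVec, op_smul_eq_smul,
        smul_smul, mul_inv_cancel₀ hψ, one_smul] at h5
      exact h5
    have h6 : Nat.card U ≤ Nat.card A := AddSubgroup.card_le_of_le hle2
    have h7 := Nat.mul_le_mul_right (Nat.card F) h6
    rw [ha] at h7
    omega
  have hr : r < Nat.card X := lt_of_mul_lt_mul_right hlt (Nat.zero_le _)
  rw [← hUc, mul_comm]
  refine Nat.mul_le_mul_left _ ?_
  obtain ⟨u, hu⟩ : ∃ u, Nat.card U = u + 1 := ⟨Nat.card U - 1, by omega⟩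
  rw [hu, Nat.add_sub_cancel] at e1
  rw [hu]
  have hf : f < r := by
    by_contra h
    have := Nat.mul_le_mul_left u (not_lt.1 h)
    nlinarith
  have := Nat.mul_le_mul_left u (show f + 1 ≤ r from hf)
  nlinarith

theorem card_fiber_ge [Finite F] {Ω : Type*} [MulAction (SpecialLinearGroup ι F) Ω] [Finite Ω]
    (φ : ι → F) (ω : Ω) (T : Set Ω)
    (hT : ∀ b : Multiplicative (kerv φ), tvHom φ (kerv φ) le_rfl b • ω ∈ T) :
    Nat.card (kerv φ) ≤
      Nat.card (axA (MulAction.stabilizer (SpecialLinearGroup ι F) ω) φ) * T.ncard := by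
  let _ : MulAction (Multiplicative (kerv φ)) Ω := MulAction.compHom Ω (tvHom φ (kerv φ) le_rfl)
  have h1 := Subgroup.card_mul_index (MulAction.stabilizer (Multiplicative (kerv φ)) ω)
  rw [MulAction.index_stabilizer] at h1
  have h2 : Nat.card (MulAction.stabilizer (Multiplicative (kerv φ)) ω) =
      Nat.card (axA (MulAction.stabilizer (SpecialLinearGroup ι F) ω) φ) := card_fix_tvHom ω φ
  have h3 : (MulAction.orbit (Multiplicative (kerv φ)) ω).ncard ≤ T.ncard :=
    Set.ncard_le_ncard (by rintro _ ⟨b, rfl⟩; exact hT b)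
  change Nat.card (Multiplicative (kerv φ)) ≤ _
  rw [← h1, h2]
  exact Nat.mul_le_mul_left _ h3

theorem burnside_axis [Finite F] {Ω : Type*} [MulAction (SpecialLinearGroup ι F) Ω] [Finite Ω]
    (hn : 3 ≤ Fintype.card ι) {φ : ι → F} (hφ : φ ≠ 0) (a : ℕ) :
    ∃ r f : ℕ, r * Nat.card (kerv φ) =
      Nat.card {ω : Ω | Nat.card (axA (MulAction.stabilizer (SpecialLinearGroup ι F) ω) φ) = a} +
        (Nat.card (kerv φ) - 1) * f ∧ r * Nat.card (kerv φ) =
      Nat.card {ω : Ω | Nat.card (axA (MulAction.stabilizer (SpecialLinearGroup ι F) ω) φ) = a} *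
        a := by
  set S := {ω : Ω | Nat.card (axA (MulAction.stabilizer (SpecialLinearGroup ι F) ω) φ) = a}
    with hS
  have hq : 1 < Nat.card F := Finite.one_lt_card
  have hNq : Nat.card F < Nat.card (kerv φ) := by
    rw [card_kerv hφ]
    calc Nat.card F = Nat.card F ^ 1 := (pow_one _).symm
      _ < _ := Nat.pow_lt_pow_right hq (by omega)
  have hSg : ∀ g : SpecialLinearGroup ι F, φ ᵥ* (g⁻¹ : SpecialLinearGroup ι F).1 = φ →
      ∀ ω, ω ∈ S ↔ g • ω ∈ S := by
    intro g hg ω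
    have := card_axA_smul ω φ g
    rw [hg] at this
    simp only [hS, Set.mem_ofPred_eq, this]
  obtain ⟨r, f, e1, e2⟩ := burnside_uniform (tvHom φ (kerv φ) le_rfl) S
    (fun b ω => (hSg _ (tvHom_fix le_rfl b) ω).1) (fun b c hb hc => by
      obtain ⟨g, hg, hg'⟩ := tvHom_conj le_rfl hNq b c hb hc
      exact ⟨g, hg, hSg g (hg' φ le_rfl)⟩)
  refine ⟨r, f, e1, e2.trans ?_⟩
  have := Fintype.ofFinite S
  rw [finsum_eq_sum_of_fintype, Finset.sum_congr rfl (fun ω _ => (card_fix_tvHom ω.1 φ).trans ω.2)]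
  simp

theorem card_axA_of_between [Finite F] {Ω : Type*} [MulAction (SpecialLinearGroup ι F) Ω]
    [Finite Ω] (hn : 3 ≤ Fintype.card ι) {φ : ι → F} (hφ : φ ≠ 0)
    (hm : Nat.card Ω * (Nat.card F - 1) ≤ Nat.card F * (Nat.card (kerv φ) - 1)) (ω₀ : Ω)
    (h1 : 1 < Nat.card (axA (MulAction.stabilizer (SpecialLinearGroup ι F) ω₀) φ))
    (h2 : Nat.card (axA (MulAction.stabilizer (SpecialLinearGroup ι F) ω₀) φ) < Nat.card (kerv φ))
    (ω : Ω) :
    Nat.card (axA (MulAction.stabilizer (SpecialLinearGroup ι F) ω) φ) * Nat.card F =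
      Nat.card (kerv φ) := by
  classical
  set a := Nat.card (axA (MulAction.stabilizer (SpecialLinearGroup ι F) ω₀) φ) with ha
  obtain ⟨r, f, e1, e2⟩ := burnside_axis (Ω := Ω) hn hφ a
  set S := {ω : Ω | Nat.card (axA (MulAction.stabilizer (SpecialLinearGroup ι F) ω) φ) = a}
    with hS
  have hq : 1 < Nat.card F := Finite.one_lt_card
  obtain ⟨s, hs⟩ := card_axA_dvd (MulAction.stabilizer (SpecialLinearGroup ι F) ω₀) φ
  rw [← ha] at hs
  have hm' : Nat.card S = r * s := by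
    apply Nat.eq_of_mul_eq_mul_right (show 0 < a by omega)
    rw [← e2, hs]; ring
  have hS0 : 0 < Nat.card S := Nat.card_pos_iff.2 ⟨⟨⟨ω₀, rfl⟩⟩, inferInstance⟩
  have hSle : Nat.card S ≤ Nat.card Ω := Finite.card_subtype_le _
  have hs1 : 1 < s := by
    by_contra h
    have := Nat.mul_le_mul_left a (not_lt.1 h)
    omega
  have hr0 : 0 < r := by
    rcases Nat.eq_zero_or_pos r with h | h
    · rw [h, zero_mul] at hm'; omega
    · exact h
  have hNc := card_kerv hφ
  obtain ⟨N, hN⟩ : ∃ N, Nat.card (kerv φ) = N + 1 := ⟨Nat.card (kerv φ) - 1, by omega⟩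
  obtain ⟨t, rfl⟩ : ∃ t, s = t + 1 := ⟨s - 1, by omega⟩
  obtain ⟨q, hq'⟩ : ∃ q, Nat.card F = q + 1 := ⟨Nat.card F - 1, by omega⟩
  have hmany := fun h4 => many_conjugates h4 hφ ω₀ a rfl h1
  rw [hN] at hs h2 hNc hmany ⊢
  rw [hq'] at hNc hmany hq ⊢
  rw [hN, hq', Nat.add_sub_cancel, Nat.add_sub_cancel] at hm
  rw [hN, Nat.add_sub_cancel, hm'] at e1
  have hf : f < r := by
    by_contra h
    have := Nat.mul_le_mul_left N (not_lt.1 h)
    nlinarith
  obtain ⟨k, rfl⟩ := Nat.exists_eq_add_of_lt hf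
  have e3 : (f + k + 1) * t = N * (k + 1) := by nlinarith
  have hm2 : (f + k + 1) * (t + 1) * q ≤ (q + 1) * N := by
    rw [← hm']; exact (Nat.mul_le_mul_right _ hSle).trans hm
  by_cases hsq : t ≤ q
  · have h3 : N ≤ (f + k + 1) * t := by rw [e3]; nlinarith
    have h4 : t = q := by
      by_contra h
      have : t + 1 ≤ q := by omega
      nlinarith
    subst h4
    have h5 : Nat.card Ω ≤ Nat.card S := by
      apply Nat.le_of_mul_le_mul_right _ (show 0 < t by omega)
      rw [hm']; nlinarith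
    have h6 : S = Set.univ := by
      apply Set.eq_of_subset_of_ncard_le (Set.subset_univ _)
      rw [Set.ncard_univ, ← Nat.card_coe_set_eq]
      exact h5
    have h7 : ω ∈ S := h6 ▸ Set.mem_univ _
    rw [hs, h7]
  · exfalso
    push Not at hsq
    rcases Nat.eq_or_lt_of_le hn with h3 | h3
    · rw [← h3] at hNc
      have hk : k = 0 := by
        by_contra hk
        have : N * 2 ≤ N * (k + 1) := Nat.mul_le_mul_left _ (by omega)
        nlinarith
      subst hk
      have h4 : a < t + 1 := by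
        by_contra h
        have := Nat.mul_le_mul_right (t + 1) (not_lt.1 h)
        norm_num at hNc
        nlinarith
      have h5 : t ∣ a - 1 := by
        have : a - 1 + a * t = (f + 0 + 1) * t := by
          rw [e3]; rw [mul_add] at hs; omega
        have h6 : t ∣ a - 1 + a * t := this ▸ Dvd.intro_left _ rfl
        exact (Nat.dvd_add_left (Dvd.intro_left _ rfl)).1 h6
      have := Nat.le_of_dvd (by omega) h5
      omega
    · have h4 := hmany h3 (by rw [hs]; exact Nat.mul_lt_mul_of_pos_left (by omega) (by omega))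
      have := Fintype.ofFinite Ω
      set φA := fun ω : Ω => axA (MulAction.stabilizer (SpecialLinearGroup ι F) ω) φ with hφA
      have h5 : (t + 1) * (S.toFinset.image φA).card ≤ S.toFinset.card := by
        refine Finset.mul_card_image_le_card _ _ fun B hB => ?_
        obtain ⟨ω₁, hω₁, rfl⟩ := Finset.mem_image.1 hB
        have hω₁' : ω₁ ∈ S := Set.mem_toFinset.1 hω₁
        have h6 := card_fiber_ge φ ω₁ (S.toFinset.filter fun x => φA x = φA ω₁ : Finset Ω) (by
          intro b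
          have h7 : φA (tvHom φ (kerv φ) le_rfl b • ω₁) = φA ω₁ := by
            ext w
            simp only [hφA, mem_axA]
            rw [← hasTv_stabilizer_smul_iff (ω := ω₁) (tvHom φ (kerv φ) le_rfl b),
              tvHom_fix le_rfl]
            have h8 : φ ⬝ᵥ w = 0 → (tvHom φ (kerv φ) le_rfl b).1 *ᵥ w = w := by
              intro h
              rw [coe_tvHom, add_mulVec, one_mulVec, vecMulVec_mulVec, h]; simp
            constructor
            · intro h; rwa [h8 h.dot]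
            · intro h
              have h9 := h.dot
              have h10 := vecMul_inv_of_eq (g := (tvHom φ (kerv φ) le_rfl b)⁻¹)
                (tvHom_fix le_rfl b)
              rw [inv_inv] at h10
              rw [dotProduct_mulVec, h10] at h9
              rwa [h8 h9] at h
          simp only [Finset.coe_filter, Set.mem_toFinset, Set.mem_ofPred_eq]
          refine ⟨?_, h7⟩
          change Nat.card (φA _) = a
          rw [h7]; exact hω₁')
        rw [Set.ncard_coe_finset, hN, hs, hω₁'] at h6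
        exact Nat.le_of_mul_le_mul_left h6 (by omega)
      have h6 : Nat.card (φA '' S) = (S.toFinset.image φA).card := by
        rw [Nat.card_coe_set_eq, ← Set.ncard_coe_finset, Finset.coe_image, Set.coe_toFinset]
      have h7 : S.toFinset.card = (f + k + 1) * (t + 1) := by
        rw [← hm', Nat.card_coe_set_eq, Set.ncard_eq_toFinset_card']
      rw [h6] at h4
      rw [h7] at h5
      have h8 : t ≠ q + 1 := by
        rintro rfl
        have h9 : q + 1 + 1 ∣ (q + 1) ^ (Fintype.card ι - 1) := hNc ▸ hs ▸ Dvd.intro_left _ rfl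
        have h10 : Nat.Coprime (q + 1 + 1) ((q + 1) ^ (Fintype.card ι - 1)) :=
          Nat.Coprime.pow_right _ (by simp)
        have := Nat.Coprime.eq_one_of_dvd h10 h9
        omega
      have h9 : q + 3 ≤ t + 1 := by omega
      set x := (S.toFinset.image φA).card
      have h10 : (q + 3) * x * q ≤ (q + 1) * N :=
        (Nat.mul_le_mul_right _ ((Nat.mul_le_mul_right _ h9).trans h5)).trans hm2
      have h11 := Nat.mul_le_mul_left (q + 1) h4
      have h12 : x * 1 ≤ x * q := Nat.mul_le_mul_left _ (by omega)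
      nlinarith

theorem exists_SL_vecMul [Finite F] (hn : 2 ≤ Fintype.card ι) {φ φ' : ι → F} (hφ : φ ≠ 0)
    (hφ' : φ' ≠ 0) : ∃ g : SpecialLinearGroup ι F, φ ᵥ* (g⁻¹ : SpecialLinearGroup ι F).1 = φ' := by
  have hq : 1 < Nat.card F := Finite.one_lt_card
  obtain ⟨g, hg, -⟩ := exists_SL_map (⊤ : Submodule F (ι → F)) (by
    rw [Nat.card_congr Submodule.topEquiv.toEquiv, Nat.card_fun, Nat.card_eq_fintype_card (α := ι)]
    calc Nat.card F = Nat.card F ^ 1 := (pow_one _).symm
      _ < _ := Nat.pow_lt_pow_right hq (by omega)) Submodule.mem_top Submodule.mem_top hφ hφ'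
  refine ⟨(Matrix.SpecialLinearGroup.transpose g)⁻¹, ?_⟩
  rw [inv_inv]
  change φ ᵥ* g.1ᵀ = φ'
  rw [vecMul_transpose, hg]

/-- the dichotomy for subgroups of small index -/
theorem axA_dichotomy [Finite F] (hn : 3 ≤ Fintype.card ι) (H : Subgroup (SpecialLinearGroup ι F))
    (hm : H.index * (Nat.card F - 1) ≤ Nat.card F * (Nat.card F ^ (Fintype.card ι - 1) - 1)) :
    (∀ φ : ι → F, φ ≠ 0 → Nat.card (axA H φ) * Nat.card F = Nat.card (kerv φ)) ∨
    (∀ φ : ι → F, φ ≠ 0 → Nat.card (axA H φ) = 1 ∨ Nat.card (axA H φ) = Nat.card (kerv φ)) := by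
  by_contra h
  push Not at h
  obtain ⟨⟨φ', hφ', h'⟩, ⟨φ, hφ, h1, h2⟩⟩ := h
  apply h'
  have hst := MulAction.stabilizer_quotient H
  obtain ⟨g, hg⟩ := exists_SL_vecMul (by omega) hφ' hφ
  have h3 := card_axA_smul ((1 : SpecialLinearGroup ι F) : SpecialLinearGroup ι F ⧸ H) φ' g
  rw [hg, hst] at h3
  rw [← h3, card_kerv hφ', ← card_kerv hφ]
  refine card_axA_of_between hn hφ (by rw [card_kerv hφ]; exact hm)
    ((1 : SpecialLinearGroup ι F) : SpecialLinearGroup ι F ⧸ H) ?_ ?_ _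
  · rw [hst]
    have : 0 < Nat.card (axA H φ) := Nat.card_pos
    omega
  · rw [hst]
    exact lt_of_le_of_ne (Nat.le_of_dvd Nat.card_pos (card_axA_dvd H φ)) h2

theorem hasAxis_of_card [Finite F] {H : Subgroup (SpecialLinearGroup ι F)} {φ : ι → F}
    (h : Nat.card (axA H φ) = Nat.card (kerv φ)) : HasAxis H φ := by
  have := AddSubgroup.eq_of_le_of_card_ge (H := axA H φ) (K := (kerv φ).toAddSubgroup)
    (fun _ h => HasTv.dot h) h.ge
  intro w hw
  have : w ∈ axA H φ := this ▸ hw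
  exact this

theorem exists_ne_zero_of_one_lt_card {A : AddSubgroup (ι → F)} [Finite A]
    (h : 1 < Nat.card A) : ∃ w ∈ A, w ≠ 0 := by
  have : Nontrivial A := Finite.one_lt_card_iff_nontrivial.1 h
  obtain ⟨a, ha⟩ := exists_ne (0 : A)
  exact ⟨a.1, a.2, fun h => ha (Subtype.ext h)⟩

theorem exists_functional_of_ne_top {C : Submodule F (ι → F)} (h : C ≠ ⊤) :
    ∃ φ : ι → F, φ ≠ 0 ∧ C ≤ kerv φ := by
  obtain ⟨f, hf, hC⟩ := Submodule.exists_le_ker_of_lt_top C h.lt_top
  have e : ∀ w, (fun i => f (Pi.single i 1)) ⬝ᵥ w = f w := by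
    intro w
    conv_rhs => rw [← Finset.univ_sum_single w, map_sum]
    refine Finset.sum_congr rfl fun i _ => ?_
    rw [show (Pi.single i (w i) : ι → F) = w i • Pi.single i 1 by simp [← Pi.single_smul],
      map_smul, smul_eq_mul, mul_comm]
  refine ⟨fun i => f (Pi.single i 1), fun h0 => hf ?_, fun w hw => ?_⟩
  · ext1 i
    ext
    simpa using congrFun h0 i
  · rw [mem_kerv, e]; exact hC hw

theorem not_index_q [Finite F] (hn : 3 ≤ Fintype.card ι) {H H' : Subgroup (SpecialLinearGroup ι F)}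
    (hrel : ∀ w φ, HasTv H' w φ ↔ HasTv H φ w) (hH : H ≠ ⊤)
    (hb : ∀ φ : ι → F, φ ≠ 0 → Nat.card (axA H φ) * Nat.card F = Nat.card (kerv φ))
    (hc : (∀ φ : ι → F, φ ≠ 0 → Nat.card (axA H' φ) * Nat.card F = Nat.card (kerv φ)) ∨
      (∀ φ : ι → F, φ ≠ 0 →
        Nat.card (axA H' φ) = 1 ∨ Nat.card (axA H' φ) = Nat.card (kerv φ))) : False := by
  classical
  have hq : 1 < Nat.card F := Finite.one_lt_card
  have hN : ∀ φ : ι → F, φ ≠ 0 → Nat.card F * Nat.card F ≤ Nat.card (kerv φ) := by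
    intro φ hφ
    rw [card_kerv hφ, ← pow_two]
    exact Nat.pow_le_pow_right (by omega) (by omega)
  have step1 : ∀ w φ : ι → F, w ≠ 0 → φ ≠ 0 → HasTv H w φ → ∀ φ', φ' ≠ 0 → φ' ⬝ᵥ w = 0 →
      ∃ c : F, c ≠ 0 ∧ HasTv H w (c • φ') := by
    intro w φ hw hφ h φ' hφ' h0
    by_cases hK : ∃ w' ∈ axA H φ', φ ⬝ᵥ w' ≠ 0
    · obtain ⟨w', hw', hc⟩ := hK
      exact ⟨_, hc, (HasTv.smul_swap _).1 (h.comm_left hw' h0)⟩
    push Not at hK
    rcases exists_dot_eq_zero_dot_eq_one φ' φ with ⟨c, rfl⟩ | ⟨u, hu0, hu1⟩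
    · exact ⟨c, by rintro rfl; simp at hφ, h⟩
    · have h1 := card_inf_kerv_mul (kerv φ') (ψ := φ) hu0 (by rw [hu1]; exact one_ne_zero)
      rw [← hb φ' hφ'] at h1
      have h2 := AddSubgroup.eq_of_le_of_card_ge (H := axA H φ')
        (K := (kerv φ' ⊓ kerv φ).toAddSubgroup) (fun x hx => ⟨HasTv.dot hx, hK x hx⟩)
        (Nat.eq_of_mul_eq_mul_right (by omega) h1).le
      refine ⟨1, one_ne_zero, ?_⟩
      rw [one_smul, ← mem_axA, h2]
      exact ⟨h0, h.dot⟩
  have step2 : ∀ w φ : ι → F, w ≠ 0 → φ ≠ 0 → HasTv H w φ → HasCentre H w := by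
    intro w φ hw hφ h
    have hA : HasAxis H' w := by
      apply hasAxis_of_card
      have h1 : 1 < Nat.card (axA H' w) := by
        rw [Finite.one_lt_card_iff_nontrivial]
        exact ⟨⟨⟨φ, (hrel _ _).2 h⟩, 0, fun e => hφ (congrArg Subtype.val e)⟩⟩
      rcases hc with hc | hc
      · exfalso
        have h2 := hc w hw
        have h3 := hN w hw
        let f : Fˣ × {x : axA H' w // x ≠ 0} → {x : kerv w // x ≠ 0} := fun p =>
          ⟨⟨(p.1 : F) • p.2.1.1, (kerv w).smul_mem _ (HasTv.dot p.2.1.2)⟩, fun e => by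
            have := congrArg Subtype.val e
            simp only [ZeroMemClass.coe_zero, smul_eq_zero, Units.ne_zero, false_or] at this
            exact p.2.2 (Subtype.ext this)⟩
        have hf : Function.Surjective f := by
          rintro ⟨⟨x, hx⟩, hx0⟩
          have hx0' : x ≠ 0 := fun e => hx0 (Subtype.ext e)
          obtain ⟨c, hc0, hcx⟩ := step1 w φ hw hφ h x hx0' (by rwa [dotProduct_comm])
          refine ⟨((Units.mk0 c hc0)⁻¹, ⟨⟨c • x, (hrel _ _).2 hcx⟩, fun e => ?_⟩), ?_⟩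
          · have := congrArg Subtype.val e
            simp [hc0, hx0'] at this
          · apply Subtype.ext; apply Subtype.ext
            simp [f, smul_smul, hc0]
        have h4 := Nat.card_le_card_of_surjective f hf
        have := Fintype.ofFinite (axA H' w)
        have := Fintype.ofFinite (kerv w)
        rw [Nat.card_prod, Nat.card_units, Nat.card_eq_fintype_card (α := {x : kerv w // x ≠ 0}),
          Nat.card_eq_fintype_card (α := {x : axA H' w // x ≠ 0}), Fintype.card_subtype_compl,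
          Fintype.card_subtype_compl, Fintype.card_subtype_eq, Fintype.card_subtype_eq,
          ← Nat.card_eq_fintype_card, ← Nat.card_eq_fintype_card, ← h2] at h4
        obtain ⟨b, hb'⟩ : ∃ b, Nat.card (axA H' w) = b + 2 := ⟨Nat.card (axA H' w) - 2, by omega⟩
        obtain ⟨q, hq'⟩ : ∃ q, Nat.card F = q + 2 := ⟨Nat.card F - 2, by omega⟩
        rw [hb', hq'] at h4
        have : (b + 2) * (q + 2) = b * q + 2 * b + 2 * q + 4 := by ring
        have : (q + 2 - 1) * (b + 2 - 1) = b * q + b + q + 1 := by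
          rw [show q + 2 - 1 = q + 1 by omega, show b + 2 - 1 = b + 1 by omega]; ring
        omega
      · exact (hc w hw).resolve_left (by omega)
    intro χ hχ
    exact (hrel _ _).1 (hA χ (by rwa [dotProduct_comm]))
  have step3 : ∀ φ : ι → F, φ ≠ 0 →
      Nat.card (centreSub H ⊓ kerv φ : Submodule F (ι → F)) = Nat.card (axA H φ) := by
    intro φ hφ
    have : axA H φ = (centreSub H ⊓ kerv φ).toAddSubgroup := by
      ext w
      constructor
      · intro h
        refine ⟨?_, HasTv.dot h⟩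
        by_cases hw : w = 0
        · rw [hw]; exact zero_mem _
        · exact step2 w φ hw hφ h
      · rintro ⟨h1, h2⟩
        exact h1 φ h2
    rw [this]; rfl
  obtain ⟨φ₀, hφ₀, hC⟩ := exists_functional_of_ne_top
    (fun h => hH (eq_top_of_centreSub H h))
  have h1 := step3 φ₀ hφ₀
  rw [inf_eq_left.2 hC] at h1
  have h2 := hb φ₀ hφ₀
  have h3 := hN φ₀ hφ₀
  obtain ⟨w, hw, hw0⟩ := exists_ne_zero_of_one_lt_card (A := axA H φ₀) (by
    by_contra h
    have := Nat.mul_le_mul_right (Nat.card F) (not_lt.1 h)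
    nlinarith)
  obtain ⟨φ₁, hφ₁⟩ := exists_dot_ne_zero hw0
  rw [dotProduct_comm] at hφ₁
  have hφ₁0 : φ₁ ≠ 0 := by rintro rfl; simp at hφ₁
  have h4 := card_inf_kerv_mul (centreSub H) (step2 w φ₀ hw0 hφ₀ hw) hφ₁
  have h5 := hb φ₁ hφ₁0
  rw [step3 φ₁ hφ₁0, h5, card_kerv hφ₁0, ← card_kerv hφ₀, h1] at h4
  rw [← h4] at h2
  have : 0 < Nat.card (kerv φ₀) := Nat.card_pos
  nlinarith

theorem no_transvection [Finite F] (hn : 3 ≤ Fintype.card ι)
    (H : Subgroup (SpecialLinearGroup ι F)) (hH : H ≠ ⊤)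
    (hm : H.index * (Nat.card F - 1) ≤ Nat.card F * (Nat.card F ^ (Fintype.card ι - 1) - 1))
    {w φ : ι → F} (h : HasTv H w φ) : w = 0 ∨ φ = 0 := by
  have hq : 1 < Nat.card F := Finite.one_lt_card
  set H' := H.comap invTranspose with hH'
  have hrel : ∀ w φ, HasTv H' w φ ↔ HasTv H φ w := hasTv_comap_invTranspose H
  have hidx : H'.index = H.index := H.index_comap_of_surjective invTranspose_surjective
  have hH'top : H' ≠ ⊤ := by
    rw [Ne, ← Subgroup.index_eq_one, hidx, Subgroup.index_eq_one]; exact hH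
  have d1 := axA_dichotomy hn H hm
  have d2 := axA_dichotomy hn H' (hidx ▸ hm)
  rcases d1 with d1 | d1
  · exact (not_index_q hn hrel hH d1 d2).elim
  rcases d2 with d2 | d2
  · exact (not_index_q hn (fun w φ => (hrel φ w).symm) hH'top d2 (Or.inr d1)).elim
  by_contra hne
  push Not at hne
  have key : ∀ (K : Subgroup (SpecialLinearGroup ι F)), (∀ φ : ι → F, φ ≠ 0 →
      Nat.card (axA K φ) = 1 ∨ Nat.card (axA K φ) = Nat.card (kerv φ)) →
      ∀ w φ : ι → F, w ≠ 0 → φ ≠ 0 → HasTv K w φ → HasAxis K φ := by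
    intro K hK w φ hw hφ h
    apply hasAxis_of_card
    refine (hK φ hφ).resolve_left (ne_of_gt ?_)
    rw [Finite.one_lt_card_iff_nontrivial]
    exact ⟨⟨⟨w, h⟩, 0, fun e => hw (congrArg Subtype.val e)⟩⟩
  have h1 := key H d1 w φ hne.1 hne.2 h
  apply hH
  apply eq_top_of_axisSub
  rw [eq_top_iff]
  intro φ' _
  by_cases hφ' : φ' = 0
  · rw [hφ']; exact zero_mem _
  rcases exists_dot_eq_zero_dot_eq_one φ φ' with ⟨c, rfl⟩ | ⟨u, hu0, hu1⟩
  · exact h1.smul c
  have h2 := card_inf_kerv_mul (kerv φ) (ψ := φ') hu0 (by rw [hu1]; exact one_ne_zero)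
  obtain ⟨w', hw', hw0⟩ := exists_ne_zero_of_one_lt_card
    (A := (kerv φ ⊓ kerv φ').toAddSubgroup) (by
      change 1 < Nat.card (kerv φ ⊓ kerv φ' : Submodule F (ι → F))
      by_contra h
      have h3 := Nat.mul_le_mul_right (Nat.card F) (not_lt.1 h)
      have h4 : Nat.card F ^ 2 ≤ Nat.card (kerv φ) := by
        rw [card_kerv hne.2]
        exact Nat.pow_le_pow_right (by omega) (by omega)
      nlinarith)
  have h3 := key H' d2 φ w' hne.2 hw0 ((hrel _ _).2 (h1 w' hw'.1))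
  exact key H d1 w' φ' hw0 hφ' ((hrel _ _).1 (h3 φ' (by rw [dotProduct_comm]; exact hw'.2)))

end Cfsg.Agent.SLn
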