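import Cfsg.Agent.Lib.SLn.LinAux

/-!
# Bordered matrices, Schur complements and one step of an `LU` factorisation
-/

set_option autoImplicit false

namespace Cfsg.Agent.SLn

open Matrix

variable {F : Type*} [Field F] {n : ℕ}

/-- the matrix with corner `a`, first row `r`, first column `s` and lower right block `D` -/
def bord (a : F) (r s : Fin n → F) (D : Matrix (Fin n) (Fin n) F) :
    Matrix (Fin (n + 1)) (Fin (n + 1)) F :=
  of (Fin.cons (Fin.cons a r) (fun i => Fin.cons (s i) (D i)))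

section
variable (a : F) (r s : Fin n → F) (D : Matrix (Fin n) (Fin n) F)

@[simp] theorem bord_zero_zero : bord a r s D 0 0 = a := rfl
@[simp] theorem bord_zero_succ (j : Fin n) : bord a r s D 0 j.succ = r j := rfl
@[simp] theorem bord_succ_zero (i : Fin n) : bord a r s D i.succ 0 = s i := rfl
@[simp] theorem bord_succ_succ (i j : Fin n) : bord a r s D i.succ j.succ = D i j := rfl

end

theorem bord_ext {A B : Matrix (Fin (n + 1)) (Fin (n + 1)) F} (h1 : A 0 0 = B 0 0)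
    (h2 : ∀ j : Fin n, A 0 j.succ = B 0 j.succ) (h3 : ∀ i : Fin n, A i.succ 0 = B i.succ 0)
    (h4 : ∀ i j : Fin n, A i.succ j.succ = B i.succ j.succ) : A = B := by
  ext i j
  refine Fin.cases ?_ (fun i => ?_) i <;> refine Fin.cases ?_ (fun j => ?_) j
  exacts [h1, h2 j, h3 i, h4 i j]

theorem bord_eta (A : Matrix (Fin (n + 1)) (Fin (n + 1)) F) :
    A = bord (A 0 0) (fun j => A 0 j.succ) (fun i => A i.succ 0)
      (A.submatrix Fin.succ Fin.succ) :=
  bord_ext rfl (fun _ => rfl) (fun _ => rfl) (fun _ _ => rfl)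

theorem bord_mul (a a' : F) (r s r' s' : Fin n → F) (D D' : Matrix (Fin n) (Fin n) F) :
    bord a r s D * bord a' r' s' D' =
      bord (a * a' + r ⬝ᵥ s') (a • r' + r ᵥ* D') (a' • s + D *ᵥ s') (vecMulVec s r' + D * D') := by
  refine bord_ext ?_ (fun j => ?_) (fun i => ?_) (fun i j => ?_)
  · simp [mul_apply, Fin.sum_univ_succ, dotProduct]
  · simp [mul_apply, Fin.sum_univ_succ, vecMul, dotProduct]
  · simp [mul_apply, Fin.sum_univ_succ, mulVec, dotProduct, mul_comm]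
  · simp [mul_apply, Fin.sum_univ_succ, vecMulVec_apply]

theorem bord_one : bord 1 0 0 1 = (1 : Matrix (Fin (n + 1)) (Fin (n + 1)) F) := by
  refine bord_ext ?_ (fun j => ?_) (fun i => ?_) (fun i j => ?_)
  · simp
  · simp [one_apply, (Fin.succ_ne_zero j).symm]
  · simp [one_apply]
  · simp [one_apply]

theorem submatrix_bord (a : F) (r s : Fin n → F) (D : Matrix (Fin n) (Fin n) F) :
    (bord a r s D).submatrix Fin.succ Fin.succ = D := by
  ext i j; rfl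

theorem det_bord_col (a : F) (r : Fin n → F) (D : Matrix (Fin n) (Fin n) F) :
    (bord a r 0 D).det = a * D.det := by
  rw [det_succ_column_zero, Fin.sum_univ_succ]
  simp [submatrix_bord]

theorem det_bord_row (a : F) (s : Fin n → F) (D : Matrix (Fin n) (Fin n) F) :
    (bord a 0 s D).det = a * D.det := by
  rw [det_succ_row_zero, Fin.sum_univ_succ]
  simp [submatrix_bord]

theorem bord_mulVec (a : F) (r s : Fin n → F) (D : Matrix (Fin n) (Fin n) F) (x : F)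
    (u : Fin n → F) :
    bord a r s D *ᵥ Fin.cons x u = Fin.cons (a * x + r ⬝ᵥ u) (x • s + D *ᵥ u) := by
  ext i
  refine Fin.cases ?_ (fun i => ?_) i
  · simp [mulVec, dotProduct, Fin.sum_univ_succ]
  · simp [mulVec, dotProduct, Fin.sum_univ_succ, mul_comm]

theorem vecMul_bord (a : F) (r s : Fin n → F) (D : Matrix (Fin n) (Fin n) F) (x : F)
    (u : Fin n → F) :
    Fin.cons x u ᵥ* bord a r s D = Fin.cons (x * a + u ⬝ᵥ s) (x • r + u ᵥ* D) := by
  ext i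
  refine Fin.cases ?_ (fun i => ?_) i
  · simp [vecMul, dotProduct, Fin.sum_univ_succ]
  · simp [vecMul, dotProduct, Fin.sum_univ_succ]

/-- `1 ⊕ g` -/
def oneSum (g : SpecialLinearGroup (Fin n) F) : SpecialLinearGroup (Fin (n + 1)) F :=
  ⟨bord 1 0 0 g.1, by rw [det_bord_col, g.2, one_mul]⟩

theorem coe_oneSum (g : SpecialLinearGroup (Fin n) F) : (oneSum g).1 = bord 1 0 0 g.1 := rfl

theorem coe_oneSum_inv (g : SpecialLinearGroup (Fin n) F) :
    ((oneSum g)⁻¹).1 = bord 1 0 0 (g⁻¹).1 := by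
  have h : (oneSum g).1 * bord 1 0 0 (g⁻¹).1 = 1 := by
    rw [coe_oneSum, bord_mul, coe_mul_inv]; simpa using bord_one
  calc _ = ((oneSum g)⁻¹).1 * ((oneSum g).1 * bord 1 0 0 (g⁻¹).1) := by rw [h, mul_one]
    _ = _ := by rw [← mul_assoc, coe_inv_mul, one_mul]

/-- Schur complement of the corner entry -/
noncomputable def schur (A : Matrix (Fin (n + 1)) (Fin (n + 1)) F) : Matrix (Fin n) (Fin n) F :=
  A.submatrix Fin.succ Fin.succ -
    (A 0 0)⁻¹ • vecMulVec (fun i => A i.succ 0) (fun j => A 0 j.succ)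

theorem eq_bord_mul_bord {A : Matrix (Fin (n + 1)) (Fin (n + 1)) F} {b c : F} (hb : b ≠ 0)
    (hc : c ≠ 0) (h : A 0 0 = b * c) :
    A = bord b 0 (c⁻¹ • fun i => A i.succ 0) 1 *
      bord c (b⁻¹ • fun j => A 0 j.succ) 0 (schur A) := by
  rw [bord_mul]
  refine bord_ext ?_ (fun j => ?_) (fun i => ?_) (fun i j => ?_)
  · simp [h]
  · simp [hb]
  · simp [hc]
  · simp [schur, vecMulVec_apply, h]; ring

theorem det_eq_schur {A : Matrix (Fin (n + 1)) (Fin (n + 1)) F} (h : A 0 0 ≠ 0) :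
    A.det = A 0 0 * (schur A).det := by
  conv_lhs => rw [eq_bord_mul_bord (A := A) one_ne_zero h (one_mul _).symm]
  rw [det_mul, det_bord_row, det_bord_col]; simp

/-- `A = g L U g⁻¹` with `L` lower and `U` upper triangular with diagonals `β`, `γ` -/
structure IsLU (A : Matrix (Fin n) (Fin n) F) (β γ : Fin n → F)
    (g : SpecialLinearGroup (Fin n) F) (L U : Matrix (Fin n) (Fin n) F) : Prop where
  lower : ∀ i j, i < j → L i j = 0
  upper : ∀ i j, j < i → U i j = 0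
  dL : ∀ i, L i i = β i
  dU : ∀ i, U i i = γ i
  eq : A = g.1 * (L * U) * (g⁻¹).1

theorem IsLU.conj {A : Matrix (Fin n) (Fin n) F} {β γ : Fin n → F}
    {g : SpecialLinearGroup (Fin n) F} {L U : Matrix (Fin n) (Fin n) F}
    (k : SpecialLinearGroup (Fin n) F) (h : IsLU ((k⁻¹).1 * A * k.1) β γ g L U) :
    IsLU A β γ (k * g) L U := by
  refine ⟨h.lower, h.upper, h.dL, h.dU, ?_⟩
  rw [_root_.mul_inv_rev, Matrix.SpecialLinearGroup.coe_mul, Matrix.SpecialLinearGroup.coe_mul]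
  calc A = (k.1 * (k⁻¹).1) * A * (k.1 * (k⁻¹).1) := by rw [coe_mul_inv]; simp
    _ = k.1 * ((k⁻¹).1 * A * k.1) * (k⁻¹).1 := by simp only [mul_assoc]
    _ = _ := by rw [h.eq]; simp only [mul_assoc]

theorem IsLU.bord {A : Matrix (Fin (n + 1)) (Fin (n + 1)) F} {β γ : Fin (n + 1) → F}
    (hb : β 0 ≠ 0) (hc : γ 0 ≠ 0) (h0 : A 0 0 = β 0 * γ 0)
    {g : SpecialLinearGroup (Fin n) F} {L U : Matrix (Fin n) (Fin n) F}
    (h : IsLU (schur A) (fun i => β i.succ) (fun i => γ i.succ) g L U) :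
    IsLU A β γ (oneSum g) (bord (β 0) 0 ((γ 0)⁻¹ • ((g⁻¹).1 *ᵥ fun i => A i.succ 0)) L)
      (bord (γ 0) ((β 0)⁻¹ • ((fun j => A 0 j.succ) ᵥ* g.1)) 0 U) := by
  refine ⟨?_, ?_, ?_, ?_, ?_⟩
  · intro i j
    refine Fin.cases ?_ (fun i => ?_) i <;> refine Fin.cases ?_ (fun j => ?_) j <;> intro hij
    · simp at hij
    · simp
    · simp at hij
    · simpa using h.lower i j (by simpa using hij)
  · intro i j
    refine Fin.cases ?_ (fun i => ?_) i <;> refine Fin.cases ?_ (fun j => ?_) j <;> intro hij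
    · simp at hij
    · simp at hij
    · simp
    · simpa using h.upper i j (by simpa using hij)
  · intro i
    refine Fin.cases ?_ (fun i => ?_) i
    · simp
    · simpa using h.dL i
  · intro i
    refine Fin.cases ?_ (fun i => ?_) i
    · simp
    · simpa using h.dU i
  · conv_lhs => rw [eq_bord_mul_bord hb hc h0, h.eq]
    rw [coe_oneSum_inv, coe_oneSum]
    simp only [bord_mul]
    congr 1
    · simp
    · simp [vecMul_smul, smul_vecMul, vecMul_vecMul, mul_adjugate]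
    · simp [mulVec_smul, mulVec_mulVec, mul_adjugate, smul_smul, hc]
    · simp [mul_add, add_mul, mul_vecMulVec, vecMulVec_mul, mulVec_smul, mulVec_mulVec,
        mul_adjugate, smul_vecMul, vecMul_vecMul]

theorem single_zero_eq_cons :
    (Pi.single 0 1 : Fin (n + 1) → F) = Fin.cons 1 0 := by
  ext i
  refine Fin.cases ?_ (fun i => ?_) i
  · simp
  · simp

theorem single_zero_dot (w : Fin (n + 1) → F) : (Pi.single 0 1 : Fin (n + 1) → F) ⬝ᵥ w = w 0 := by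
  simp

/-- a vector and a functional pairing to one can be moved to the standard ones -/
theorem exists_SL_pair (hn : 1 ≤ n) {v φ : Fin (n + 1) → F} (h : φ ⬝ᵥ v = 1) :
    ∃ g : SpecialLinearGroup (Fin (n + 1)) F,
      g.1 *ᵥ Pi.single 0 1 = v ∧ φ ᵥ* g.1 = Pi.single 0 1 := by
  have hv : v ≠ 0 := by rintro rfl; simp at h
  obtain ⟨g, hg⟩ := exists_SL_mulVec (ι := Fin (n + 1)) (by simpa using hn)
    (v := Pi.single 0 1) (by simp) hv
  have h1 : (φ ᵥ* g.1) ⬝ᵥ Pi.single 0 1 = 1 := by rw [← dotProduct_mulVec, hg, h]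
  have h2 : (Pi.single 0 1 - φ ᵥ* g.1) ⬝ᵥ (Pi.single 0 1 : Fin (n + 1) → F) = 0 := by
    rw [sub_dotProduct, h1]; simp
  refine ⟨g * tv (Pi.single 0 1) _ h2, ?_, ?_⟩
  · rw [Matrix.SpecialLinearGroup.coe_mul, ← mulVec_mulVec, tv_mulVec, h2, zero_smul, add_zero, hg]
  · rw [Matrix.SpecialLinearGroup.coe_mul, ← vecMul_vecMul, coe_tv, vecMul_add, vecMul_one,
      vecMul_vecMulVec, h1, one_smul]
    abel

section Pair

variable {A : Matrix (Fin (n + 1)) (Fin (n + 1)) F} {g : SpecialLinearGroup (Fin (n + 1)) F}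
  {v φ : Fin (n + 1) → F}

theorem pair_dot (h2 : φ ᵥ* g.1 = Pi.single 0 1) (w : Fin (n + 1) → F) :
    φ ⬝ᵥ (g.1 *ᵥ w) = w 0 := by
  rw [dotProduct_mulVec, h2, single_zero_dot]

theorem pair_inv_zero (h2 : φ ᵥ* g.1 = Pi.single 0 1) (w : Fin (n + 1) → F) :
    ((g⁻¹).1 *ᵥ w) 0 = φ ⬝ᵥ w := by
  rw [← pair_dot h2 ((g⁻¹).1 *ᵥ w), mulVec_mulVec, coe_mul_inv, one_mulVec]

theorem pair_mulVec (A : Matrix (Fin (n + 1)) (Fin (n + 1)) F)
    (g : SpecialLinearGroup (Fin (n + 1)) F) (w : Fin (n + 1) → F) :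
    g.1 *ᵥ (((g⁻¹).1 * A * g.1) *ᵥ w) = A *ᵥ (g.1 *ᵥ w) := by
  rw [mulVec_mulVec, mulVec_mulVec, ← mul_assoc, ← mul_assoc, coe_mul_inv, one_mul]

theorem pair_corner (h1 : g.1 *ᵥ Pi.single 0 1 = v) (h2 : φ ᵥ* g.1 = Pi.single 0 1) :
    ((g⁻¹).1 * A * g.1) 0 0 = φ ⬝ᵥ (A *ᵥ v) := by
  rw [← h1, ← pair_mulVec, pair_dot h2]; simp

theorem pair_ker (h2 : φ ᵥ* g.1 = Pi.single 0 1) {u : Fin (n + 1) → F} (hu : φ ⬝ᵥ u = 0) :
    ∃ u' : Fin n → F, g.1 *ᵥ Fin.cons 0 u' = u := by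
  refine ⟨fun i => ((g⁻¹).1 *ᵥ u) i.succ, ?_⟩
  have : (Fin.cons 0 (fun i => ((g⁻¹).1 *ᵥ u) i.succ) : Fin (n + 1) → F) = (g⁻¹).1 *ᵥ u := by
    ext i
    refine Fin.cases ?_ (fun i => ?_) i
    · rw [pair_inv_zero h2, hu]; rfl
    · rfl
  rw [this, mulVec_mulVec, coe_mul_inv, one_mulVec]

theorem cons_schur_mulVec (B : Matrix (Fin (n + 1)) (Fin (n + 1)) F) (hB : B 0 0 ≠ 0)
    (u : Fin n → F) :
    (Fin.cons 0 (schur B *ᵥ u) : Fin (n + 1) → F) = B *ᵥ Fin.cons 0 u -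
      ((B 0 0)⁻¹ * (B *ᵥ Fin.cons 0 u) 0) • B *ᵥ Pi.single 0 1 := by
  ext i
  refine Fin.cases ?_ (fun i => ?_) i
  · simp; field_simp; ring
  · simp [schur, sub_mulVec, smul_mulVec, vecMulVec_mulVec, mulVec, dotProduct, Fin.sum_univ_succ,
      Pi.single_apply, vecMulVec_apply, sub_mul, Finset.sum_sub_distrib, Finset.mul_sum,
      Finset.sum_mul]
    exact Finset.sum_congr rfl fun _ _ => by ring

theorem pair_schur (h1 : g.1 *ᵥ Pi.single 0 1 = v) (h2 : φ ᵥ* g.1 = Pi.single 0 1)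
    (h0 : φ ⬝ᵥ (A *ᵥ v) ≠ 0) (u : Fin n → F) :
    g.1 *ᵥ Fin.cons 0 (schur ((g⁻¹).1 * A * g.1) *ᵥ u) = A *ᵥ (g.1 *ᵥ Fin.cons 0 u) -
      ((φ ⬝ᵥ (A *ᵥ v))⁻¹ * φ ⬝ᵥ (A *ᵥ (g.1 *ᵥ Fin.cons 0 u))) • A *ᵥ v := by
  rw [cons_schur_mulVec _ (by rwa [pair_corner h1 h2]), mulVec_sub, mulVec_smul, pair_mulVec,
    pair_mulVec, h1, pair_corner h1 h2, ← pair_mulVec A g (Fin.cons 0 u), pair_dot h2]

end Pair

end Cfsg.Agent.SLn
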