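import Cfsg.Agent.Lib.SLn.Bord

/-!
# An upper Hessenberg matrix of determinant one with non-zero last subdiagonal entry is a
commutator in `SL_n`, `n ≥ 3`
-/

set_option autoImplicit false

namespace Cfsg.Agent.SLn

open Matrix Polynomial

theorem exists_seq_hist {S : Type*} (s₀ : S) (Q : ℕ → S → S → Set S → Set S → Prop) (N : ℕ)
    (step : ∀ c < N, ∀ x : ℕ → S, x 0 = s₀ →
      (∀ j < c, Q j (x j) (x (j + 1)) (x '' Set.Iio j) (x '' Set.Iic j)) →
        ∃ s, Q c (x c) s (x '' Set.Iio c) (x '' Set.Iic c)) :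
    ∃ x : ℕ → S, x 0 = s₀ ∧ ∀ j < N, Q j (x j) (x (j + 1)) (x '' Set.Iio j) (x '' Set.Iic j) := by
  induction N with
  | zero => exact ⟨fun _ => s₀, rfl, fun j hj => absurd hj (Nat.not_lt_zero j)⟩
  | succ N ih =>
    obtain ⟨x, h0, hx⟩ := ih fun c hc => step c (by omega)
    obtain ⟨s, hs⟩ := step N (by omega) x h0 hx
    refine ⟨Function.update x (N + 1) s, by simpa using h0, fun j hj => ?_⟩
    have e1 : Function.update x (N + 1) s '' Set.Iio j = x '' Set.Iio j :=
      Set.image_congr fun i hi => Function.update_of_ne (by simp at hi; omega) _ _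
    have e2 : Function.update x (N + 1) s '' Set.Iic j = x '' Set.Iic j :=
      Set.image_congr fun i hi => Function.update_of_ne (by simp at hi; omega) _ _
    rw [e1, e2, Function.update_of_ne (by omega)]
    rcases Nat.lt_succ_iff_lt_or_eq.1 hj with h | rfl
    · rw [Function.update_of_ne (by omega)]; exact hx j h
    · rw [Function.update_self]; exact hs

variable {F : Type*} [Field F]

section Poly

theorem mem_dlt {k : ℕ} {p : F[X]} : p ∈ degreeLT F k ↔ ∀ i, k ≤ i → p.coeff i = 0 := by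
  rw [mem_degreeLT, degree_lt_iff_coeff_zero]

theorem dlt_mono {k l : ℕ} (h : k ≤ l) {p : F[X]} (hp : p ∈ degreeLT F k) : p ∈ degreeLT F l :=
  mem_dlt.2 fun i hi => mem_dlt.1 hp i (h.trans hi)

theorem finrank_dlt (k : ℕ) : Module.finrank F (degreeLT F k) = k := by
  rw [(degreeLTEquiv F k).finrank_eq]; simp

/-- monic of degree `j` -/
def PLead (p : F[X]) (j : ℕ) : Prop := p ∈ degreeLT F (j + 1) ∧ p.coeff j = 1

theorem PLead.X_mul {p : F[X]} {j : ℕ} (h : PLead p j) : PLead (X * p) (j + 1) := by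
  refine ⟨mem_dlt.2 fun i hi => ?_, by rw [coeff_X_mul, h.2]⟩
  obtain ⟨i, rfl⟩ : ∃ k, i = k + 1 := ⟨i - 1, by omega⟩
  rw [coeff_X_mul, mem_dlt.1 h.1 i (by omega)]

theorem PLead.add {p q : F[X]} {j : ℕ} (h : PLead p j) (hq : q ∈ degreeLT F j) :
    PLead (p + q) j :=
  ⟨Submodule.add_mem _ h.1 (dlt_mono (by omega) hq), by
    rw [coeff_add, h.2, mem_dlt.1 hq j le_rfl, add_zero]⟩

theorem dlt_le_of_lead {a : ℕ → F[X]} {c : ℕ} (ha : ∀ i < c, PLead (a i) i)
    {S : Submodule F F[X]} (hS : ∀ i < c, a i ∈ S) : degreeLT F c ≤ S := by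
  induction c with
  | zero =>
    intro p hp
    have : p = 0 := by ext i; exact mem_dlt.1 hp i (Nat.zero_le i)
    rw [this]; exact S.zero_mem
  | succ c ih =>
    intro p hp
    have h1 : p - p.coeff c • a c ∈ degreeLT F c := mem_dlt.2 fun i hi => by
      rcases hi.eq_or_lt with rfl | hi
      · simp [(ha _ (Nat.lt_succ_self _)).2]
      · simp [mem_dlt.1 hp i hi, mem_dlt.1 (ha c (Nat.lt_succ_self _)).1 i hi]
    have h2 := ih (fun i hi => ha i (by omega)) (fun i hi => hS i (by omega)) h1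
    simpa using S.add_mem h2 (S.smul_mem (p.coeff c) (hS c (Nat.lt_succ_self _)))

theorem choose_poly {a : ℕ → F[X]} {c : ℕ} (ha : ∀ i < c, PLead (a i) i)
    (S : Submodule F F[X]) [FiniteDimensional F S] (hS : Module.finrank F S ≤ c) {m : F[X]}
    (hm : m ∈ S) (hm' : m ∉ degreeLT F c) (y : F[X]) : y ∉ S ∨ ∃ i < c, y + a i ∉ S := by
  by_contra h
  push Not at h
  have h1 : degreeLT F c ≤ S := dlt_le_of_lead ha fun i hi => by
    simpa using S.sub_mem (h.2 i hi) h.1
  rw [Submodule.eq_of_le_of_finrank_le h1 (by rwa [finrank_dlt])] at hm'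
  exact hm' hm

theorem finrank_span_Iic_le {m : ℕ → F[X]} (h0 : m 0 = 0) (c : ℕ) :
    Module.finrank F (Submodule.span F (m '' Set.Iic c)) ≤ c := by
  classical
  have h1 : Submodule.span F (m '' Set.Iic c) ≤
      Submodule.span F (((Finset.Ico 1 (c + 1)).image m : Finset F[X]) : Set F[X]) := by
    rw [Submodule.span_le]
    rintro _ ⟨i, hi, rfl⟩
    rcases Nat.eq_zero_or_pos i with rfl | h
    · rw [h0]; exact Submodule.zero_mem _
    · refine Submodule.subset_span ?_
      simp only [Finset.coe_image, Finset.coe_Ico]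
      exact ⟨i, ⟨h, Nat.lt_succ_of_le hi⟩, rfl⟩
  refine (Submodule.finrank_mono h1).trans ((finrank_span_finset_le_card _).trans ?_)
  exact Finset.card_image_le.trans (by simp)

theorem fd_span_Iic (m : ℕ → F[X]) (c : ℕ) :
    FiniteDimensional F (Submodule.span F (m '' Set.Iic c)) :=
  FiniteDimensional.span_of_finite F ((Set.finite_Iic c).image m)

theorem le_finrank_span_Iic {m : ℕ → F[X]} {c : ℕ}
    (h : ∀ j < c, m (j + 1) ∉ Submodule.span F (m '' Set.Iic j)) :
    c ≤ Module.finrank F (Submodule.span F (m '' Set.Iic c)) := by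
  induction c with
  | zero => exact Nat.zero_le _
  | succ c ih =>
    have := fd_span_Iic m (c + 1)
    refine Nat.succ_le_of_lt ((ih fun j hj => h j (by omega)).trans_lt
      (Submodule.finrank_lt_finrank_of_lt (lt_of_le_of_ne ?_ fun e => ?_)))
    · exact Submodule.span_mono (Set.image_mono (Set.Iic_subset_Iic.2 (by omega)))
    · refine h c (by omega) ?_
      rw [e]
      exact Submodule.subset_span ⟨c + 1, Set.mem_Iic.2 le_rfl, rfl⟩

/-- `∏_{j ≤ i < N} (1 - ℓ i X)` -/
noncomputable def hh (ℓ : ℕ → F) (N j : ℕ) : F[X] := ∏ i ∈ Finset.Ico j N, (1 - C (ℓ i) * X)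

theorem hh_succ (ℓ : ℕ → F) {N j : ℕ} (h : j < N) :
    hh ℓ N j = (1 - C (ℓ j) * X) * hh ℓ N (j + 1) := Finset.prod_eq_prod_Ico_succ_bot h _

theorem hh_of_le (ℓ : ℕ → F) {N j : ℕ} (h : N ≤ j) : hh ℓ N j = 1 := by
  rw [hh, Finset.Ico_eq_empty_of_le h, Finset.prod_empty]

theorem hh_coeff_zero (ℓ : ℕ → F) (N j : ℕ) : (hh ℓ N j).coeff 0 = 1 := by
  rw [hh, coeff_zero_prod]; simp

theorem hh_ne_zero (ℓ : ℕ → F) (N j : ℕ) : hh ℓ N j ≠ 0 := fun e => by
  simpa [e] using hh_coeff_zero ℓ N j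

theorem natDegree_hh_of_zero {ℓ : ℕ → F} {N j : ℕ} (h : j < N) (h0 : ℓ j = 0) :
    (hh ℓ N j).natDegree = (hh ℓ N (j + 1)).natDegree := by
  rw [hh_succ ℓ h, h0]; simp

theorem natDegree_hh_of_ne {ℓ : ℕ → F} {N j : ℕ} (h : j < N) (h0 : ℓ j ≠ 0) :
    (hh ℓ N j).natDegree = (hh ℓ N (j + 1)).natDegree + 1 := by
  have h1 : (1 - C (ℓ j) * X : F[X]).natDegree = 1 := by compute_degree!
  rw [hh_succ ℓ h, natDegree_mul (by intro e; simp [e] at h1) (hh_ne_zero _ _ _), h1, add_comm]

theorem natDegree_hh_succ {ℓ : ℕ → F} {N j : ℕ} (h : j < N) :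
    (hh ℓ N (j + 1)).natDegree ≤ (hh ℓ N j).natDegree ∧
      (hh ℓ N j).natDegree ≤ (hh ℓ N (j + 1)).natDegree + 1 := by
  by_cases h0 : ℓ j = 0
  · rw [natDegree_hh_of_zero h h0]; omega
  · rw [natDegree_hh_of_ne h h0]; omega

theorem natDegree_hh_mono {ℓ : ℕ → F} {N j k : ℕ} (hjk : j ≤ k) (h : k ≤ N) :
    (hh ℓ N k).natDegree ≤ (hh ℓ N j).natDegree ∧
      j + (hh ℓ N j).natDegree ≤ k + (hh ℓ N k).natDegree := by
  induction k, hjk using Nat.le_induction with
  | base => omega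
  | succ k hk ih =>
    have := ih (by omega)
    have := natDegree_hh_succ (ℓ := ℓ) (show k < N by omega)
    omega

theorem natDegree_hh_le {ℓ : ℕ → F} {N j : ℕ} (h : j ≤ N) : j + (hh ℓ N j).natDegree ≤ N := by
  have := (natDegree_hh_mono (ℓ := ℓ) h le_rfl).2
  rwa [hh_of_le ℓ le_rfl, natDegree_one, add_zero] at this

theorem natDegree_hh_pos {ℓ : ℕ → F} {N j : ℕ} (hN : ℓ N ≠ 0) (h : j ≤ N) :
    1 ≤ (hh ℓ (N + 1) j).natDegree := by
  have := (natDegree_hh_mono (ℓ := ℓ) (N := N + 1) h (by omega)).1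
  rw [natDegree_hh_of_ne (by omega) hN] at this
  omega

theorem coeff_beta (G : F) (j : ℕ) (h : F[X]) (i : ℕ) :
    (C G * X ^ j * h).coeff i = if j ≤ i then G * h.coeff (i - j) else 0 := by
  rw [mul_assoc, coeff_C_mul, coeff_X_pow_mul']
  split_ifs <;> simp

theorem beta_mem (G : F) (j : ℕ) (h : F[X]) :
    C G * X ^ j * h ∈ degreeLT F (j + h.natDegree + 1) := mem_dlt.2 fun i hi => by
  rw [coeff_beta, if_pos (by omega), coeff_eq_zero_of_natDegree_lt (by omega), mul_zero]

theorem beta_top {G : F} (hG : G ≠ 0) (j : ℕ) {h : F[X]} (hh : h ≠ 0) :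
    (C G * X ^ j * h).coeff (j + h.natDegree) ≠ 0 := by
  rw [coeff_beta, if_pos (by omega), Nat.add_sub_cancel_left]
  exact mul_ne_zero hG (leadingCoeff_ne_zero.2 hh)

end Poly

section Vec

variable {n : ℕ}

/-- vectors supported on the coordinates below `k` -/
def vlt (F : Type*) [Field F] (n k : ℕ) : Submodule F (Fin n → F) where
  carrier := {v | ∀ i : Fin n, k ≤ i.val → v i = 0}
  add_mem' := fun ha hb i hi => by simp [ha i hi, hb i hi]
  zero_mem' := fun _ _ => rfl
  smul_mem' := fun c _ ha i hi => by simp [ha i hi]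

theorem mem_vlt {k : ℕ} {v : Fin n → F} : v ∈ vlt F n k ↔ ∀ i : Fin n, k ≤ i.val → v i = 0 :=
  Iff.rfl

theorem vlt_mono {k l : ℕ} (h : k ≤ l) {v : Fin n → F} (hv : v ∈ vlt F n k) : v ∈ vlt F n l :=
  fun i hi => hv i (h.trans hi)

/-- leading coordinate `j`, equal to one -/
def VLead (v : Fin n → F) (j : ℕ) : Prop := v ∈ vlt F n (j + 1) ∧ ∀ i : Fin n, i.val = j → v i = 1

theorem VLead.add {v w : Fin n → F} {j : ℕ} (h : VLead v j) (hw : w ∈ vlt F n j) :
    VLead (v + w) j :=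
  ⟨Submodule.add_mem _ h.1 (vlt_mono (by omega) hw), fun i hi => by
    rw [Pi.add_apply, h.2 i hi, hw i hi.ge, add_zero]⟩

theorem VLead.exists_sub {u v : Fin n → F} {j : ℕ} (h : VLead u j) (hv : v ∈ vlt F n (j + 1)) :
    ∃ t : F, v - t • u ∈ vlt F n j := by
  by_cases hj : j < n
  · refine ⟨v ⟨j, hj⟩, fun i hi => ?_⟩
    rcases hi.eq_or_lt with e | hi
    · have : i = ⟨j, hj⟩ := Fin.ext e.symm
      subst this
      simp [h.2 ⟨j, hj⟩ rfl]
    · simp [hv i hi, h.1 i hi]
  · exact ⟨0, fun i hi => absurd i.2 (by omega)⟩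

theorem vlead_single (i : Fin n) : VLead (Pi.single i 1 : Fin n → F) i.val :=
  ⟨fun k hk => Pi.single_eq_of_ne (by intro e; subst e; omega) _, fun k hk => by
    rw [Fin.ext hk, Pi.single_eq_same]⟩

theorem hess_mem {H : Matrix (Fin n) (Fin n) F} (hH : ∀ i j : Fin n, j.val + 1 < i.val → H i j = 0)
    {k : ℕ} {v : Fin n → F} (hv : v ∈ vlt F n k) : H *ᵥ v ∈ vlt F n (k + 1) := by
  intro i hi
  rw [mulVec, dotProduct]
  refine Finset.sum_eq_zero fun j _ => ?_
  by_cases hj : k ≤ j.val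
  · rw [hv j hj, mul_zero]
  · rw [hH i j (by omega), zero_mul]

theorem hess_apply {H : Matrix (Fin n) (Fin n) F}
    (hH : ∀ i j : Fin n, j.val + 1 < i.val → H i j = 0) {v : Fin n → F} {j i : Fin n}
    (hv : v ∈ vlt F n (j.val + 1)) (hi : i.val = j.val + 1) : (H *ᵥ v) i = H i j * v j := by
  rw [mulVec, dotProduct]
  refine Finset.sum_eq_single j (fun k _ hk => ?_) (by simp)
  rcases lt_or_gt_of_ne hk with h | h
  · rw [hH i k (by have : k.val < j.val := h; omega), zero_mul]
  · rw [hv k h, mul_zero]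

/-- coefficient vector of a polynomial -/
noncomputable def pvec (n : ℕ) : F[X] →ₗ[F] (Fin n → F) where
  toFun p i := p.coeff i
  map_add' p q := by ext i; simp
  map_smul' c p := by ext i; simp

theorem pvec_apply (p : F[X]) (i : Fin n) : pvec n p i = p.coeff i := rfl

/-- the matrix with prescribed columns -/
def cols (u : ℕ → Fin n → F) : Matrix (Fin n) (Fin n) F := of fun i j => u j i

theorem cols_mulVec_single (u : ℕ → Fin n → F) (j : Fin n) :
    cols u *ᵥ Pi.single j 1 = u j := by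
  ext i; simp [cols]

theorem mul_cols (A : Matrix (Fin n) (Fin n) F) (u : ℕ → Fin n → F) :
    A * cols u = cols fun j => A *ᵥ u j := rfl

theorem cols_congr {u v : ℕ → Fin n → F} (h : ∀ j < n, u j = v j) : cols u = cols v := by
  ext i j; simp [cols, h j j.2]

theorem det_cols_vlead {u : ℕ → Fin n → F} (h : ∀ j < n, VLead (u j) j) : (cols u).det = 1 := by
  rw [det_of_isUpperTriangular (M := cols u) fun i j hij => (h j j.2).1 i hij]
  exact Finset.prod_eq_one fun i _ => (h i i.2).2 i rfl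

theorem PLead.vlead {p : F[X]} {j : ℕ} (h : PLead p j) : VLead (pvec n p) j :=
  ⟨fun i hi => mem_dlt.1 h.1 i hi, fun i hi => by rw [pvec_apply, hi, h.2]⟩

theorem det_cols_beta (G : ℕ → F) {h : ℕ → F[X]} (h0 : ∀ j, (h j).coeff 0 = 1) :
    (cols fun j => pvec n (C (G j) * X ^ j * h j)).det = ∏ j ∈ Finset.range n, G j := by
  rw [det_of_isLowerTriangular (M := cols fun j => pvec n (C (G j) * X ^ j * h j)) fun i j hij => by
    have : i.val < j.val := hij
    simp only [cols, of_apply, pvec_apply]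
    rw [coeff_beta, if_neg (by omega)], ← Fin.prod_univ_eq_prod_range]
  refine Finset.prod_congr rfl fun i _ => ?_
  simp only [cols, of_apply, pvec_apply]
  rw [coeff_beta, if_pos le_rfl, Nat.sub_self, h0, mul_one]

/-- companion matrix with last column `q` -/
def compan (q : Fin (n + 1) → F) : Matrix (Fin (n + 1)) (Fin (n + 1)) F :=
  of fun i j => if j = Fin.last n then q i else if i.val = j.val + 1 then 1 else 0

theorem compan_mulVec (q : Fin (n + 1) → F) (p : F[X]) :
    compan q *ᵥ pvec (n + 1) p = pvec (n + 1) (X * p) + p.coeff n • q := by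
  ext i
  simp only [mulVec, dotProduct, compan, of_apply, Fin.sum_univ_castSucc, pvec_apply, if_true,
    (Fin.castSucc_lt_last _).ne, if_false, Fin.val_last, Pi.add_apply, Pi.smul_apply,
    smul_eq_mul, Fin.val_castSucc]
  rw [mul_comm (q i)]
  congr 1
  refine Fin.cases ?_ (fun i => ?_) i
  · simp
  · simp [coeff_X_mul, Fin.val_inj]

theorem det_compan (q : Fin (n + 1) → F) : (compan q).det = (-1) ^ n * q 0 := by
  rw [det_succ_row_zero, Finset.sum_eq_single (Fin.last n)]
  · have : (compan q).submatrix Fin.succ (Fin.last n).succAbove = 1 := by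
      ext i j
      simp [compan, (Fin.castSucc_lt_last _).ne, one_apply, Fin.val_inj]
    rw [this]
    simp [compan]
  · intro j _ hj
    simp [compan, hj]
  · simp

end Vec

end Cfsg.Agent.SLn
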