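import Cfsg.Agent.Lib.SLn.MinIndex

/-!
# The minimal index of a proper subgroup of `SL_n(q)`, `n ≥ 3`: the transvection-free case
-/

set_option autoImplicit false

namespace Cfsg.Agent.SLn

open Matrix

variable {ι F : Type*} [Fintype ι] [DecidableEq ι] [Field F]

/-- `H` contains `1 + w e_l^* + e_0 ψ`. -/
def RelE (H : Subgroup (SpecialLinearGroup ι F)) (i₀ l : ι) (w ψ : ι → F) : Prop :=
  w l = 0 ∧ ψ i₀ = 0 ∧ ∃ x ∈ H, (x : Matrix ι ι F) =
    1 + vecMulVec w (Pi.single l 1) + vecMulVec (Pi.single i₀ 1) ψ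

theorem xm_mul {i₀ l : ι} (h0l : i₀ ≠ l) {w ψ w' ψ' : ι → F} (hw' : w' l = 0) (hψ : ψ i₀ = 0) :
    (1 + vecMulVec w (Pi.single l 1) + vecMulVec (Pi.single i₀ 1) ψ) *
      (1 + vecMulVec w' (Pi.single l 1) + vecMulVec (Pi.single i₀ 1) ψ') =
    1 + vecMulVec (w + w' + (ψ ⬝ᵥ w') • Pi.single i₀ 1) (Pi.single l 1) +
      vecMulVec (Pi.single i₀ (1 : F)) (ψ + ψ') := by
  simp only [add_mul, mul_add, one_mul, mul_one, vecMulVec_mul_vecMulVec, single_dotProduct,
    dotProduct_single, hw', hψ, Pi.single_eq_of_ne h0l.symm, Pi.single_eq_of_ne h0l, mul_zero,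
    zero_mul, zero_smul,
    vecMulVec_zero, add_zero, add_vecMulVec, vecMulVec_add, smul_vecMulVec, vecMulVec_smul]
  abel

theorem RelE.mul {H : Subgroup (SpecialLinearGroup ι F)} {i₀ l : ι} (h0l : i₀ ≠ l)
    {w ψ w' ψ' : ι → F} (h : RelE H i₀ l w ψ) (h' : RelE H i₀ l w' ψ') :
    RelE H i₀ l (w + w' + (ψ ⬝ᵥ w') • Pi.single i₀ 1) (ψ + ψ') := by
  obtain ⟨h1, h2, x, hx, e⟩ := h
  obtain ⟨h1', h2', x', hx', e'⟩ := h'
  refine ⟨by simp [h1, h1', Pi.single_eq_of_ne h0l.symm], by simp [h2, h2'], x * x',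
    H.mul_mem hx hx', ?_⟩
  rw [Matrix.SpecialLinearGroup.coe_mul, e, e', xm_mul h0l h1' h2]

theorem RelE.cancel {H : Subgroup (SpecialLinearGroup ι F)} {i₀ l : ι} (h0l : i₀ ≠ l)
    (hH : ∀ w φ : ι → F, HasTv H w φ → w = 0 ∨ φ = 0)
    {w ψ w' : ι → F} (h : RelE H i₀ l w ψ) (h' : RelE H i₀ l w' ψ) : w = w' := by
  obtain ⟨h1, h2, x, hx, e⟩ := h
  obtain ⟨h1', h2', x', hx', e'⟩ := h'
  have h0 : Pi.single l 1 ⬝ᵥ (w' - w) = 0 := by simp [h1, h1']
  have e1 : tv (w' - w) (Pi.single l 1) h0 * x = x' := by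
    apply Subtype.ext
    have := xm_mul (F := F) h0l (w := w' - w) (ψ := 0) (w' := w) (ψ' := ψ) h1 rfl
    simp only [vecMulVec_zero, add_zero, zero_dotProduct, zero_smul, zero_add,
      sub_add_cancel] at this
    rw [Matrix.SpecialLinearGroup.coe_mul, coe_tv, e, e', this]
  have e2 : tv (w' - w) (Pi.single l 1) h0 ∈ H := by
    rw [← mul_inv_eq_iff_eq_mul.2 e1.symm]
    exact H.mul_mem hx' (H.inv_mem hx)
  rcases hH _ _ (HasTv.of_tv_mem e2) with h | h
  · exact (sub_eq_zero.1 h).symm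
  · simpa using congrFun h l

theorem RelE.conj {Ω : Type*} [MulAction (SpecialLinearGroup ι F) Ω] {ω : Ω} {i₀ l : ι}
    {w ψ : ι → F} (h : RelE (MulAction.stabilizer (SpecialLinearGroup ι F) ω) i₀ l w ψ)
    (g : SpecialLinearGroup ι F) {a b : F} (ha : g.1 *ᵥ Pi.single i₀ 1 = a • Pi.single i₀ 1)
    (hb : Pi.single l 1 ᵥ* (g⁻¹ : SpecialLinearGroup ι F).1 = b • Pi.single l 1) :
    RelE (MulAction.stabilizer (SpecialLinearGroup ι F) (g • ω)) i₀ l (b • g.1 *ᵥ w)
      (a • ψ ᵥ* (g⁻¹ : SpecialLinearGroup ι F).1) := by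
  obtain ⟨h1, h2, x, hx, e⟩ := h
  refine ⟨?_, ?_, g * x * g⁻¹, ?_, ?_⟩
  · have : (b • Pi.single l 1) ⬝ᵥ (g.1 *ᵥ w) = 0 := by
      rw [← hb, dotProduct_mulVec, vecMul_vecMul, coe_inv_mul, vecMul_one]; simpa using h1
    simpa using this
  · have : (ψ ᵥ* (g⁻¹ : SpecialLinearGroup ι F).1) ⬝ᵥ (a • Pi.single i₀ 1) = 0 := by
      rw [← ha, dotProduct_mulVec, vecMul_vecMul, coe_inv_mul, vecMul_one]; simpa using h2
    simpa using this
  · rw [MulAction.mem_stabilizer_iff] at hx ⊢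
    rw [mul_smul, mul_smul, inv_smul_smul, hx]
  · rw [Matrix.SpecialLinearGroup.coe_mul, Matrix.SpecialLinearGroup.coe_mul, e, mul_add, mul_add,
      add_mul, add_mul, mul_one, coe_mul_inv, mul_vecMulVec, vecMulVec_mul, mul_vecMulVec,
      vecMulVec_mul, ha, hb, smul_vecMulVec, smul_vecMulVec, vecMulVec_smul, vecMulVec_smul]

theorem regular_case [Finite F] {Ω : Type*} [MulAction (SpecialLinearGroup ι F) Ω] [Nonempty Ω]
    (hn : 3 ≤ Fintype.card ι) (hexc : ¬ (Fintype.card ι = 4 ∧ Nat.card F = 2))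
    (hno : ∀ (ω : Ω) (w φ : ι → F),
      HasTv (MulAction.stabilizer (SpecialLinearGroup ι F) ω) w φ → w = 0 ∨ φ = 0)
    (htr : ∀ (φ : ι → F), φ ≠ 0 → ∀ ω ω' : Ω, ∃ (w : ι → F) (h : φ ⬝ᵥ w = 0),
      tv w φ h • ω = ω') : False := by
  obtain ⟨i₀, i₁, l, h01, h0l, h1l⟩ := Fintype.two_lt_card_iff.1 hn
  obtain ⟨ω⟩ := ‹Nonempty Ω›
  have hl : (Pi.single l 1 : ι → F) ≠ 0 := by simp
  have R1 : ∀ (ω : Ω) (ψ : ι → F), ψ i₀ = 0 →
      ∃ w, RelE (MulAction.stabilizer (SpecialLinearGroup ι F) ω) i₀ l w ψ := by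
    intro ω ψ hψ
    have h0 : ψ ⬝ᵥ Pi.single i₀ 1 = 0 := by simpa using hψ
    obtain ⟨w, hw, e⟩ := htr _ hl (tv _ _ h0 • ω) ω
    refine ⟨w, by simpa using hw, hψ, tv w _ hw * tv _ _ h0, ?_, ?_⟩
    · rw [MulAction.mem_stabilizer_iff, mul_smul, e]
    · rw [Matrix.SpecialLinearGroup.coe_mul, coe_tv, coe_tv, one_add_mul_one_add]
      simp [Pi.single_eq_of_ne h0l]
  have R2 : ∀ (ω ω' : Ω) (w w' ψ : ι → F),
      RelE (MulAction.stabilizer (SpecialLinearGroup ι F) ω) i₀ l w ψ →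
      RelE (MulAction.stabilizer (SpecialLinearGroup ι F) ω') i₀ l w' ψ →
      ∀ j, j ≠ i₀ → w j = w' j := by
    intro ω ω' w w' ψ h h' j hj
    obtain ⟨u, hu, e⟩ := htr _ hl ω ω'
    have hu' : u l = 0 := by simpa using hu
    have h2 := h.conj (tv u _ hu) (a := 1) (b := 1) (by
      rw [coe_tv, add_mulVec, vecMulVec_mulVec, one_mulVec]; simp [Pi.single_eq_of_ne h0l]) (by
      rw [(inv_coe_of_eq (coe_tv _ _ hu)).2, vecMul_add, vecMul_vecMulVec]; simp [hu'])
    rw [e, one_smul, one_smul, (inv_coe_of_eq (coe_tv _ _ hu)).2, coe_tv, add_mulVec, one_mulVec,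
      vecMulVec_mulVec, single_dotProduct, h.1, mul_zero, MulOpposite.op_zero, zero_smul,
      add_zero, vecMul_add, vecMul_one, vecMul_vecMulVec] at h2
    have h3 : RelE (MulAction.stabilizer (SpecialLinearGroup ι F) ω') i₀ l
        (w + (ψ ⬝ᵥ -u) • Pi.single i₀ 1) ψ := by
      obtain ⟨-, -, x, hx, e⟩ := h2
      refine ⟨by simp [h.1, Pi.single_eq_of_ne h0l.symm], h.2.1, x, hx, ?_⟩
      rw [e, vecMulVec_add, add_vecMulVec, smul_vecMulVec, vecMulVec_smul]
      abel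
    have := congrFun (h3.cancel h0l (hno ω') h') j
    simpa [Pi.single_eq_of_ne hj] using this
  have R5 : ∀ (w w' ψ ψ' : ι → F),
      RelE (MulAction.stabilizer (SpecialLinearGroup ι F) ω) i₀ l w ψ →
      RelE (MulAction.stabilizer (SpecialLinearGroup ι F) ω) i₀ l w' ψ' → ψ ⬝ᵥ w' = ψ' ⬝ᵥ w := by
    intro w w' ψ ψ' h h'
    have h1 := h.mul h0l h'
    have h2 := h'.mul h0l h
    rw [add_comm ψ', add_comm w'] at h2
    simpa using congrFun (h1.cancel h0l (hno ω) h2) i₀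
  obtain ⟨w, hw⟩ := R1 ω (Pi.single i₁ 1) (Pi.single_eq_of_ne h01 _)
  have R4 : ∃ j, j ≠ i₀ ∧ w j ≠ 0 := by
    by_contra h
    push Not at h
    obtain ⟨-, -, x, hx, e⟩ := hw
    have : w = w i₀ • Pi.single i₀ 1 := by
      ext j
      by_cases hj : j = i₀
      · subst hj; simp
      · simp [h j hj, Pi.single_eq_of_ne hj]
    rw [this, smul_vecMulVec, ← vecMulVec_smul, add_assoc, ← vecMulVec_add] at e
    rcases hno ω _ _ ⟨x, hx, e⟩ with h | h
    · simpa using congrFun h i₀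
    · simpa [Pi.single_eq_of_ne h1l] using congrFun h i₁
  have R6 : (2 : F) = 0 → w i₁ = 0 := by
    intro h2
    have h1 := hw.mul h0l hw
    have e : ∀ v : ι → F, v + v = 0 := fun v => by rw [← two_smul F v, h2, zero_smul]
    rw [e, e, zero_add] at h1
    have h3 : RelE (MulAction.stabilizer (SpecialLinearGroup ι F) ω) i₀ l 0 0 :=
      ⟨rfl, rfl, 1, one_mem _, by simp⟩
    simpa using congrFun (h1.cancel h0l (hno ω) h3) i₀
  have Rdiag : ∀ c : F, c ≠ 0 → ∀ j, j ≠ i₀ → j ≠ l →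
      w j = c ^ 2 * (if j = i₁ then c else 1) * w j := by
    intro c hc j hj hjl
    set g := Matrix.SpecialLinearGroup.diag2n h0l c hc * Matrix.SpecialLinearGroup.diag2n h1l c hc
    have hg : g.1 = diagonal (fun k => (if k = i₀ then c else if k = l then c⁻¹ else 1) *
        (if k = i₁ then c else if k = l then c⁻¹ else 1)) := by
      rw [Matrix.SpecialLinearGroup.coe_mul, Matrix.SpecialLinearGroup.diag2n_coe,
        Matrix.SpecialLinearGroup.diag2n_coe, diagonal_mul_diagonal]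
    have hg' := (coe_inv_of_diagonal hg).2
    have h2 := hw.conj g (a := c) (b := c ^ 2) (by
      rw [hg]; ext k
      by_cases hk : k = i₀
      · subst hk; simp [mulVec_diagonal, h01, h0l]
      · simp [mulVec_diagonal, hk]) (by
      rw [hg']; ext k
      by_cases hk : k = l
      · subst hk; simp [vecMul_diagonal, h0l.symm, h1l.symm, sq]
      · simp [vecMul_diagonal, hk])
    have e : c • Pi.single i₁ 1 ᵥ* (g⁻¹ : SpecialLinearGroup ι F).1 = Pi.single i₁ 1 := by
      rw [hg']; ext k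
      by_cases hk : k = i₁
      · subst hk; simp [vecMul_diagonal, h01.symm, h1l, hc]
      · simp [vecMul_diagonal, hk]
    rw [e] at h2
    have := R2 _ _ _ _ _ hw h2 j hj
    rw [hg, Pi.smul_apply, mulVec_diagonal, if_neg hj, if_neg hjl, one_mul, smul_eq_mul,
      ← mul_assoc] at this
    exact this
  have Relem : ∀ (j k : ι) (hjk : j ≠ k), j ≠ l → k ≠ i₀ →
      RelE (MulAction.stabilizer (SpecialLinearGroup ι F)
        (Matrix.SpecialLinearGroup.transvection hjk (1 : F) • ω)) i₀ l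
        (w + w k • Pi.single j 1) (Pi.single i₁ 1 - (if j = i₁ then Pi.single k 1 else 0)) := by
    intro j k hjk hjl hk
    have hg : (Matrix.SpecialLinearGroup.transvection hjk (1 : F)).1 =
        1 + vecMulVec (Pi.single j 1) (Pi.single k 1) := coe_transvection_eq _ _ _
    have hg' := (inv_coe_of_eq hg).2
    have h2 := hw.conj (Matrix.SpecialLinearGroup.transvection hjk (1 : F)) (a := 1) (b := 1) (by
      rw [hg, add_mulVec, vecMulVec_mulVec, one_mulVec]; simp [Pi.single_eq_of_ne hk.symm]) (by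
      rw [hg', vecMul_add, vecMul_vecMulVec]; simp [Pi.single_eq_of_ne hjl])
    rw [one_smul, one_smul, hg', hg, add_mulVec, one_mulVec, vecMulVec_mulVec, vecMul_add,
      vecMul_one, vecMul_vecMulVec] at h2
    convert h2 using 1
    · simp
    · split_ifs with h
      · subst h; simp [sub_eq_add_neg]
      · simp [Pi.single_eq_of_ne h]
  by_cases hJ : ∃ j, j ≠ i₀ ∧ j ≠ i₁ ∧ j ≠ l
  · obtain ⟨j, hj0, hj1, hjl⟩ := hJ
    have hz : ∀ j, j ≠ i₀ → j ≠ i₁ → j ≠ l → ∀ k, k ≠ i₀ → k ≠ j → w k = 0 := by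
      intro j hj0 hj1 hjl k hk0 hkj
      have h1 := Relem j k hkj.symm hjl hk0
      rw [if_neg hj1, sub_zero] at h1
      simpa using R2 _ _ _ _ _ hw h1 j hj0
    have hwj : w j ≠ 0 := by
      obtain ⟨k, hk0, hk⟩ := R4
      by_cases e : k = j
      · exact e ▸ hk
      · exact absurd (hz j hj0 hj1 hjl k hk0 e) hk
    have h2 : (2 : F) = 0 := by
      have h1 := Relem i₁ j hj1.symm h1l hj0
      rw [if_pos rfl] at h1
      obtain ⟨w₁, hw₁⟩ := R1 ω _ h1.2.1
      have h3 := R2 _ _ _ _ _ h1 hw₁ i₁ h01.symm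
      have h4 := R5 _ _ _ _ hw hw₁
      have h5 := hz j hj0 hj1 hjl i₁ h01.symm hj1.symm
      simp only [single_dotProduct, one_mul, sub_dotProduct, ← h3, Pi.add_apply, Pi.smul_apply,
        Pi.single_eq_same, smul_eq_mul, mul_one, h5, zero_add, zero_sub] at h4
      have : 2 * w j = 0 := by linear_combination h4
      exact (mul_eq_zero.1 this).resolve_right hwj
    apply hexc
    constructor
    · have : (Finset.univ : Finset ι) = {i₀, i₁, l, j} := by
        ext k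
        simp only [Finset.mem_univ, Finset.mem_insert, Finset.mem_singleton, true_iff]
        by_contra hk
        push Not at hk
        exact hwj (hz k hk.1 hk.2.1 hk.2.2.1 j hj0 (Ne.symm hk.2.2.2))
      rw [← Finset.card_univ, this, Finset.card_insert_of_notMem, Finset.card_insert_of_notMem,
        Finset.card_pair hjl.symm]
      · simp [h1l, hj1.symm]
      · simp [h01, h0l, hj0.symm]
    · rw [Nat.card_eq_two_iff' (0 : F)]
      refine ⟨1, one_ne_zero, fun c hc => ?_⟩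
      have h3 := Rdiag c hc j hj0 hjl
      rw [if_neg hj1, mul_one] at h3
      have h4 : (c - 1) ^ 2 * w j = 0 := by linear_combination -h3 + (1 - c) * w j * h2
      exact sub_eq_zero.1 (pow_eq_zero_iff two_ne_zero |>.1 ((mul_eq_zero.1 h4).resolve_right hwj))
  · push Not at hJ
    obtain ⟨k, hk0, hk⟩ := R4
    have hk1 : k = i₁ := by
      by_contra h
      exact hk (hJ k hk0 h ▸ hw.1)
    subst hk1
    have h3 := Rdiag (-1) (by simp) k hk0 h1l
    rw [if_pos rfl] at h3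
    have : 2 * w k = 0 := by linear_combination h3
    exact hk (R6 ((mul_eq_zero.1 this).resolve_right hk))

/-- Every proper subgroup of `SL_n(q)`, `n ≥ 3`, `(n, q) ≠ (4, 2)`, has index at least
`(q^n - 1)/(q - 1)`. -/
theorem le_index_of_ne_top [Finite F] (hn : 3 ≤ Fintype.card ι)
    (hexc : ¬ (Fintype.card ι = 4 ∧ Nat.card F = 2))
    (H : Subgroup (SpecialLinearGroup ι F)) (hH : H ≠ ⊤) :
    (Nat.card F ^ Fintype.card ι - 1) / (Nat.card F - 1) ≤ H.index := by
  by_contra hlt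
  have hq : 1 < Nat.card F := Finite.one_lt_card
  have hm : H.index * (Nat.card F - 1) ≤
      Nat.card F * (Nat.card F ^ (Fintype.card ι - 1) - 1) := by
    have h1 := (Nat.le_div_iff_mul_le (show 0 < Nat.card F - 1 by omega)).1 (not_le.1 hlt)
    have h2 : Nat.card F ^ Fintype.card ι = Nat.card F * Nat.card F ^ (Fintype.card ι - 1) := by
      rw [← pow_succ']; congr 1; omega
    rw [Nat.succ_mul, h2] at h1
    rw [Nat.mul_sub (Nat.card F)]
    omega
  have hno : ∀ (ω : SpecialLinearGroup ι F ⧸ H) (w φ : ι → F),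
      HasTv (MulAction.stabilizer (SpecialLinearGroup ι F) ω) w φ → w = 0 ∨ φ = 0 := by
    intro ω w φ h
    induction ω using QuotientGroup.induction_on with | _ g =>
    have h1 := hasTv_stabilizer_smul g⁻¹ h
    rw [MulAction.Quotient.smul_mk, smul_eq_mul, inv_mul_cancel,
      MulAction.stabilizer_quotient] at h1
    rcases no_transvection hn H hH hm h1 with h2 | h2
    · left
      have := inv_mulVec_of_eq h2
      rw [← this, mulVec_zero]
    · right
      have := vecMul_inv_of_eq h2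
      rw [← this, zero_vecMul]
  refine regular_case (Ω := SpecialLinearGroup ι F ⧸ H) hn hexc hno fun φ hφ ω ω' => ?_
  obtain ⟨r, f, -, e⟩ := burnside_axis (Ω := SpecialLinearGroup ι F ⧸ H) hn hφ 1
  have hall : {ω : SpecialLinearGroup ι F ⧸ H |
      Nat.card (axA (MulAction.stabilizer (SpecialLinearGroup ι F) ω) φ) = 1} = Set.univ := by
    ext ω
    simp only [Set.mem_ofPred_eq, Set.mem_univ, iff_true, AddSubgroup.card_eq_one, eq_bot_iff]
    intro w hw
    exact (hno ω w φ hw).resolve_right hφ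
  rw [hall, Nat.card_univ, mul_one] at e
  have hpos : 0 < Nat.card (SpecialLinearGroup ι F ⧸ H) := Nat.card_pos
  have hr : r = 1 := by
    rw [← card_kerv hφ] at hm
    change Nat.card (SpecialLinearGroup ι F ⧸ H) * _ ≤ _ at hm
    rw [← e] at hm hpos
    have hN : 0 < Nat.card (kerv φ) := Nat.card_pos
    obtain ⟨N, hN'⟩ : ∃ N, Nat.card (kerv φ) = N + 1 := ⟨Nat.card (kerv φ) - 1, by omega⟩
    obtain ⟨q, hq'⟩ : ∃ q, Nat.card F = q + 2 := ⟨Nat.card F - 2, by omega⟩
    rw [hN', hq', Nat.add_sub_cancel, show q + 2 - 1 = q + 1 by omega] at hm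
    rcases r with _ | _ | r
    · simp at hpos
    · rfl
    · nlinarith [Nat.zero_le (r * N * q), Nat.zero_le (r * N), Nat.zero_le (r * q),
        Nat.zero_le (N * q)]
  rw [hr, one_mul] at e
  have hinj : Function.Injective
      (fun w : kerv φ => tv w.1 φ (mem_kerv.1 w.2) • ω) := by
    intro a b hab
    have h1 : (tv b.1 φ (mem_kerv.1 b.2))⁻¹ * tv a.1 φ (mem_kerv.1 a.2) ∈
        MulAction.stabilizer (SpecialLinearGroup ι F) ω := by
      rw [MulAction.mem_stabilizer_iff, mul_smul, inv_smul_eq_iff]; exact hab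
    have h2 : HasTv (MulAction.stabilizer (SpecialLinearGroup ι F) ω) (-b.1 + a.1) φ := by
      refine ⟨_, h1, ?_⟩
      rw [Matrix.SpecialLinearGroup.coe_mul, (inv_coe_of_eq (coe_tv _ _ _)).2, coe_tv,
        one_add_mul_one_add, mem_kerv.1 a.2, zero_smul, add_zero, add_vecMulVec, add_assoc]
    exact Subtype.ext (neg_add_eq_zero.1 ((hno ω _ _ h2).resolve_right hφ)).symm
  obtain ⟨w, hw⟩ := (hinj.bijective_of_nat_card_le e.ge).2 ω'
  exact ⟨w.1, mem_kerv.1 w.2, hw⟩

end Cfsg.Agent.SLn
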