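import Cfsg.Agent.Lib.SLn.PresTor
import Cfsg.Agent.Lib.SLn.Monomial
import Cfsg.Agent.Lib.Pres.Ext

/-!
# Bounded presentations of `SL_n(q)`, `n ≥ 4`, from presentations of the alternating groups
-/

set_option autoImplicit false

namespace Cfsg.Agent.SLn

open MulAut Polynomial Cfsg.Agent.Pres
open Equiv (Perm swap)
open Cfsg.Agent.SL2 (word)
open scoped commutatorElement

section cA

variable {ι A J J' : Type*} [Group A] [Group J] [Group J'] (ρ : A →* Perm ι) (i0 i1 : ι)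

open Classical in
/-- an element moving `(i0, i1)` to `(i, j)` -/
noncomputable def tau (i j : ι) : A :=
  if h : ∃ σ, ρ σ i0 = i ∧ ρ σ i1 = j then h.choose else 1

theorem tau_spec {i j : ι} (h : ∃ σ, ρ σ i0 = i ∧ ρ σ i1 = j) :
    ρ (tau ρ i0 i1 i j) i0 = i ∧ ρ (tau ρ i0 i1 i j) i1 = j := by
  rw [tau, dif_pos h]; exact h.choose_spec

/-- the conjugate of `v` attached to `(i, j)` -/
noncomputable def cA (α : A → J) (v : J) (i j : ι) : J :=
  α (tau ρ i0 i1 i j) * v * (α (tau ρ i0 i1 i j))⁻¹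

theorem map_cA (φ : J →* J') (α : A → J) (v : J) (i j : ι) :
    φ (cA ρ i0 i1 α v i j) = cA ρ i0 i1 (fun a => φ (α a)) (φ v) i j := by
  simp [cA]

variable {ρ i0 i1} {α : A →* J} {v : J}

theorem conj_eq_cA (hv : ∀ σ, ρ σ i0 = i0 → ρ σ i1 = i1 → Commute (α σ) v) (σ : A) :
    conj (α σ) v = cA ρ i0 i1 α v (ρ σ i0) (ρ σ i1) := by
  obtain ⟨h1, h2⟩ := tau_spec ρ i0 i1 ⟨σ, rfl, rfl⟩
  have := hv ((tau ρ i0 i1 (ρ σ i0) (ρ σ i1))⁻¹ * σ)
    (by rw [map_mul, map_inv, Perm.mul_apply, Perm.inv_eq_iff_eq, h1])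
    (by rw [map_mul, map_inv, Perm.mul_apply, Perm.inv_eq_iff_eq, h2])
  rw [cA, ← conj_apply]
  conv_rhs => rw [← conj_eq_of_commute this, ← MulAut.mul_apply, ← map_mul, ← map_mul,
    mul_inv_cancel_left]

theorem conj_cA (hv : ∀ σ, ρ σ i0 = i0 → ρ σ i1 = i1 → Commute (α σ) v) {i j : ι}
    (h : ∃ σ, ρ σ i0 = i ∧ ρ σ i1 = j) (σ : A) :
    conj (α σ) (cA ρ i0 i1 α v i j) = cA ρ i0 i1 α v (ρ σ i) (ρ σ j) := by
  obtain ⟨τ, rfl, rfl⟩ := h
  rw [← conj_eq_cA hv, ← MulAut.mul_apply, ← map_mul, ← map_mul, conj_eq_cA hv, map_mul]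
  rfl

theorem cA_base (hv : ∀ σ, ρ σ i0 = i0 → ρ σ i1 = i1 → Commute (α σ) v) :
    cA ρ i0 i1 α v i0 i1 = v := by
  simpa using (conj_eq_cA hv 1).symm

theorem cA_eq {f : ι → ι → J} (hf : ∀ σ, conj (α σ) (f i0 i1) = f (ρ σ i0) (ρ σ i1)) {i j : ι}
    (h : ∃ σ, ρ σ i0 = i ∧ ρ σ i1 = j) : cA ρ i0 i1 α (f i0 i1) i j = f i j := by
  obtain ⟨h1, h2⟩ := tau_spec ρ i0 i1 h
  rw [cA, ← conj_apply, hf, h1, h2]

theorem commute_of_list {L : List A} (hL : ∀ l ∈ L, Commute (α l) v) {σ : A}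
    (hσ : σ ∈ Subgroup.closure {l | l ∈ L}) : Commute (α σ) v := by
  induction hσ using Subgroup.closure_induction with
  | mem x hx => exact hL x hx
  | one => simp
  | mul x y _ _ hx hy => rw [map_mul]; exact hx.mul_left hy
  | inv x _ hx => rw [map_inv]; exact hx.inv_left

theorem cA_mem (N : Subgroup J) [N.Normal] (hv : v ∈ N) (α : A → J) (i j : ι) :
    cA ρ i0 i1 α v i j ∈ N :=
  Subgroup.Normal.conj_mem inferInstance _ hv _

end cA

section concrete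

open Matrix

variable {ι A K : Type*} [Fintype ι] [DecidableEq ι] [Group A] [Field K]

/-- permutation matrices -/
def pmSL (K : Type*) [Field K] (ρ : A →* Perm ι)
    (hs : ∀ σ, ((Perm.sign (ρ σ) : ℤ) : K) = 1) : A →* SpecialLinearGroup ι K :=
  MonoidHom.mk' (fun σ => ⟨monoMat (ρ σ) fun _ => 1, by rw [det_monoMat, hs]; simp⟩)
    fun σ τ => Subtype.ext (by
      change monoMat _ _ = monoMat _ _ * monoMat _ _
      simp only [monoMat_mul_monoMat, map_mul, mul_one])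

theorem coe_pmSL (ρ : A →* Perm ι) (hs : ∀ σ, ((Perm.sign (ρ σ) : ℤ) : K) = 1) (σ : A) :
    (pmSL K ρ hs σ : Matrix ι ι K) = monoMat (ρ σ) fun _ => 1 := rfl

theorem pow_ite_zpow {G : Type*} [Group G] (a : G) (P : Prop) [Decidable P] :
    a ^ (if P then (1 : ℤ) else 0) = if P then a else 1 := by
  split_ifs <;> simp

/-- the diagonal matrix with `ζ` at `i` and `ζ⁻¹` at `j` -/
def hSL (ζ : Kˣ) (i j : ι) : SpecialLinearGroup ι K :=
  ⟨monoMat 1 fun k => ((ζ ^ dd i j k : Kˣ) : K), by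
    rw [det_monoMat, ← Units.coe_prod]
    simp only [dd, Pi.sub_apply, _root_.zpow_sub, Finset.prod_mul_distrib, Finset.prod_inv_distrib,
      Pi.single_apply, pow_ite_zpow]
    simp⟩

theorem coe_hSL (ζ : Kˣ) (i j : ι) :
    (hSL ζ i j : Matrix ι ι K) = monoMat 1 fun k => ((ζ ^ dd i j k : Kˣ) : K) := rfl

theorem tor_hSL (ζ : Kˣ) : Tor (hSL ζ : ι → ι → _) := by
  refine ⟨fun i j k l => Subtype.ext ?_, fun i j k => Subtype.ext ?_⟩
  · rw [Matrix.SpecialLinearGroup.coe_mul, Matrix.SpecialLinearGroup.coe_mul]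
    simp only [coe_hSL, monoMat_mul_monoMat, mul_comm, Perm.one_apply]
  · rw [Matrix.SpecialLinearGroup.coe_mul]
    simp only [coe_hSL, monoMat_mul_monoMat, Perm.one_apply,
      mul_one, ← Units.val_mul, ← _root_.zpow_add]
    congr 1
    funext a
    congr 2
    simp [dd]

theorem conj_xSL {g : SpecialLinearGroup ι K} {σ : Perm ι} {d : ι → K}
    (hg : (g : Matrix ι ι K) = monoMat σ d) {i j : ι} (hij : i ≠ j) (t : K) :
    conj g (xSL i j t) = xSL (σ i) (σ j) (d i * t * (d j)⁻¹) := by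
  apply Subtype.ext
  rw [conj_apply, coe_conj_monoMat hg ((coe_xSL hij t).trans (coe_transvection_eq i j t)),
    coe_xSL (σ.injective.ne hij), coe_transvection_eq]

theorem conj_hSL_xSL (ζ : Kˣ) (k l : ι) {i j : ι} (hij : i ≠ j) (t : K) :
    conj (hSL ζ k l) (xSL i j t) = xSL i j ((ζ ^ (dd k l i - dd k l j) : Kˣ) * t) := by
  rw [conj_xSL rfl hij]
  simp only [Perm.one_apply, _root_.zpow_sub, Units.val_mul, Units.val_inv_eq_inv_val]
  congr 1; ring

theorem conj_pmSL_xSL {ρ : A →* Perm ι} (hs : ∀ σ, ((Perm.sign (ρ σ) : ℤ) : K) = 1) (σ : A)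
    {i j : ι} (hij : i ≠ j) (t : K) :
    conj (pmSL K ρ hs σ) (xSL i j t) = xSL (ρ σ i) (ρ σ j) t := by
  rw [conj_xSL rfl hij]; simp

theorem conj_pmSL_hSL {ρ : A →* Perm ι} (hs : ∀ σ, ((Perm.sign (ρ σ) : ℤ) : K) = 1) (σ : A)
    (ζ : Kˣ) (i j : ι) :
    conj (pmSL K ρ hs σ) (hSL ζ i j) = hSL ζ (ρ σ i) (ρ σ j) := by
  rw [conj_apply, mul_inv_eq_iff_eq_mul]
  apply Subtype.ext
  rw [Matrix.SpecialLinearGroup.coe_mul, Matrix.SpecialLinearGroup.coe_mul]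
  simp only [coe_hSL, coe_pmSL, monoMat_mul_monoMat, mul_one, one_mul]
  congr 1
  funext k
  congr 2
  simp [dd, Pi.single_apply]

theorem orb_xSL (ζ : Kˣ) {i j : ι} (hij : i ≠ j) :
    Orb (hSL ζ) i j fun m => xSL i j ((ζ ^ m : Kˣ) : K) := fun k l m => by
  rw [conj_hSL_xSL ζ k l hij, ← Units.val_mul, ← _root_.zpow_add, add_comm]

theorem word_xSL (ζ : Kˣ) {i j r : ι} (hij : i ≠ j) (hi : i ≠ r) (hj : j ≠ r) (f : ℤ[X]) :
    word (xSL i j (1 : K)) (hSL ζ i r) f = xSL i j (aeval (ζ : K) f) :=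
  word_of_param (x := xSL i j) (stR_xSL.add hij) (fun t => by
    rw [conj_hSL_xSL ζ i r hij]; simp [dd, hi, hj, hij.symm]) f

theorem xSL_pow_char (p : ℕ) [CharP K p] {i j : ι} (hij : i ≠ j) : xSL i j (1 : K) ^ p = 1 := by
  have : ∀ n : ℕ, xSL i j (1 : K) ^ n = xSL i j (n : K) := fun n => by
    induction n with
    | zero => simp [stR_xSL.zero hij]
    | succ n ih => rw [pow_succ, ih, stR_xSL.add hij]; simp
  rw [this, CharP.cast_eq_zero, stR_xSL.zero hij]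

theorem commute_of_conj_eq {G : Type*} [Group G] {a b : G} (h : conj a b = b) : Commute a b :=
  mul_inv_eq_iff_eq_mul.1 h

/-- a subgroup containing all `xSL i j 1` and normalised by the torus is everything -/
theorem eq_top_of_hSL (h3 : ∀ k l : ι, ∃ m, k ≠ m ∧ l ≠ m) {ζ : Kˣ}
    (hζ : ∀ u, u ∈ Subgroup.zpowers ζ) {H : Subgroup (SpecialLinearGroup ι K)}
    (h1 : ∀ i j, i ≠ j → xSL i j 1 ∈ H)
    (h2 : ∀ i j, i ≠ j → ∀ g ∈ H, ∀ m : ℤ, conj (hSL ζ i j ^ m) g ∈ H) : H = ⊤ := by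
  refine eq_top_of_xSL_mem fun i j hij t => ?_
  by_cases ht : t = 0
  · rw [ht, stR_xSL.zero hij]; exact one_mem _
  obtain ⟨m, rfl⟩ := exists_zpow hζ ht
  obtain ⟨r, hi, hj⟩ := h3 i j
  have := (orb_xSL ζ hij).eq hij hi hj m
  simp only [zpow_zero, Units.val_one] at this
  rw [this]
  exact h2 i r hi _ (h1 i j hij) m

end concrete

section closing

variable {ι A J K : Type*} [Fintype ι] [DecidableEq ι] [Group A] [Group J] [Field K]

theorem card_le_of_act [Finite K] (h3 : 3 ≤ Fintype.card ι) {ζ : Kˣ}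
    (hζ : ∀ u, u ∈ Subgroup.zpowers ζ) {ρ : A →* Perm ι} {α : A →* J} {H : ι → ι → J}
    {x : ι → ι → K → J} (hx : StR x) (ho : ∀ i j, i ≠ j → Orb H i j fun m => x i j (ζ ^ m : Kˣ))
    (hH : ∀ σ i j, i ≠ j → conj (α σ) (H i j) = H (ρ σ i) (ρ σ j))
    (hU : ∀ σ i j, i ≠ j → conj (α σ) (x i j 1) = x (ρ σ i) (ρ σ j) 1) {i0 i1 : ι} (h01 : i0 ≠ i1)
    (hgen : Subgroup.closure (Set.range α ∪ Set.range ![H i0 i1, x i0 i1 1]) = ⊤)
    (hα : ∀ σ, α σ ∈ Subgroup.normalClosure {x i0 i1 1})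
    (hh : H i0 i1 ∈ Subgroup.normalClosure {x i0 i1 1}) :
    Finite J ∧ Nat.card J ≤ Nat.card (Matrix.SpecialLinearGroup ι K) := by
  have one : ((ζ ^ (0 : ℤ) : Kˣ) : K) = 1 := by simp
  refine card_le_of_stR h3 hx hgen ?_ ?_
  · rintro _ (⟨σ, rfl⟩ | ⟨a, rfl⟩)
    · refine Or.inr fun i j hij t => ⟨ρ σ i, ρ σ j, t, (ρ σ).injective.ne hij, ?_⟩
      by_cases ht : t = 0
      · rw [ht, hx.zero hij, hx.zero ((ρ σ).injective.ne hij), map_one]
      obtain ⟨m, rfl⟩ := exists_zpow hζ ht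
      obtain ⟨r, hi, hj⟩ := exists_third h3 i j
      have e1 := (ho i j hij).eq hij hi hj m
      have e2 := (ho _ _ ((ρ σ).injective.ne hij)).eq ((ρ σ).injective.ne hij)
        ((ρ σ).injective.ne hi) ((ρ σ).injective.ne hj) m
      simp only [one] at e1 e2
      rw [e1, e2, ← hU σ i j hij, ← hH σ i r hi, ← map_zpow]
      simp only [conj_apply]
      group
    · fin_cases a
      · refine Or.inr fun i j hij t => ?_
        by_cases ht : t = 0
        · exact ⟨i, j, 0, hij, by rw [ht, hx.zero hij, map_one]⟩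
        obtain ⟨m, rfl⟩ := exists_zpow hζ ht
        exact ⟨i, j, _, hij, ho i j hij i0 i1 m⟩
      · exact Or.inl ⟨i0, i1, 1, h01, rfl⟩
  · rw [eq_top_iff, ← hgen, Subgroup.closure_le]
    have : Subgroup.normalClosure {x i0 i1 1} ≤
        Subgroup.normalClosure {g | ∃ i j t, i ≠ j ∧ g = x i j t} :=
      Subgroup.normalClosure_mono (by rintro _ rfl; exact ⟨i0, i1, 1, h01, rfl⟩)
    rintro _ (⟨σ, rfl⟩ | ⟨a, rfl⟩)
    · exact this (hα σ)
    · fin_cases a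
      · exact this hh
      · exact this (Subgroup.subset_normalClosure rfl)

end closing

end Cfsg.Agent.SLn
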