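import Cfsg.Agent.Lib.SLn.PresFour
import Cfsg.Agent.Lib.SLn.Mult

/-!
# Bounded presentations of `SL₃(q)`, `q ≠ 4`
-/

set_option autoImplicit false

namespace Cfsg.Agent.SLn

open MulAut Polynomial Cfsg.Agent.Pres
open Equiv (Perm swap)
open Cfsg.Agent.SL2 (word)
open scoped commutatorElement

variable {K : Type*} [Field K]

theorem span_three [Finite K] (h4 : Nat.card K ≠ 4) {ζ : Kˣ} (hζ : ∀ u, u ∈ Subgroup.zpowers ζ) :
    Span ζ 3 {0} := by
  intro P h0 hadd β hP t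
  obtain ⟨A, hA⟩ := top_of_add h0 hadd
  have := Fintype.ofFinite K
  let A' := AddSubgroup.closure {x : K | ∃ c, x = (ζ ^ β : Kˣ) * c ^ 3}
  have h1 : A' ≤ A := by
    rw [AddSubgroup.closure_le]
    rintro _ ⟨c, rfl⟩
    by_cases hc : c = 0
    · simp [hc]
    obtain ⟨m, rfl⟩ := exists_zpow hζ hc
    rw [SetLike.mem_coe, hA]
    convert hP m 0 rfl using 1
    rw [add_zero, zpow_add, mul_comm 3 m, zpow_mul]
    simp only [Units.val_mul, Units.val_zpow_eq_zpow_val, zpow_ofNat,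
      Units.val_pow_eq_pow_val]
  have h2 : ∀ l ∈ Subfield.closure {c : K | ∃ a, c = a ^ 3}, ∀ a ∈ A', l * a ∈ A' := by
    intro l hl
    induction hl using Subfield.closure_induction with
    | mem l hl =>
      obtain ⟨b, rfl⟩ := hl
      have : A' ≤ A'.comap (AddMonoidHom.mulLeft (b ^ 3)) := by
        rw [AddSubgroup.closure_le]
        rintro _ ⟨c, rfl⟩
        exact AddSubgroup.subset_closure ⟨b * c, by simp only [AddMonoidHom.coe_mulLeft]; ring⟩
      exact this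
    | one => simp
    | add x y _ _ hx hy => intro a ha; rw [add_mul]; exact add_mem (hx a ha) (hy a ha)
    | neg x _ hx => intro a ha; rw [neg_mul]; exact neg_mem (hx a ha)
    | mul x y _ _ hx hy => intro a ha; rw [mul_assoc]; exact hx _ (hy a ha)
    | inv x _ hx =>
      by_cases h0 : x = 0
      · simp [h0]
      have hp : ∀ n : ℕ, ∀ a ∈ A', x ^ n * a ∈ A' := fun n => by
        induction n with
        | zero => simp
        | succ n ih => intro a ha; rw [pow_succ, mul_assoc]; exact ih _ (hx a ha)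
      have : x⁻¹ = x ^ (Fintype.card K - 2) := by
        rw [inv_eq_iff_eq_inv, eq_comm, inv_eq_iff_eq_inv]
        refine eq_inv_of_mul_eq_one_left ?_
        rw [← pow_succ, ← FiniteField.pow_card_sub_one_eq_one x h0]
        congr 1
        have : 1 < Fintype.card K := Fintype.one_lt_card
        omega
      rw [this]; exact hp _
  rw [← hA]
  have := h2 (t / (ζ ^ β : Kˣ)) (closure_cubes h4 ▸ Subfield.mem_top _) (ζ ^ β : Kˣ)
    (AddSubgroup.subset_closure ⟨1, by simp⟩)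
  rw [div_mul_cancel₀ _ (ζ ^ β).ne_zero] at this
  exact h1 this

section abstract

variable {ι J : Type*} [DecidableEq ι] [Group J] {H : ι → ι → J}

theorem word_mem {u g : J} {S : Subgroup J} (h : ∀ n : ℕ, g ^ n * u * (g ^ n)⁻¹ ∈ S) (f : ℤ[X]) :
    word u g f ∈ S := by
  refine list_prod_mem fun y hy => ?_
  obtain ⟨i, -, rfl⟩ := List.mem_map.1 hy
  exact zpow_mem (h i) _

theorem commute_all {g u v : J} {W : ℤ[X]} (hW : g * u * g⁻¹ = word u (g ^ 3) W)
    (hz : ∀ α : ℤ, Commute (conj (g ^ (3 * α)) u) v) (m : ℤ) : Commute (conj (g ^ m) u) v := by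
  have step : ∀ m : ℤ, (∀ α : ℤ, Commute (conj (g ^ (m + 3 * α)) u) v) →
      ∀ α : ℤ, Commute (conj (g ^ (m + 1 + 3 * α)) u) v := fun m hm α => by
    have e : conj (g ^ (m + 1 + 3 * α)) u = conj (g ^ (m + 3 * α)) (word u (g ^ 3) W) := by
      rw [← hW]; simp only [conj_apply]; group
    have : word u (g ^ 3) W ∈
        (Subgroup.centralizer {v}).comap (conj (g ^ (m + 3 * α))).toMonoidHom := by
      refine word_mem (fun n => ?_) W
      rw [Subgroup.mem_comap, Subgroup.mem_centralizer_singleton_iff]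
      have := hm (α + n)
      convert this.eq using 2 <;> simp only [MulEquiv.coe_toMonoidHom, conj_apply] <;> group
    rw [Subgroup.mem_comap, Subgroup.mem_centralizer_singleton_iff] at this
    rw [e]; exact this
  have h0 : ∀ α : ℤ, Commute (conj (g ^ (0 + 3 * α)) u) v := by simpa using hz
  have h1 := step _ h0
  have h2 := step _ h1
  rcases (by omega : m = 0 + 3 * (m / 3) ∨ m = 0 + 1 + 3 * (m / 3) ∨
    m = 0 + 1 + 1 + 3 * (m / 3)) with e | e | e <;> rw [e]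
  exacts [h0 _, h1 _, h2 _]

theorem exists_comm_param {ζ : Kˣ} (hζ : ∀ u, u ∈ Subgroup.zpowers ζ) (hS : Span ζ 3 {0})
    {i j k : ι} (hij : i ≠ j) (hjk : j ≠ k) (hik : i ≠ k) {x y : K → J}
    (hx : ∀ a b, x a * x b = x (a + b)) (hy : ∀ a b, y a * y b = y (a + b))
    (ox : Orb H i j fun m => x (ζ ^ m : Kˣ)) (oy : Orb H j k fun m => y (ζ ^ m : Kˣ))
    {e : ℤ → J} (oe : Orb H i k e) (e0 : e 0 = ⁅x 1, y 1⁆) (cx : ∀ t m, Commute (x t) (e m))
    (cy : ∀ t m, Commute (y t) (e m)) :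
    ∃ z : K → J, (∀ a b, z a * z b = z (a + b)) ∧ ∀ m : ℤ, z (ζ ^ m : Kˣ) = e m := by
  have one : ((ζ ^ (0 : ℤ) : Kˣ) : K) = 1 := by simp
  let g0 := H i j * H k j
  have w0 : Wt H g0 (dd i j + dd k j) := (Wt.base H i j).mul (Wt.base H k j)
  have ee : ∀ α β : ℤ, ⁅x (ζ ^ (β + 3 * α) : Kˣ), y (ζ ^ β : Kˣ)⁆ = e (β + 3 * α + β) := by
    intro α β
    obtain ⟨g, a, hg, h1, h2⟩ := rich_three H i j k hij hjk hik α β
    have := congrArg (conj g) e0
    rw [map_commutatorElement, ← one, hg i j _ ox, hg j k _ oy, hg i k _ oe, h1, h2, zero_add,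
      zero_add, zero_add] at this
    rw [← this]
    congr 1
    linear_combination h1 + h2
  have el : ∀ a b s, ⁅x (a + b), y s⁆ = x a * ⁅x b, y s⁆ * (x a)⁻¹ * ⁅x a, y s⁆ := fun a b s => by
    rw [← hx]; simp only [commutatorElement_def]; group
  have er : ∀ t a b, ⁅x t, y (a + b)⁆ = ⁅x t, y a⁆ * (y a * ⁅x t, y b⁆ * (y a)⁻¹) := fun t a b => by
    rw [← hy]; simp only [commutatorElement_def]; group
  have Z : ∀ s t, (∀ a, Commute (x a) ⁅x t, y s⁆) ∧ (∀ a, Commute (y a) ⁅x t, y s⁆) ∧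
      Commute g0 ⁅x t, y s⁆ := by
    intro s
    by_cases hs : s = 0
    · simp [hs, add_zero' hy]
    obtain ⟨β, rfl⟩ := exists_zpow hζ hs
    refine hS _ (by simp [add_zero' hx]) ?_ β ?_
    · rintro a b ⟨a1, a2, a3⟩ ⟨b1, b2, b3⟩
      rw [el, (b1 a).eq, mul_inv_cancel_right]
      exact ⟨fun c => (b1 c).mul_right (a1 c), fun c => (b2 c).mul_right (a2 c), b3.mul_right a3⟩
    · rintro α _ rfl
      rw [add_zero, ee]
      refine ⟨fun a => cx a _, fun a => cy a _, commute_of_conj_eq ?_⟩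
      rw [w0 i k _ oe]
      simp [dd, hij, hik, hjk.symm, hik.symm]
  have al : ∀ a b s, ⁅x (a + b), y s⁆ = ⁅x b, y s⁆ * ⁅x a, y s⁆ := fun a b s => by
    rw [el, ((Z s b).1 a).eq, mul_inv_cancel_right]
  have ar : ∀ t a b, ⁅x t, y (a + b)⁆ = ⁅x t, y a⁆ * ⁅x t, y b⁆ := fun t a b => by
    rw [er, ((Z b t).2.1 a).eq, mul_inv_cancel_right]
  have bal : ∀ l t s, ⁅x (l * t), y s⁆ = ⁅x t, y (l * s)⁆ := by
    refine hS _ (by simp [add_zero' hx, add_zero' hy]) ?_ 0 ?_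
    · intro a b ha hb t s
      rw [add_mul, add_mul, add_comm (a * t), al, ar, ha, hb]
    · rintro α _ rfl t s
      by_cases ht : t = 0
      · simp [ht, add_zero' hx]
      by_cases hs : s = 0
      · simp [hs, add_zero' hy]
      obtain ⟨m, rfl⟩ := exists_zpow hζ ht
      obtain ⟨n, rfl⟩ := exists_zpow hζ hs
      have := conj_eq_of_commute ((Z (ζ ^ (3 * α + n) : Kˣ) (ζ ^ m : Kˣ)).2.2.zpow_left α)
      rw [map_commutatorElement, w0.zpow α i j _ ox, w0.zpow α j k _ oy] at this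
      rw [← Units.val_mul, ← Units.val_mul, ← zpow_add, ← zpow_add]
      convert this using 5
      · simp [dd, hij, hij.symm, hik, hjk]; ring
      · simp [dd, hij.symm, hik.symm, hjk, hjk.symm]; ring
      · ring
  refine ⟨fun t => ⁅x t, y 1⁆, fun a b => by simp only; rw [add_comm, al], fun m => ?_⟩
  have := ee m (-m)
  rw [show -m + 3 * m = m + m by ring, zpow_add, Units.val_mul, bal, ← Units.val_mul,
    ← zpow_add, add_neg_cancel, one] at this
  simp only
  rw [this]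
  congr 1; ring

end abstract

theorem fin3_tri : ∀ i j k : Fin 3, i ≠ j → j ≠ k → i ≠ k →
    (j = i + 1 ∧ k = i + 2) ∨ (j = i + 2 ∧ k = i + 1) := by decide

theorem fin3_pair : ∀ i j : Fin 3, i ≠ j → j = i + 1 ∨ j = i + 2 := by decide

theorem fin3_11 : ∀ i : Fin 3, i + 1 + 1 = i + 2 := by decide
theorem fin3_12 : ∀ i : Fin 3, i + 1 + 2 = i := by decide
theorem fin3_21 : ∀ i : Fin 3, i + 2 + 1 = i := by decide
theorem fin3_22 : ∀ i : Fin 3, i + 2 + 2 = i + 1 := by decide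
theorem fin3_n01 : ∀ i : Fin 3, i ≠ i + 1 := by decide
theorem fin3_n02 : ∀ i : Fin 3, i ≠ i + 2 := by decide
theorem fin3_n12 : ∀ i : Fin 3, i + 1 ≠ i + 2 := by decide

theorem alt3_add : ∀ σ : alternatingGroup (Fin 3), ∀ i j, σ.1 (i + j) = σ.1 i + j := by decide

theorem alt3_reach : ∀ i : Fin 3, ∃ σ : alternatingGroup (Fin 3), σ.1 0 = i ∧ σ.1 1 = i + 1 := by
  decide

theorem alt3_stab : ∀ σ : alternatingGroup (Fin 3), σ.1 0 = 0 → σ = 1 := by decide

/-- the cyclic conjugates -/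
noncomputable def cc3 {J : Type*} [Group J] (α : alternatingGroup (Fin 3) → J) (w : J)
    (i : Fin 3) : J :=
  cA (alternatingGroup (Fin 3)).subtype 0 1 α w i (i + 1)

theorem map_cc3 {J J' : Type*} [Group J] [Group J'] (φ : J →* J')
    (α : alternatingGroup (Fin 3) → J) (w : J) (i : Fin 3) :
    φ (cc3 α w i) = cc3 (fun a => φ (α a)) (φ w) i := map_cA _ _ _ _ _ _ _ _

theorem conj_cc3 {J : Type*} [Group J] (α : alternatingGroup (Fin 3) →* J) (w : J)
    (σ : alternatingGroup (Fin 3)) (i : Fin 3) : conj (α σ) (cc3 α w i) = cc3 α w (σ.1 i) := by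
  rw [cc3, conj_cA (fun τ a _ => by rw [alt3_stab τ a]; simp) (alt3_reach i), cc3, ← alt3_add]
  rfl

theorem cc3_zero {J : Type*} [Group J] (α : alternatingGroup (Fin 3) →* J) (w : J) :
    cc3 α w 0 = w :=
  cA_base (fun τ a _ => by rw [alt3_stab τ a]; simp)

/-- the relators -/
noncomputable def rels3 {J : Type*} [Group J] (p : ℕ) (mp W : ℤ[X])
    (α : alternatingGroup (Fin 3) → J) (h u : J) : List J :=
  let a := cc3 α h
  let b := cc3 α u
  [a 0 * a 1 * a 2, ⁅a 0, a 1⁆, ⁅(a 2)⁻¹ * a 1, b 0⁆, ⁅a 0 * (a 1)⁻¹, ⁅b 0, b 1⁆⁆,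
    (a 2)⁻¹ * b 0 * (a 2)⁻¹⁻¹ * (word (b 0) ((a 2)⁻¹ ^ 3) W)⁻¹, b 0 ^ p,
    word (b 0) (a 2)⁻¹ mp, ⁅b 0, ⁅b 0, b 1⁆⁆, ⁅b 1, ⁅b 0, b 1⁆⁆,
    ⁅⁅b 1, b 2⁆, ⁅b 0, b 1⁆⁆ * (b 1)⁻¹]

theorem map_rels3 {J J' : Type*} [Group J] [Group J'] (φ : J →* J') (p : ℕ) (mp W : ℤ[X])
    (α : alternatingGroup (Fin 3) → J) (h u : J) :
    (rels3 p mp W α h u).map φ = rels3 p mp W (fun a => φ (α a)) (φ h) (φ u) := by
  simp [rels3, map_cc3, SL2.map_word, map_commutatorElement]

theorem rels3_shift {J : Type*} [Group J] {p : ℕ} {mp W : ℤ[X]}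
    {α : alternatingGroup (Fin 3) →* J} {h u : J} (hr : ∀ w ∈ rels3 p mp W α h u, w = 1)
    (i : Fin 3) : let a := cc3 α h; let b := cc3 α u
      a i * a (i + 1) * a (i + 2) = 1 ∧ Commute (a i) (a (i + 1)) ∧
      Commute ((a (i + 2))⁻¹ * a (i + 1)) (b i) ∧
      Commute (a i * (a (i + 1))⁻¹) ⁅b i, b (i + 1)⁆ ∧
      (a (i + 2))⁻¹ * b i * (a (i + 2))⁻¹⁻¹ = word (b i) ((a (i + 2))⁻¹ ^ 3) W ∧ b i ^ p = 1 ∧
      word (b i) (a (i + 2))⁻¹ mp = 1 ∧ Commute (b i) ⁅b i, b (i + 1)⁆ ∧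
      Commute (b (i + 1)) ⁅b i, b (i + 1)⁆ ∧
      ⁅⁅b (i + 1), b (i + 2)⁆, ⁅b i, b (i + 1)⁆⁆ = b (i + 1) := by
  obtain ⟨σ, h0, h1⟩ := alt3_reach i
  have h2 : σ.1 2 = i + 2 := by rw [← h0, ← alt3_add]; rfl
  have : ∀ w ∈ (rels3 p mp W α h u).map (conj (α σ)).toMonoidHom, w = 1 := by
    rw [List.forall_mem_map]
    intro w hw
    rw [hr w hw, map_one]
  simp only [rels3, List.map_cons, map_mul, map_inv, map_pow, map_commutatorElement,
    SL2.map_word] at this
  simp only [MulEquiv.coe_toMonoidHom, conj_cc3, h0, h1, h2, List.forall_mem_cons,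
    commutatorElement_eq_one_iff_commute, mul_inv_eq_one] at this
  obtain ⟨r1, r2, r3, r4, r5, r6, r7, r8, r9, r10, -⟩ := this
  exact ⟨r1, r2, r3, r4, r5, r6, r7, r8, r9, r10⟩

theorem card_three [Finite K] {ζ : Kˣ} (hζ : ∀ u, u ∈ Subgroup.zpowers ζ) (hS : Span ζ 3 {0})
    {p : ℕ} {mp W : ℤ[X]}
    (hm : ∀ f : ℤ[X], aeval (ζ : K) f = 0 → ∃ g r : ℤ[X], f = g * mp + r * C (p : ℤ))
    {J : Type*} [Group J] (α : alternatingGroup (Fin 3) →* J) (h u : J)
    (hgen : Subgroup.closure (Set.range α ∪ Set.range ![h, u]) = ⊤)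
    (hr : ∀ w ∈ rels3 p mp W α h u, w = 1)
    (hα : ∀ σ, α σ ∈ Subgroup.normalClosure {u}) (hh : h ∈ Subgroup.normalClosure {u}) :
    Finite J ∧ Nat.card J ≤ Nat.card (Matrix.SpecialLinearGroup (Fin 3) K) := by
  have R := rels3_shift hr
  set a := cc3 α h
  set b := cc3 α u
  simp only at R
  have n01 := fin3_n01
  have n02 := fin3_n02
  have n12 := fin3_n12
  let H0 : Fin 3 → Fin 3 → J := fun i j => if j = i + 1 then a i else (a j)⁻¹
  have tor : Tor fun i j => if i = j then 1 else H0 i j := by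
    refine Tor.of_rel (exists_third (by simp)) (fun i j k a1 a2 a3 => ?_) fun i j k a1 a2 a3 => ?_
    · rcases fin3_tri i j k a1 a2 a3 with ⟨rfl, rfl⟩ | ⟨rfl, rfl⟩
      · simp only [H0, fin3_11, if_true, (n12 i).symm, if_false]
        exact eq_inv_of_mul_eq_one_left (R i).1
      · simp only [H0, fin3_21, if_true, (n12 i).symm, (n01 i).symm, if_false]
        rw [← mul_inv_rev, inv_eq_iff_mul_eq_one, ← mul_eq_one_comm, ← mul_assoc, (R i).1]
    · have := (R (i + 2)).2.1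
      rw [fin3_21] at this
      rcases fin3_tri i j k a1 a2 a3 with ⟨rfl, rfl⟩ | ⟨rfl, rfl⟩ <;>
        simp only [H0, if_true, (n12 i).symm, if_false]
      exacts [this.symm.inv_right, this.inv_left]
  set H : Fin 3 → Fin 3 → J := fun i j => if i = j then 1 else H0 i j
  have H1 : ∀ i, H i (i + 1) = a i := fun i => by simp only [H, H0, n01 i, if_true, if_false]
  have H2 : ∀ i, H i (i + 2) = (a (i + 2))⁻¹ := fun i => by
    simp only [H, H0, n02 i, (n12 i).symm, if_false]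
  have H12 : ∀ i, H (i + 1) (i + 2) = a (i + 1) := fun i => by rw [← H1, fin3_11]
  have H21 : ∀ i, H (i + 2) (i + 1) = (a (i + 1))⁻¹ := fun i => by
    rw [← fin3_22, H2]
  have o1 : ∀ i, Orb H i (i + 1) fun m => conj (H i (i + 2) ^ m) (b i) := fun i =>
    tor.orb (n01 i) (n02 i) (n12 i) (by rw [H2, H12]; exact (R i).2.2.1) fun k b1 b2 b3 =>
      absurd (fin3_pair i k b1.symm) (by simp [b2, b3])
  have o2 : ∀ i, Orb H i (i + 2) fun m => conj (H i (i + 1) ^ m) ⁅b i, b (i + 1)⁆ := fun i =>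
    tor.orb (n02 i) (n01 i) (n12 i).symm (by rw [H1, H21]; exact (R i).2.2.2.1) fun k b1 b2 b3 =>
      absurd (fin3_pair i k b1.symm) (by simp [b2, b3])
  have rich := rich_three H
  have c1 : ∀ i (m : ℤ), Commute (conj (H i (i + 2) ^ m) (b i)) ⁅b i, b (i + 1)⁆ := fun i => by
    refine commute_all (W := W) (by rw [H2]; exact (R i).2.2.2.2.1) fun α => ?_
    obtain ⟨g, w, hg, e1, e2⟩ := rich (i + 1) i (i + 2) (n01 i).symm (n02 i) (n12 i) (-α) 0
    have := (R i).2.2.2.2.2.2.2.1.map (conj g)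
    have f1 := hg _ _ _ (o1 i) 0
    have f2 := hg _ _ _ (o2 i) 0
    simp only [zpow_zero, map_one, MulAut.one_apply, zero_add, e2] at f1 f2
    rwa [f1, f2, show w i - w (i + 1) = 3 * α by linear_combination -e1] at this
  have c2 : ∀ i (m : ℤ),
      Commute (conj (H (i + 1) (i + 1 + 2) ^ m) (b (i + 1))) ⁅b i, b (i + 1)⁆ := fun i => by
    refine commute_all (W := W) (by rw [H2]; exact (R _).2.2.2.2.1) fun α => ?_
    obtain ⟨g, w, hg, e1, e2⟩ := rich (i + 1) (i + 2) i (n12 i) (n02 i).symm (n01 i).symm α 0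
    have := (R i).2.2.2.2.2.2.2.2.1.map (conj g)
    have f1 := hg _ _ _ (o1 (i + 1)) 0
    have f2 := hg _ _ _ (o2 i) 0
    simp only [zpow_zero, map_one, MulAut.one_apply, zero_add, fin3_11,
      show w i - w (i + 2) = 0 by linear_combination -e2] at f1 f2
    rwa [f1, f2, show w (i + 1) - w (i + 2) = 3 * α by linear_combination e1] at this
  have hx : ∀ i, ∃ x : K → J, (∀ a b, x a * x b = x (a + b)) ∧
      ∀ m : ℤ, x (ζ ^ m : Kˣ) = conj (H i (i + 2) ^ m) (b i) := fun i => by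
    obtain ⟨i, rfl⟩ : ∃ j, i = j + 1 := ⟨i + 2, (fin3_21 i).symm⟩
    refine exists_param hζ hm (fun n => ?_) (R _).2.2.2.2.2.1 (by rw [H2]; exact (R _).2.2.2.2.2.2.1)
    have d1 := (c1 (i + 1) n).symm
    have d2 := (c2 i n).symm
    rw [fin3_11, zpow_natCast] at d1
    rw [zpow_natCast] at d2
    nth_rewrite 1 [← (R i).2.2.2.2.2.2.2.2.2]
    exact ((d1.mul_left d2).mul_left d1.inv_left).mul_left d2.inv_left
  choose x hx using hx
  have x1 : ∀ i, x i 1 = b i := fun i => by simpa using (hx i).2 0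
  have ox : ∀ i, Orb H i (i + 1) fun m => x i (ζ ^ m : Kˣ) := fun i => by
    simp only [(hx i).2]; exact o1 i
  have hz : ∀ i, ∃ z : K → J, (∀ a b, z a * z b = z (a + b)) ∧
      ∀ m : ℤ, z (ζ ^ m : Kˣ) = conj (H i (i + 1) ^ m) ⁅b i, b (i + 1)⁆ := fun i => by
    refine exists_comm_param hζ hS (n01 i) (n12 i) (n02 i) (hx i).1 (hx (i + 1)).1 (ox i)
      (by rw [← fin3_11]; exact ox (i + 1)) (o2 i) (by simp [x1]) (fun t m => ?_) fun t m => ?_
    · by_cases ht : t = 0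
      · simp [ht, add_zero' (hx i).1]
      obtain ⟨n, rfl⟩ := exists_zpow hζ ht
      have hg := (Wt.base H i (i + 1)).zpow m
      have := (c1 i (n - 2 * m)).map (conj (H i (i + 1) ^ m))
      rw [← (hx i).2, hg _ _ _ (ox i)] at this
      convert this using 4
      simp [dd, n01 i, (n01 i).symm]; ring
    · by_cases ht : t = 0
      · simp [ht, add_zero' (hx _).1]
      obtain ⟨n, rfl⟩ := exists_zpow hζ ht
      have hg := (Wt.base H i (i + 1)).zpow m
      have := (c2 i (n + m)).map (conj (H i (i + 1) ^ m))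
      rw [← (hx _).2, hg _ _ _ (ox _)] at this
      convert this using 4
      simp [dd, fin3_11, (n01 i).symm, (n02 i).symm, (n12 i).symm]
  choose z hz using hz
  have z1 : ∀ i, z i 1 = ⁅b i, b (i + 1)⁆ := fun i => by simpa using (hz i).2 0
  let y : Fin 3 → Fin 3 → K → J := fun i j => if j = i + 1 then x i else z i
  have y1 : ∀ i, y i (i + 1) = x i := fun i => if_pos rfl
  have y2 : ∀ i, y i (i + 2) = z i := fun i => if_neg (n12 i).symm
  have y12 : ∀ i, y (i + 1) (i + 2) = x (i + 1) := fun i => by rw [← y1, fin3_11]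
  have y21 : ∀ i, y (i + 2) (i + 1) = z (i + 2) := fun i => by rw [← y2, fin3_22]
  have ho : ∀ i j, i ≠ j → Orb H i j fun m => y i j (ζ ^ m : Kˣ) := fun i j hij => by
    rcases fin3_pair i j hij with rfl | rfl
    · rw [y1]; exact ox i
    · simp only [y2, (hz i).2]; exact o2 i
  have hS : StR y := by
    refine stR_of_rep hζ hS rich (fun i j hij => ?_) ho ?_ ?_ ?_ ?_
    · rcases fin3_pair i j hij with rfl | rfl
      · rw [y1]; exact (hx i).1
      · rw [y2]; exact (hz i).1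
    · rintro i j k a1 a2 a3 o rfl
      have := (R i).2.2.2.2.2.2.2.1
      rcases fin3_tri i j k a1 a2 a3 with ⟨rfl, rfl⟩ | ⟨rfl, rfl⟩ <;>
        simp only [y1, y2, zpow_zero, Units.val_one, x1, z1]
      exacts [this, this.symm]
    · rintro i j k a1 a2 a3 o rfl
      rcases fin3_tri i j k a1 a2 a3 with ⟨rfl, rfl⟩ | ⟨rfl, rfl⟩ <;>
        simp only [y1, y2, y12, y21, zpow_zero, Units.val_one, x1, z1]
      · have := (R (i + 2)).2.2.2.2.2.2.2.2.1
        simpa only [fin3_21] using this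
      · exact (R i).2.2.2.2.2.2.2.2.1.symm
    · intro i j k l a1 a2 a3 a4 a5 a6
      exact absurd (fin3_tri i j k a1 a4 a2) (by
        revert i j k l; decide)
    · rintro i j k a1 a2 a3 o rfl
      rcases fin3_tri i j k a1 a2 a3 with ⟨rfl, rfl⟩ | ⟨rfl, rfl⟩ <;>
        simp only [y1, y2, y12, y21, zpow_zero, Units.val_one, x1, z1]
      have := (R (i + 2)).2.2.2.2.2.2.2.2.2
      simpa only [fin3_21, fin3_22] using this
  have e1 : H 0 1 = h := (H1 0).trans (cc3_zero α h)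
  have e2 : y 0 1 1 = u := by rw [← cc3_zero α u]; exact x1 0
  refine card_le_of_act (by simp) hζ (ρ := (alternatingGroup (Fin 3)).subtype) (α := α) hS ho
    (fun σ i j hij => ?_) (fun σ i j hij => ?_) (i0 := 0) (i1 := 1) (by decide) (by rwa [e1, e2])
    (by rwa [e2]) (by rwa [e1, e2])
  · change _ = H (σ.1 i) (σ.1 j)
    rcases fin3_pair i j hij with rfl | rfl
    · rw [alt3_add, H1, H1, conj_cc3]
    · rw [H2, map_inv, conj_cc3, alt3_add, H2]
  · change _ = y (σ.1 i) (σ.1 j) 1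
    rcases fin3_pair i j hij with rfl | rfl
    · rw [alt3_add, y1, y1, x1, x1, conj_cc3]
    · rw [alt3_add, y2, y2, z1, z1, map_commutatorElement, conj_cc3, conj_cc3, alt3_add]

theorem hasPres_three [Finite K] (h4 : Nat.card K ≠ 4) :
    ∃ π : Fin 3 → Matrix.SpecialLinearGroup (Fin 3) K, HasPres π 13 := by
  have := Fintype.ofFinite K
  obtain ⟨ζ, hζ⟩ := IsCyclic.exists_generator (α := Kˣ)
  obtain ⟨p, hp, _⟩ := SL2.exists_char (F := K)
  have := Fact.mk hp
  obtain ⟨mp, hm0, hm⟩ := SL2.exists_minpoly_lift p (ζ : K)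
  have hS := span_three h4 hζ
  obtain ⟨W, hW⟩ : ∃ W : ℤ[X], aeval ((ζ ^ 3 : Kˣ) : K) W = ζ := by
    refine hS (fun t => ∃ W : ℤ[X], aeval ((ζ ^ 3 : Kˣ) : K) W = t) ⟨0, by simp⟩ ?_ 0 ?_ _
    · rintro _ _ ⟨f, rfl⟩ ⟨g, rfl⟩
      exact ⟨f + g, map_add _ _ _⟩
    · rintro α _ rfl
      obtain ⟨n, hn⟩ := mem_powers_iff_mem_zpowers.2 (Subgroup.zpow_mem_zpowers (ζ ^ 3) α)
      refine ⟨X ^ n, ?_⟩
      rw [map_pow, aeval_X, ← Units.val_pow_eq_pow_val, zero_add, add_zero, zpow_mul, zpow_ofNat,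
        ← hn]
  have h3 : ∀ k l : Fin 3, ∃ m, k ≠ m ∧ l ≠ m := exists_third (by simp)
  set ρ := (alternatingGroup (Fin 3)).subtype with hρ
  set j := pmSL K ρ sign_alt
  have eH : ∀ i, cc3 j (hSL ζ 0 1) i = hSL ζ i (i + 1) := fun i =>
    cA_eq (fun σ => conj_pmSL_hSL _ σ ζ _ _) (alt3_reach i)
  have eU : ∀ i, cc3 j (xSL 0 1 (1 : K)) i = xSL i (i + 1) 1 := fun i =>
    cA_eq (f := fun a b => xSL a b (1 : K)) (fun σ => conj_pmSL_xSL _ σ (by decide) _)
      (alt3_reach i)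
  have eV : ∀ i : Fin 3, ⁅xSL i (i + 1) (1 : K), xSL (i + 1) (i + 2) (1 : K)⁆ = xSL i (i + 2) 1 :=
    fun i => by
      rw [commutatorElement_def, stR_xSL.step (fin3_n01 i) (fin3_n12 i) (fin3_n02 i), mul_one]
  have top : ∀ H : Subgroup (Matrix.SpecialLinearGroup (Fin 3) K), (∀ i, xSL i (i + 1) 1 ∈ H) →
      (∀ i j, i ≠ j → ∀ g ∈ H, ∀ m : ℤ, conj (hSL ζ i j ^ m) g ∈ H) → H = ⊤ := fun H h1 h2 => by
    refine eq_top_of_hSL h3 hζ (fun a b hab => ?_) h2
    rcases fin3_pair a b hab with rfl | rfl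
    · exact h1 a
    · have := h1 (a + 1)
      rw [fin3_11] at this
      rw [← eV]
      exact mul_mem (mul_mem (mul_mem (h1 a) this) (inv_mem (h1 a))) (inv_mem this)
  have hgen : Subgroup.closure (Set.range j ∪ Set.range ![hSL ζ 0 1, xSL 0 1 1]) = ⊤ := by
    set H := Subgroup.closure (Set.range j ∪ Set.range ![hSL ζ 0 1, xSL 0 1 1])
    have m1 : ∀ σ, j σ ∈ H := fun σ => Subgroup.subset_closure (Or.inl ⟨σ, rfl⟩)
    have m2 : hSL ζ 0 1 ∈ H := Subgroup.subset_closure (Or.inr ⟨0, rfl⟩)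
    have m3 : xSL 0 1 1 ∈ H := Subgroup.subset_closure (Or.inr ⟨1, rfl⟩)
    have m4 : ∀ i, hSL ζ i (i + 1) ∈ H := fun i => by
      rw [← eH]; exact mul_mem (mul_mem (m1 _) m2) (inv_mem (m1 _))
    refine top _ (fun a => ?_) fun a b hab g hg m => ?_
    · rw [← eU]; exact mul_mem (mul_mem (m1 _) m3) (inv_mem (m1 _))
    · have : hSL ζ a b ^ m ∈ H := by
        refine zpow_mem ?_ _
        rcases fin3_pair a b hab with rfl | rfl
        · exact m4 a
        · have := inv_mem (m4 (a + 2))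
          rwa [(tor_hSL ζ).inv, fin3_21] at this
      exact mul_mem (mul_mem this hg) (inv_mem this)
  have hN : Subgroup.normalClosure
      ((Sum.elim j ![hSL ζ 0 1, xSL 0 1 1]) '' {Sum.inr (1 : Fin 2)}) = ⊤ := by
    rw [Set.image_singleton]
    change Subgroup.normalClosure {xSL 0 1 (1 : K)} = ⊤
    refine top _ (fun a => ?_) fun a b hab g hg m => ?_
    · rw [← eU]; exact cA_mem _ (Subgroup.subset_normalClosure (Set.mem_singleton _)) _ _ _
    · exact Subgroup.Normal.conj_mem inferInstance _ hg _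
  obtain ⟨ω, hω1, hω2⟩ := exists_mem_normalClosure.{_, _, 0} _
    (by rw [Set.Sum.elim_range]; exact hgen) _ hN (j (Alt.t3 2 0 1))
  obtain ⟨ω', hω1', hω2'⟩ := exists_mem_normalClosure.{_, _, 0} _
    (by rw [Set.Sum.elim_range]; exact hgen) _ hN (hSL ζ 0 1)
  have key := (Alt.carmichael_pres (α := Fin 3) (u := 0) (v := 1) (by decide)).extendN j
    ![hSL ζ 0 1, xSL 0 1 1]
    (rels3 p mp W (fun a => FreeGroup.of (.inl a)) (FreeGroup.of (.inr 0))
      (FreeGroup.of (.inr 1)) ++ [FreeGroup.of (.inl (Alt.t3 2 0 1)) * ω⁻¹,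
        FreeGroup.of (.inr 0) * ω'⁻¹]) hgen ?_ ?_
  · have hc : Fintype.card ({i : Fin 3 // i ≠ 0 ∧ i ≠ 1} ⊕ Fin 2) = 3 := by
      rw [Fintype.card_sum, card_stab_dom (by decide)]; rfl
    obtain ⟨π', h⟩ := key.pad (k := 3) hc.le
    exact ⟨π', h.mono (by erw [hc]; simp [rels3])⟩
  · rw [List.forall_mem_append, ← List.forall_mem_map (P := fun w => w = 1), map_rels3]
    refine ⟨?_, by simp [hω1, hω1']⟩
    have v0 : ⁅xSL (0 : Fin 3) 1 (1 : K), xSL (1 : Fin 3) 2 (1 : K)⁆ = xSL 0 2 1 := eV 0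
    have v1 : ⁅xSL (1 : Fin 3) 2 (1 : K), xSL (2 : Fin 3) 0 (1 : K)⁆ = xSL 1 0 1 := eV 1
    have a0 : cc3 j (hSL ζ 0 1) 0 = hSL ζ 0 1 := eH 0
    have a1 : cc3 j (hSL ζ 0 1) 1 = hSL ζ 1 2 := eH 1
    have a2 : cc3 j (hSL ζ 0 1) 2 = hSL ζ 2 0 := eH 2
    have b0 : cc3 j (xSL 0 1 (1 : K)) 0 = xSL 0 1 1 := eU 0
    have b1 : cc3 j (xSL 0 1 (1 : K)) 1 = xSL 1 2 1 := eU 1
    have b2 : cc3 j (xSL 0 1 (1 : K)) 2 = xSL 2 0 1 := eU 2
    simp only [FreeGroup.lift_apply_of, Sum.elim_inl, Sum.elim_inr, Matrix.cons_val_zero,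
      Matrix.cons_val_one, rels3, List.forall_mem_cons, commutatorElement_eq_one_iff_commute,
      mul_inv_eq_one, a0, a1, a2, b0, b1, b2, v0, v1, (tor_hSL ζ).inv, (tor_hSL ζ).mul]
    refine ⟨(tor_hSL ζ).self _, (tor_hSL ζ).comm _ _ _ _, commute_of_conj_eq ?_,
      commute_of_conj_eq ?_, ?_, xSL_pow_char p (by decide), ?_,
      stR_xSL.comm (by decide) (by decide) (by decide) (by decide) _ _,
      stR_xSL.comm (by decide) (by decide) (by decide) (by decide) _ _, ?_, by simp⟩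
    · rw [map_mul, MulAut.mul_apply, conj_hSL_xSL _ _ _ (by decide), conj_hSL_xSL _ _ _ (by decide)]
      simp [dd]
    · rw [map_mul, MulAut.mul_apply, conj_hSL_xSL _ _ _ (by decide), conj_hSL_xSL _ _ _ (by decide)]
      simp [dd]
    · have e : ∀ t : K, conj (hSL ζ (0 : Fin 3) 2) (xSL 0 1 t) = xSL 0 1 (ζ * t) := fun t => by
        rw [conj_hSL_xSL _ _ _ (by decide)]; simp [dd]
      rw [word_of_param (x := xSL (0 : Fin 3) 1) (ζ := ζ ^ 3) (stR_xSL.add (by decide)) (fun t => by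
        rw [pow_three, map_mul, map_mul, MulAut.mul_apply, MulAut.mul_apply, e, e, e]
        congr 1; simp only [Units.val_pow_eq_pow_val]; ring), hW, ← (tor_hSL ζ).inv 0 2,
        ← conj_apply, e, mul_one]
    · rw [word_xSL ζ (by decide) (by decide) (by decide), hm0, stR_xSL.zero (by decide)]
    · rw [commutatorElement_def, stR_xSL.step (by decide) (by decide) (by decide), mul_one]
  · intro J _ α y hg hr
    rw [List.forall_mem_append, ← List.forall_mem_map (P := fun w => w = 1), map_rels3] at hr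
    have hy : y = ![y 0, y 1] := by ext a; fin_cases a <;> rfl
    have h1 := hr.2 _ List.mem_cons_self
    have h1' := hr.2 _ (List.mem_cons_of_mem _ List.mem_cons_self)
    have h2 := hω2 J (Sum.elim α y)
    have h2' := hω2' J (Sum.elim α y)
    rw [map_mul, map_inv, mul_inv_eq_one, FreeGroup.lift_apply_of] at h1 h1'
    rw [← h1, Set.image_singleton] at h2
    rw [← h1', Set.image_singleton] at h2'
    refine card_three hζ hS hm α (y 0) (y 1) (hy ▸ hg) (by simpa using hr.1) (fun σ => ?_) h2'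
    have : Subgroup.closure (Set.range fun i : {i : Fin 3 // i ≠ 0 ∧ i ≠ 1} => Alt.t3 i.1 0 1) ≤
        (Subgroup.normalClosure {y 1}).comap α := by
      rw [Subgroup.closure_le]
      rintro _ ⟨⟨i, hi⟩, rfl⟩
      obtain rfl : i = 2 := by revert i; decide
      exact h2
    exact this (Alt.closure_star_t3 (by decide : (0 : Fin 3) ≠ 1) ▸ Subgroup.mem_top σ)

end Cfsg.Agent.SLn
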