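import Cfsg.Agent.Lib.SLn.Steinberg3
import Cfsg.Agent.Lib.SLn.Cycle
import Cfsg.Agent.Lib.SL2.Pres

/-!
# From finitely many relations to the Steinberg relations, using a torus
-/

set_option autoImplicit false

namespace Cfsg.Agent.SLn

open MulAut Polynomial
open Cfsg.Agent.SL2 (word)
open scoped commutatorElement

variable {ι J K : Type*} [DecidableEq ι] [Group J] [Field K]

/-- a commutative family with the cocycle property -/
structure Tor (h : ι → ι → J) : Prop where
  comm : ∀ i j k l, Commute (h i j) (h k l)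
  mul : ∀ i j k, h i j * h j k = h i k

omit [DecidableEq ι] in
theorem Tor.self {h : ι → ι → J} (T : Tor h) (i : ι) : h i i = 1 :=
  mul_eq_left.1 (T.mul i i i)

omit [DecidableEq ι] in
theorem Tor.inv {h : ι → ι → J} (T : Tor h) (i j : ι) : (h i j)⁻¹ = h j i := by
  rw [inv_eq_iff_mul_eq_one, T.mul, T.self]

theorem Tor.of_rel (h3 : ∀ k l : ι, ∃ m, k ≠ m ∧ l ≠ m) {h : ι → ι → J}
    (hm : ∀ i j k, i ≠ j → j ≠ k → i ≠ k → h i j * h j k = h i k)
    (hc : ∀ i j k, i ≠ j → j ≠ k → i ≠ k → Commute (h i j) (h i k)) :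
    Tor fun i j => if i = j then 1 else h i j := by
  have inv : ∀ i j, i ≠ j → h i j * h j i = 1 := fun i j hij => by
    obtain ⟨m, h1, h2⟩ := h3 i j
    have e1 := hm i j m hij h2 h1
    rw [← hm j i m hij.symm h1 h2, ← mul_assoc] at e1
    exact mul_eq_right.1 e1
  have mul : ∀ i j k, (if i = j then 1 else h i j) * (if j = k then 1 else h j k) =
      if i = k then 1 else h i k := fun i j k => by
    by_cases hij : i = j
    · subst hij; simp
    by_cases hjk : j = k
    · subst hjk; simp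
    by_cases hik : i = k
    · subst hik; simp [hij, hjk, inv _ _ hij]
    · simp [hij, hjk, hik, hm i j k hij hjk hik]
  have c1 : ∀ i j k, Commute (if i = j then 1 else h i j) (if i = k then 1 else h i k) :=
    fun i j k => by
      by_cases hij : i = j
      · simp [hij]
      by_cases hik : i = k
      · simp [hik]
      by_cases hjk : j = k
      · subst hjk; exact Commute.refl _
      · simpa [hij, hik] using hc i j k hij hjk hik
  refine ⟨fun i j k l => ?_, mul⟩
  have e1 := mul k i l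
  have e2 := mul i k i
  rw [if_pos rfl] at e2
  rw [← e1, eq_inv_of_mul_eq_one_right e2]
  exact (c1 i j k).inv_right.mul_right (c1 i j l)

/-- the exponent vector of `h k l` -/
def dd (k l : ι) : ι → ℤ := Pi.single k 1 - Pi.single l 1

/-- `e` is an orbit of the torus with the weight of the root `(i, j)` -/
def Orb (h : ι → ι → J) (i j : ι) (e : ℤ → J) : Prop :=
  ∀ k l m, conj (h k l) (e m) = e (m + (dd k l i - dd k l j))

/-- `g` acts with exponent vector `a` -/
def Wt (h : ι → ι → J) (g : J) (a : ι → ℤ) : Prop :=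
  ∀ i j e, Orb h i j e → ∀ m, conj g (e m) = e (m + (a i - a j))

variable {h : ι → ι → J}

theorem Wt.base (h : ι → ι → J) (k l : ι) : Wt h (h k l) (dd k l) := fun _ _ _ he m => he k l m

theorem Wt.one : Wt h 1 0 := fun _ _ _ _ m => by simp

theorem Wt.mul {g g' : J} {a b : ι → ℤ} (h1 : Wt h g a) (h2 : Wt h g' b) :
    Wt h (g * g') (a + b) := fun i j e he m => by
  rw [map_mul, MulAut.mul_apply, h2 i j e he, h1 i j e he]
  congr 1
  simp only [Pi.add_apply]
  ring

theorem Wt.inv {g : J} {a : ι → ℤ} (h1 : Wt h g a) : Wt h g⁻¹ (-a) := fun i j e he m => by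
  rw [map_inv, MulAut.inv_apply, MulEquiv.symm_apply_eq, h1 i j e he]
  congr 1
  simp only [Pi.neg_apply]
  ring

theorem Wt.zpow {g : J} {a : ι → ℤ} (h1 : Wt h g a) (n : ℤ) : Wt h (g ^ n) (n • a) := by
  induction n using Int.induction_on with
  | zero => simpa using Wt.one
  | succ n ih => rw [zpow_add_one, add_smul, one_smul]; exact ih.mul h1
  | pred n ih => rw [zpow_sub_one, sub_smul, one_smul, sub_eq_add_neg]; exact ih.mul h1.inv

theorem Orb.eq {i j r : ι} {e : ℤ → J} (he : Orb h i j e) (hij : i ≠ j) (hi : i ≠ r) (hj : j ≠ r)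
    (m : ℤ) : e m = conj (h i r ^ m) (e 0) := by
  rw [(Wt.base h i r).zpow m i j e he]
  simp [dd, hi, hj, hij.symm]

theorem Tor.orb (T : Tor h) {i j r : ι} {v : J} (hij : i ≠ j) (hi : i ≠ r) (hj : j ≠ r)
    (f1 : Commute (h i r * h j r) v)
    (f2 : ∀ k, k ≠ i → k ≠ j → k ≠ r → Commute (h k r) v) :
    Orb h i j fun m => conj (h i r ^ m) v := by
  have key : ∀ k m, conj (h k r) (conj (h i r ^ m) v) =
      conj (h i r ^ (m + (dd k r i - dd k r j))) v := fun k m => by
    have c := ((T.comm k r i r).zpow_right m).eq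
    rw [← MulAut.mul_apply, ← map_mul, c, map_mul, MulAut.mul_apply, zpow_add, map_mul,
      MulAut.mul_apply]
    congr 1
    by_cases hki : k = i
    · subst hki; simp [dd, hi, hj, hij.symm]
    by_cases hkj : k = j
    · subst hkj
      have : dd k r i - dd k r k = -1 := by simp [dd, hi, hj, hij]
      rw [this, zpow_neg_one, map_inv, MulAut.inv_apply, eq_comm, MulEquiv.symm_apply_eq,
        ← MulAut.mul_apply, ← map_mul, conj_eq_of_commute f1]
    by_cases hkr : k = r
    · subst hkr; simp [dd, T.self]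
    · have : dd k r i - dd k r j = 0 := by simp [dd, hi, hj, Ne.symm hki, Ne.symm hkj]
      rw [this, conj_eq_of_commute (f2 k hki hkj hkr)]
      simp
  intro k l m
  have e := key l (m + (dd k l i - dd k l j))
  have e2 : h k l = (h l r)⁻¹ * h k r := by
    rw [T.inv, (T.comm _ _ _ _).eq, T.mul]
  rw [e2, map_mul, MulAut.mul_apply, key, map_inv, MulAut.inv_apply, MulEquiv.symm_apply_eq, e]
  congr 3
  simp only [dd, Pi.sub_apply]
  ring

/-! ### additive closure -/

theorem top_of_add [Finite K] {P : K → Prop} (h0 : P 0) (hadd : ∀ a b, P a → P b → P (a + b)) :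
    ∃ A : AddSubgroup K, ∀ t, t ∈ A ↔ P t := by
  have hn : ∀ (n : ℕ) a, P a → P (n • a) := fun n a ha => by
    induction n with
    | zero => simpa using h0
    | succ n ih => rw [succ_nsmul]; exact hadd _ _ ih ha
  refine ⟨⟨⟨⟨{t | P t}, fun {a b} => hadd a b⟩, h0⟩, fun {a} ha => ?_⟩, fun _ => Iff.rfl⟩
  have h1 : 0 < addOrderOf a := addOrderOf_pos a
  have : -a = (addOrderOf a - 1) • a := by
    rw [neg_eq_iff_add_eq_zero, ← succ_nsmul', Nat.sub_add_cancel h1, addOrderOf_nsmul_eq_zero]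
  change P (-a)
  rw [this]
  exact hn _ _ ha

/-- the multiples of `O` by `N`-th powers span additively -/
def Span (ζ : Kˣ) (N : ℤ) (O : Set ℤ) : Prop :=
  ∀ P : K → Prop, P 0 → (∀ a b, P a → P b → P (a + b)) → ∀ β : ℤ,
    (∀ α : ℤ, ∀ o ∈ O, P ((ζ ^ (β + N * α + o) : Kˣ) : K)) → ∀ t, P t

theorem exists_zpow {ζ : Kˣ} (hζ : ∀ u, u ∈ Subgroup.zpowers ζ) {t : K} (ht : t ≠ 0) :
    ∃ m : ℤ, ((ζ ^ m : Kˣ) : K) = t := by
  obtain ⟨m, hm⟩ := hζ (Units.mk0 t ht)
  exact ⟨m, congrArg Units.val hm⟩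

theorem span_one {ζ : Kˣ} (hζ : ∀ u, u ∈ Subgroup.zpowers ζ) : Span ζ 1 {0} := by
  intro P h0 _ β hP t
  by_cases ht : t = 0
  · rwa [ht]
  obtain ⟨m, rfl⟩ := exists_zpow hζ ht
  simpa using hP (m - β) 0 rfl

theorem span_two [Finite K] {ζ : Kˣ} (hζ : ∀ u, u ∈ Subgroup.zpowers ζ) : Span ζ 2 {0} := by
  intro P h0 hadd β hP t
  obtain ⟨A, hA⟩ := top_of_add h0 hadd
  rw [← hA]
  refine addSubgroup_eq_top_of_sq A (ζ ^ β).ne_zero (fun s => ?_) t
  by_cases hs : s = 0
  · simp [hs]
  obtain ⟨m, rfl⟩ := exists_zpow hζ hs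
  rw [hA]
  convert hP m 0 rfl using 1
  rw [add_zero, zpow_add, mul_comm 2 m, zpow_mul]
  simp

section additive

variable {x y z : K → J}

theorem add_zero' (hx : ∀ a b, x a * x b = x (a + b)) : x 0 = 1 :=
  mul_eq_left.1 ((hx 0 0).trans (by rw [add_zero]))

theorem commute_of_span {ζ : Kˣ} {N : ℤ} {O : Set ℤ} (hS : Span ζ N O)
    (hx : ∀ a b, x a * x b = x (a + b)) {v : J} (β : ℤ)
    (h : ∀ α : ℤ, ∀ o ∈ O, Commute (x (ζ ^ (β + N * α + o) : Kˣ)) v) (t : K) :
    Commute (x t) v :=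
  hS (fun t => Commute (x t) v) (by rw [add_zero' hx]; exact Commute.one_left _)
    (fun a b ha hb => by rw [← hx]; exact ha.mul_left hb) β h t

theorem step_of_span {ζ : Kˣ} {N : ℤ} {O : Set ℤ} (hS : Span ζ N O)
    (hx : ∀ a b, x a * x b = x (a + b)) (hz : ∀ a b, z a * z b = z (a + b))
    (hxz : ∀ a b, Commute (x a) (z b)) {v : J} {s : K} (β : ℤ)
    (h : ∀ α : ℤ, ∀ o ∈ O, ⁅x (ζ ^ (β + N * α + o) : Kˣ), v⁆ = z ((ζ ^ (β + N * α + o) : Kˣ) * s))
    (t : K) : ⁅x t, v⁆ = z (t * s) := by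
  refine hS (fun t => ⁅x t, v⁆ = z (t * s)) (by simp [add_zero' hx, add_zero' hz])
    (fun a b ha hb => ?_) β h t
  have : ⁅x a * x b, v⁆ = x a * ⁅x b, v⁆ * (x a)⁻¹ * ⁅x a, v⁆ := by
    simp only [commutatorElement_def]; group
  rw [← hx, this, ha, hb, (hxz _ _).eq, mul_inv_cancel_right, hz]
  congr 1; ring

end additive

/-- torus elements with prescribed weights on two adjacent roots -/
def Rich (h : ι → ι → J) (N : ℤ) : Prop :=
  ∀ i j k : ι, i ≠ j → j ≠ k → i ≠ k → ∀ α β : ℤ, ∃ g a, Wt h g a ∧ a i - a j = β + N * α ∧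
    a j - a k = β

theorem rich_three (h : ι → ι → J) : Rich h 3 := fun i j k hij hjk hik α β =>
  ⟨_, _, ((Wt.base h i k).zpow β).mul (((Wt.base h i j).mul (Wt.base h i k)).zpow α),
    by simp [dd, hij, hjk, hik, hij.symm]; ring,
    by simp [dd, hjk, hij.symm, hjk.symm, hik.symm]⟩

theorem rich_one (h4 : ∀ i j k : ι, ∃ r, i ≠ r ∧ j ≠ r ∧ k ≠ r) (h : ι → ι → J) : Rich h 1 :=
  fun i j k hij hjk hik α β => by
    obtain ⟨r, h1, h2, h3⟩ := h4 i j k
    exact ⟨_, _, ((Wt.base h i k).zpow β).mul ((Wt.base h i r).zpow α),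
      by simp [dd, hjk, hik, hij.symm, h1, h2],
      by simp [dd, hjk, hij.symm, hik.symm, h2, h3]⟩

/-- The Steinberg relations follow from representatives. -/
theorem stR_of_rep [Finite K] {ζ : Kˣ} (hζ : ∀ u, u ∈ Subgroup.zpowers ζ) {N : ℤ} {O : Set ℤ}
    (hS : Span ζ N O) (hR : Rich h N) {x : ι → ι → K → J}
    (hx : ∀ i j, i ≠ j → ∀ a b, x i j a * x i j b = x i j (a + b))
    (ho : ∀ i j, i ≠ j → Orb h i j fun m => x i j (ζ ^ m : Kˣ))
    (c1 : ∀ i j k, i ≠ j → j ≠ k → i ≠ k → ∀ o ∈ O, Commute (x i j (ζ ^ o : Kˣ)) (x i k 1))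
    (c2 : ∀ i j k, i ≠ j → j ≠ k → i ≠ k → ∀ o ∈ O, Commute (x i j (ζ ^ o : Kˣ)) (x k j 1))
    (c3 : ∀ i j k l, i ≠ j → i ≠ k → i ≠ l → j ≠ k → j ≠ l → k ≠ l →
      Commute (x i j 1) (x k l 1))
    (st : ∀ i j k, i ≠ j → j ≠ k → i ≠ k → ∀ o ∈ O,
      ⁅x i j (ζ ^ o : Kˣ), x j k 1⁆ = x i k (ζ ^ o : Kˣ)) : StR x := by
  have one : ((ζ ^ (0 : ℤ) : Kˣ) : K) = 1 := by simp
  have d1 : ∀ i j k, i ≠ j → j ≠ k → i ≠ k → ∀ t s, Commute (x i j t) (x i k s) := by
    intro i j k hij hjk hik t s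
    by_cases hs : s = 0
    · rw [hs, add_zero' (hx i k hik)]; exact Commute.one_right _
    obtain ⟨β, rfl⟩ := exists_zpow hζ hs
    refine commute_of_span hS (hx i j hij) (-β) (fun α o hO => ?_) t
    obtain ⟨g, a, hg, h1, h2⟩ := hR j i k hij.symm hik hjk (-α) β
    have := (c1 i j k hij hjk hik o hO).map (conj g)
    rw [← one, hg i j _ (ho i j hij), hg i k _ (ho i k hik), h2, zero_add] at this
    convert this using 4
    linear_combination h1
  have d2 : ∀ i j k, i ≠ j → j ≠ k → i ≠ k → ∀ t s, Commute (x i j t) (x k j s) := by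
    intro i j k hij hjk hik t s
    by_cases hs : s = 0
    · rw [hs, add_zero' (hx k j hjk.symm)]; exact Commute.one_right _
    obtain ⟨β, rfl⟩ := exists_zpow hζ hs
    refine commute_of_span hS (hx i j hij) (-β) (fun α o hO => ?_) t
    obtain ⟨g, a, hg, h1, h2⟩ := hR i j k hij hjk hik α (-β)
    have := (c2 i j k hij hjk hik o hO).map (conj g)
    rw [← one, hg i j _ (ho i j hij), hg k j _ (ho k j hjk.symm)] at this
    convert this using 4
    · linear_combination -h1
    · linear_combination h2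
  have d3 : ∀ i j k l, i ≠ j → i ≠ k → i ≠ l → j ≠ k → j ≠ l → k ≠ l → ∀ t s,
      Commute (x i j t) (x k l s) := by
    intro i j k l hij hik hil hjk hjl hkl t s
    by_cases hs : s = 0
    · rw [hs, add_zero' (hx k l hkl)]; exact Commute.one_right _
    obtain ⟨β, rfl⟩ := exists_zpow hζ hs
    refine commute_of_span (span_two hζ) (hx i j hij) β (fun α o hO => ?_) t
    have hg := ((Wt.base h i k).zpow α).mul ((Wt.base h i l).zpow (α + β))
    have := (c3 i j k l hij hik hil hjk hjl hkl).map (conj (h i k ^ α * h i l ^ (α + β)))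
    rw [← one, hg i j _ (ho i j hij), hg k l _ (ho k l hkl)] at this
    rw [Set.mem_singleton_iff.1 hO]
    convert this using 4
    · simp [dd, hik, hil, hij.symm, hjk, hjl]; ring
    · simp [dd, hik.symm, hil.symm, hkl, hkl.symm]
  refine ⟨fun {i j} => hx i j, fun {i j k l} hij hkl hil hjk t s => ?_,
    fun {i j k} hij hjk hik t s => ?_⟩
  · by_cases hik : i = k
    · subst hik
      by_cases hjl : j = l
      · subst hjl
        change _ * _ = _ * _
        rw [hx i j hij, hx i j hij, add_comm]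
      · exact d1 i j l hij hjl hil t s
    by_cases hjl : j = l
    · subst hjl; exact d2 i j k hij hjk hik t s
    · exact d3 i j k l hij hik hil hjk hjl hkl t s
  · rw [← commutatorElement_def]
    by_cases hs : s = 0
    · simp [hs, add_zero' (hx j k hjk), add_zero' (hx i k hik)]
    obtain ⟨β, rfl⟩ := exists_zpow hζ hs
    refine step_of_span hS (hx i j hij) (hx i k hik) (d1 i j k hij hjk hik) β
      (fun α o hO => ?_) t
    obtain ⟨g, a, hg, h1, h2⟩ := hR i j k hij hjk hik α β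
    have := congrArg (conj g) (st i j k hij hjk hik o hO)
    rw [map_commutatorElement, ← one, hg i j _ (ho i j hij), hg j k _ (ho j k hjk),
      hg i k _ (ho i k hik)] at this
    rw [← Units.val_mul, ← zpow_add]
    convert this using 4
    · congr 1; linear_combination -h1
    · congr 1; linear_combination -h2
    · linear_combination -h1 - h2

/-- the additive parametrisation of a root subgroup -/
theorem exists_param [Finite K] {ζ : Kˣ} (hζ : ∀ u, u ∈ Subgroup.zpowers ζ) {p : ℕ} {mp : ℤ[X]}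
    (hm : ∀ f : ℤ[X], aeval (ζ : K) f = 0 → ∃ g r : ℤ[X], f = g * mp + r * C (p : ℤ))
    {u g : J} (hc : ∀ n : ℕ, Commute u (g ^ n * u * (g ^ n)⁻¹)) (h2 : u ^ p = 1)
    (h3 : word u g mp = 1) :
    ∃ x : K → J, (∀ a b, x a * x b = x (a + b)) ∧
      ∀ m : ℤ, x (ζ ^ m : Kˣ) = conj (g ^ m) u := by
  have hs : Function.Surjective fun f : ℤ[X] => aeval (ζ : K) f := fun t => by
    by_cases ht : t = 0
    · exact ⟨0, by simp [ht]⟩
    obtain ⟨n, hn⟩ := (mem_powers_iff_mem_zpowers.2 (hζ (Units.mk0 t ht)))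
    exact ⟨X ^ n, by simpa using congrArg Units.val hn⟩
  have hk : ∀ f : ℤ[X], aeval (ζ : K) f = 0 → word u g f = 1 := fun f hf => by
    obtain ⟨g, r, rfl⟩ := hm f hf
    rw [SL2.word_add hc, SL2.word_mul_of_eq_one hc h3,
      SL2.word_mul_of_eq_one hc (by rw [SL2.word_C, zpow_natCast, h2]), mul_one]
  let x : K → J := fun a => word u g (Function.surjInv hs a)
  have hx : ∀ f, x (aeval (ζ : K) f) = word u g f := fun f => by
    have := SL2.word_add hc (Function.surjInv hs (aeval (ζ : K) f) - f) f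
    rw [sub_add_cancel, hk (_ - _) (by rw [map_sub, Function.surjInv_eq hs, sub_self]),
      one_mul] at this
    exact this
  have hg : ∀ t, conj g (x t) = x (ζ * t) := fun t => by
    obtain ⟨f, rfl⟩ := hs t
    simp only
    rw [hx, conj_apply, ← SL2.word_X_mul hc, ← hx, map_mul, aeval_X]
  refine ⟨x, fun a b => ?_, fun m => ?_⟩
  · obtain ⟨f, rfl⟩ := hs a
    obtain ⟨g, rfl⟩ := hs b
    simp only
    rw [← map_add, hx, hx, hx, SL2.word_add hc]
  · induction m using Int.induction_on with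
    | zero => simpa [SL2.word_one] using hx 1
    | succ n ih => rw [add_comm, zpow_one_add, zpow_one_add, map_mul, MulAut.mul_apply, ← ih, hg,
        Units.val_mul]
    | pred n ih =>
      rw [sub_eq_add_neg, add_comm, zpow_add g, map_mul, MulAut.mul_apply, ← ih, zpow_neg_one,
        map_inv, MulAut.inv_apply, eq_comm, MulEquiv.symm_apply_eq, hg, ← Units.val_mul,
        ← zpow_one_add]
      congr 3; ring

theorem word_of_param {ζ : Kˣ} {x : K → J} (hx : ∀ a b, x a * x b = x (a + b)) {g : J}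
    (hg : ∀ t, conj g (x t) = x (ζ * t)) (f : ℤ[X]) :
    word (x 1) g f = x (aeval (ζ : K) f) := by
  have e : ∀ n : ℕ, g ^ n * x 1 * (g ^ n)⁻¹ = x ((ζ : K) ^ n) := fun n => by
    induction n with
    | zero => simp
    | succ n ih => rw [pow_succ' (ζ : K), ← hg, ← ih, conj_apply, pow_succ']; group
  have hc : ∀ n : ℕ, Commute (x 1) (g ^ n * x 1 * (g ^ n)⁻¹) := fun n => by
    rw [e, Commute, SemiconjBy, hx, hx, add_comm]
  let E : Multiplicative K →* J := MonoidHom.mk' (fun a => x a.toAdd) fun a b => (hx _ _).symm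
  induction f using Polynomial.induction_on' with
  | add p q hp hq => rw [SL2.word_add hc, hp, hq, map_add, hx]
  | monomial n a =>
    rw [← C_mul_X_pow_eq_monomial, SL2.word_C_mul hc, SL2.word_X_pow hc, e]
    change E (Multiplicative.ofAdd ((ζ : K) ^ n)) ^ a = _
    rw [← map_zpow, ← ofAdd_zsmul]
    simp [E]

/-- The order bound from the Steinberg relations. -/
theorem card_le_of_stR [Fintype ι] [Finite K] (h3 : 3 ≤ Fintype.card ι) {x : ι → ι → K → J}
    (hx : StR x) {S : Set J} (hS : Subgroup.closure S = ⊤)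
    (hn : ∀ g ∈ S, (∃ i j t, i ≠ j ∧ g = x i j t) ∨
      ∀ i j, i ≠ j → ∀ t, ∃ k l s, k ≠ l ∧ conj g (x i j t) = x k l s)
    (hN : Subgroup.normalClosure {g | ∃ i j t, i ≠ j ∧ g = x i j t} = ⊤) :
    Finite J ∧ Nat.card J ≤ Nat.card (Matrix.SpecialLinearGroup ι K) := by
  obtain ⟨f, hf⟩ := hx.exists_hom h3
  have h1 : ∀ g ∈ S, f.range.map (conj g).toMonoidHom ≤ f.range := fun g hg => by
    rcases hn g hg with ⟨i, j, t, hij, rfl⟩ | hn
    · rintro _ ⟨y, hy, rfl⟩
      have : x i j t ∈ f.range := ⟨_, hf i j hij t⟩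
      exact mul_mem (mul_mem this hy) (inv_mem this)
    rw [Subgroup.map_le_iff_le_comap, MonoidHom.range_eq_map, Subgroup.map_le_iff_le_comap,
      eq_top_of_xSL_mem (H := Subgroup.comap f _)]
    intro i j hij t
    obtain ⟨k, l, s, hkl, e⟩ := hn i j hij t
    exact ⟨xSL k l s, trivial, by rw [hf _ _ hij, hf _ _ hkl]; exact e.symm⟩
  have hfin : Finite f.range := Finite.of_surjective _ f.rangeRestrict_surjective
  have h2 : f.range.Normal := by
    rw [← Subgroup.normalizer_eq_top_iff, eq_top_iff, ← hS, Subgroup.closure_le]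
    intro g hg
    exact Subgroup.mem_normalizer_fintype fun n hn => h1 g hg ⟨n, hn, rfl⟩
  have h4 : Function.Surjective f := by
    rw [← MonoidHom.range_eq_top, eq_top_iff, ← hN]
    apply Subgroup.normalClosure_le_normal
    rintro _ ⟨i, j, t, hij, rfl⟩
    exact ⟨_, hf i j hij t⟩
  exact ⟨Finite.of_surjective f h4, Nat.card_le_card_of_surjective f h4⟩

end Cfsg.Agent.SLn
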