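import Cfsg.Agent.Lib.SLn.Sourour

/-!
# Factorisation into two regular unipotent triangular matrices
-/

set_option autoImplicit false

namespace Cfsg.Agent.SLn

open Matrix

section Step

variable {ι F : Type*} [Fintype ι] [DecidableEq ι] [Field F]

/-- the image of `N` is not contained in a line -/
def R2 (N : Matrix ι ι F) : Prop := ∀ w : ι → F, ∃ u, ∀ t : F, N *ᵥ u ≠ t • w

theorem exists_pull_functional {N : Matrix ι ι F} (hN : R2 N) (s : ι → F) :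
    ∃ z : ι → F, z ≠ 0 ∧ ∀ v, v ⬝ᵥ z ≠ 0 → ∀ t : F, N *ᵥ v ≠ t • s := by
  obtain ⟨u, hu⟩ := hN s
  obtain ⟨ρ, h1, h2⟩ := exists_dot_single hu
  refine ⟨ρ ᵥ* N, fun e => ?_, fun v hv t e => hv ?_⟩
  · rw [dotProduct_mulVec, e, zero_dotProduct] at h2
    exact zero_ne_one h2
  · rw [dotProduct_comm, ← dotProduct_mulVec, e, dotProduct_smul, h1, smul_zero]

/-- choice of the vector when `1` is not an eigenvalue -/
theorem exists_vec_nonsing (h4 : Four F) {N : Matrix ι ι F} (hN : R2 N)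
    (hs : ∀ c : F, N ≠ c • 1) (s : ι → F) {r : ι → F} (hr : r ≠ 0) :
    ∃ v, v ⬝ᵥ r ≠ 0 ∧ (∀ t : F, N *ᵥ v ≠ t • s) ∧ ∀ c : F, N *ᵥ v ≠ c • v := by
  obtain ⟨z, hz, hz'⟩ := exists_pull_functional hN s
  by_contra hcon
  push Not at hcon
  obtain ⟨x, x1, x2, -⟩ := exists_avoid_three h4 hr hz hz
  obtain ⟨l, hl⟩ := hcon x x1 (hz' x x2)
  obtain ⟨i, j, hij⟩ : ∃ i j, (N - l • 1) i j ≠ 0 := by
    by_contra h
    push Not at h
    exact hs l (sub_eq_zero.1 (Matrix.ext h))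
  obtain ⟨y, y1, y2, y3⟩ := exists_avoid_three h4 hr hz (c := (N - l • 1) i)
    (Function.ne_iff.2 ⟨j, hij⟩)
  obtain ⟨m, hm⟩ := hcon y y1 (hz' y y2)
  have y4 : ((N - l • 1) *ᵥ y) i ≠ 0 := by rwa [dotProduct_comm] at y3
  have hml : m - l ≠ 0 := by
    rintro e
    rw [sub_mulVec, hm, smul_mulVec, one_mulVec, ← sub_smul, e, zero_smul] at y4
    exact y4 rfl
  obtain ⟨a, ha⟩ := exists_root_lin (a := x ⬝ᵥ r) (b := y ⬝ᵥ r) (Or.inl x1)
  obtain ⟨b, hb⟩ := exists_root_lin (a := x ⬝ᵥ z) (b := y ⬝ᵥ z) (Or.inl x2)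
  obtain ⟨t, t1, t2, t3⟩ := h4 a b 0
  obtain ⟨c, hc⟩ := hcon (x + t • y) (by simpa [add_dotProduct] using ha t t1)
    (hz' _ (by simpa [add_dotProduct] using hb t t2))
  have hx0 : x ≠ 0 := by rintro rfl; simp at x1
  have hyx : ∀ e : F, y ≠ e • x := by
    rintro e rfl
    rw [sub_mulVec, mulVec_smul, hl, smul_mulVec, one_mulVec, smul_comm, sub_self] at y4
    exact y4 rfl
  rw [mulVec_add, mulVec_smul, hl, hm] at hc
  have := indep_pair hx0 hyx (a := l - c) (b := t * (m - c)) (by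
    rw [← sub_eq_zero] at hc
    rw [← hc]; module)
  have h1 := (mul_eq_zero.1 this.2).resolve_left t3
  exact hml (by linear_combination h1 - this.1)

/-- the residual map of the Schur complement -/
theorem resid_eq {N : Matrix ι ι F} (v φ u : ι → F) (hu : φ ⬝ᵥ u = 0) :
    (N + 1) *ᵥ u - (φ ⬝ᵥ ((N + 1) *ᵥ u)) • (N + 1) *ᵥ v - u =
      N *ᵥ u - (φ ⬝ᵥ (N *ᵥ u)) • (v + N *ᵥ v) := by
  rw [add_mulVec, add_mulVec, one_mulVec, one_mulVec, dotProduct_add, hu, add_zero]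
  module

theorem det_of_span_three (hn : 3 ≤ Fintype.card ι) {N : Matrix ι ι F} {a b c : ι → F}
    (hspan : ∀ u, ∃ x y z : F, u = x • a + y • b + z • c) (T : Matrix (Fin 3) (Fin 3) F)
    (ha : N *ᵥ a = T 0 0 • a + T 1 0 • b + T 2 0 • c)
    (hb : N *ᵥ b = T 0 1 • a + T 1 1 • b + T 2 1 • c)
    (hc : N *ᵥ c = T 0 2 • a + T 1 2 • b + T 2 2 • c) : N.det = T.det := by
  let G : Matrix ι (Fin 3) F := of fun i j => ![a, b, c] j i
  have hG : ∀ w : Fin 3 → F, G *ᵥ w = w 0 • a + w 1 • b + w 2 • c := fun w => by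
    ext i; simp [G, mulVec, dotProduct, Fin.sum_univ_three, mul_comm]
  have hsurj : Function.Surjective G.mulVecLin := fun u => by
    obtain ⟨x, y, z, h⟩ := hspan u
    exact ⟨![x, y, z], by rw [mulVecLin_apply, hG, h]; rfl⟩
  have hcard : Fintype.card ι = 3 := by
    have := LinearMap.finrank_le_finrank_of_surjective hsurj
    simp at this
    omega
  let e := Fintype.equivFinOfCardEq hcard
  have hG' : IsUnit (G.submatrix e.symm id) := by
    rw [← mulVec_surjective_iff_isUnit]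
    intro u
    obtain ⟨w, hw⟩ := hsurj (u ∘ e)
    refine ⟨w, ?_⟩
    ext i
    have := congrFun hw (e.symm i)
    rw [Function.comp_apply, Equiv.apply_symm_apply] at this
    exact this
  have h1 : N.submatrix e.symm e.symm * G.submatrix e.symm id = G.submatrix e.symm id * T := by
    rw [submatrix_mul_equiv, ← submatrix_id_id T, ← Equiv.coe_refl, submatrix_mul_equiv]
    congr 1
    ext i j
    have h2 : (G * T) i j = (G *ᵥ fun k => T k j) i := rfl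
    rw [h2, hG]
    fin_cases j
    exacts [congrFun ha i, congrFun hb i, congrFun hc i]
  have h2 := congrArg det h1
  rw [det_mul, det_mul, det_submatrix_equiv_self, mul_comm] at h2
  exact mul_left_cancel₀ ((isUnit_iff_isUnit_det _).1 hG').ne_zero h2

theorem reg_step (h4 : Four F) (hn : 3 ≤ Fintype.card ι) {N : Matrix ι ι F}
    (hdet : (N + 1).det = 1) (hs : ∀ c : F, N ≠ c • 1) (hN : R2 N) {s r : ι → F} (hs0 : s ≠ 0)
    (hr : r ≠ 0) :
    ∃ v φ : ι → F, φ ⬝ᵥ v = 1 ∧ φ ⬝ᵥ (N *ᵥ v) = 0 ∧ φ ⬝ᵥ s ≠ 0 ∧ v ⬝ᵥ r ≠ 0 ∧ N *ᵥ v ≠ 0 ∧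
      φ ᵥ* N ≠ 0 ∧ (¬ ∃ c : F, ∀ u, φ ⬝ᵥ u = 0 →
        (N + 1) *ᵥ u - ((1 : F)⁻¹ * φ ⬝ᵥ ((N + 1) *ᵥ u)) • (N + 1) *ᵥ v = c • u) ∧
      ∀ w, ∃ u, φ ⬝ᵥ u = 0 ∧ ∀ t : F, N *ᵥ u - (φ ⬝ᵥ (N *ᵥ u)) • (v + N *ᵥ v) ≠ t • w := by
  have hdet0 : (N + 1).det ≠ 0 := by rw [hdet]; exact one_ne_zero
  have hg : ∀ {v : ι → F}, (∀ c : F, N *ᵥ v ≠ c • v) → Gen (pairSet v (N *ᵥ v))
      (fun φ => ¬ ∃ c : F, ∀ u, φ ⬝ᵥ u = 0 →
        (N + 1) *ᵥ u - ((1 : F)⁻¹ * φ ⬝ᵥ ((N + 1) *ᵥ u)) • (N + 1) *ᵥ v = c • u) := by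
    intro v hv
    have := gen_not_scalar hn hdet0 (v := v) (fun c e => hv (c - 1) (by
      rw [sub_smul, ← e, add_mulVec, one_mulVec, one_smul, add_sub_cancel_right])) one_ne_zero
    rwa [show (N + 1) *ᵥ v - (1 : F) • v = N *ᵥ v by simp [add_mulVec]] at this
  have hc : ∀ {v : ι → F}, (∀ c : F, N *ᵥ v ≠ c • v) → (∀ t : F, N *ᵥ v ≠ t • s) →
      Gen (pairSet v (N *ᵥ v)) (fun φ => φ ⬝ᵥ s ≠ 0) := by
    intro v hv hvs
    refine gen_pairSet (by rintro rfl; exact hv 0 (by simp)) hv fun t e => ?_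
    rw [zero_smul, zero_add] at e
    exact not_smul_symm hs0 hvs t e
  have hT : ∀ {v φ w : ι → F}, φ ⬝ᵥ v = 1 → φ ⬝ᵥ (N *ᵥ v) = 0 →
      (∀ u, φ ⬝ᵥ u = 0 → ∃ t : F, N *ᵥ u - (φ ⬝ᵥ (N *ᵥ u)) • (v + N *ᵥ v) = t • w) →
      ∀ u, ∃ t : F, N *ᵥ u = (φ ⬝ᵥ (N *ᵥ u)) • v + (φ ⬝ᵥ u + φ ⬝ᵥ (N *ᵥ u)) • N *ᵥ v + t • w := by
    intro v φ w p1 p2 h u
    obtain ⟨t, ht⟩ := h (u - (φ ⬝ᵥ u) • v) (by simp [dotProduct_sub, p1])
    refine ⟨t, ?_⟩
    rw [← ht, mulVec_sub, mulVec_smul, dotProduct_sub, dotProduct_smul, p2]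
    module
  by_cases h0 : N.det = 0
  · obtain ⟨k₀, hk₀, hk⟩ := exists_mulVec_eq_zero_iff.2 h0
    obtain ⟨ρ, hρ, hρ'⟩ := exists_vecMul_eq_zero_iff.2 h0
    have hρN : ∀ u, ρ ⬝ᵥ (N *ᵥ u) = 0 := fun u => by rw [dotProduct_mulVec, hρ', zero_dotProduct]
    obtain ⟨z, hz, hz'⟩ := exists_pull_functional hN s
    obtain ⟨v, v1, v2, v3, k, k1, k2⟩ : ∃ v, v ⬝ᵥ r ≠ 0 ∧ v ⬝ᵥ z ≠ 0 ∧ v ⬝ᵥ ρ ≠ 0 ∧
        ∃ k, N *ᵥ k = 0 ∧ ∀ t : F, k ≠ t • N *ᵥ v := by
      by_cases h2 : N * N = 0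
      · obtain ⟨v, v1, v2, v3⟩ := exists_avoid_three h4 hr hz hρ
        obtain ⟨u, hu⟩ := hN (N *ᵥ v)
        exact ⟨v, v1, v2, v3, N *ᵥ u, by rw [mulVec_mulVec, h2, zero_mulVec], hu⟩
      · obtain ⟨i, j, hij⟩ : ∃ i j, (N * N) i j ≠ 0 := by
          by_contra h
          push Not at h
          exact h2 (Matrix.ext h)
        obtain ⟨v, v1, v2, v3, v4⟩ := exists_avoid_four h4 hr hz hρ (d := (N * N) i)
          (Function.ne_iff.2 ⟨j, hij⟩)
        refine ⟨v, v1, v2, v3, k₀, hk, fun t e => v4 ?_⟩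
        have ht : t ≠ 0 := by rintro rfl; exact hk₀ (by simpa using e)
        rw [e, mulVec_smul, mulVec_mulVec, smul_eq_zero] at hk
        rw [dotProduct_comm]
        exact congrFun (hk.resolve_left ht) i
    rw [dotProduct_comm] at v3
    have v4 := hz' v v2
    have v5 : N *ᵥ v ≠ 0 := by simpa using v4 0
    have v6 : ∀ c : F, N *ᵥ v ≠ c • v := fun c e => by
      have := hρN v
      rw [e, dotProduct_smul, smul_eq_mul, mul_eq_zero] at this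
      exact v5 (by rw [e, this.resolve_right v3, zero_smul])
    have v0 : v ≠ 0 := by rintro rfl; simp at v5
    have hf : Gen (pairSet v (N *ᵥ v)) (fun φ => φ ᵥ* N ≠ 0) := by
      obtain ⟨u, hu⟩ := hN (N *ᵥ v)
      refine (gen_pairSet v0 v6 (y := N *ᵥ u) (c := 0) (by simpa using hu)).mono ?_
      intro φ _ h e
      exact h (by rw [dotProduct_mulVec, e, zero_dotProduct])
    have hh : ∀ φ ∈ pairSet v (N *ᵥ v), φ ᵥ* N ≠ 0 → ∀ k, N *ᵥ k = 0 → φ ⬝ᵥ k ≠ 0 →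
        ∀ w, ∃ u, φ ⬝ᵥ u = 0 ∧ ∀ t : F, N *ᵥ u - (φ ⬝ᵥ (N *ᵥ u)) • (v + N *ᵥ v) ≠ t • w := by
      rintro φ ⟨p1, p2⟩ hφ k k1 k2 w
      by_contra hcon
      push Not at hcon
      obtain ⟨u, hu⟩ := exists_dot_ne_zero' hφ
      rw [dotProduct_comm, ← dotProduct_mulVec] at hu
      obtain ⟨t, ht⟩ := hT p1 p2 hcon u
      obtain ⟨t', ht'⟩ := hT p1 p2 hcon k
      have e1 := congrArg (ρ ⬝ᵥ ·) ht
      have e2 := congrArg (ρ ⬝ᵥ ·) ht'
      simp only [k1, dotProduct_add, dotProduct_smul, hρN, smul_eq_mul, mul_zero, add_zero,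
        dotProduct_zero, zero_mul, zero_add] at e1 e2
      have hw : ρ ⬝ᵥ w ≠ 0 := fun e => by
        rw [e, mul_zero, add_zero] at e1
        exact mul_ne_zero hu v3 e1.symm
      rw [k1, (mul_eq_zero.1 e2.symm).resolve_right hw] at ht'
      simp only [dotProduct_zero, zero_smul, add_zero, zero_add] at ht'
      exact v5 ((smul_eq_zero.1 ht'.symm).resolve_left k2)
    by_cases hbad : ∃ φ ∈ pairSet v (N *ᵥ v), ∃ c : F, ∀ u, φ ⬝ᵥ u = 0 →
        (N + 1) *ᵥ u - ((1 : F)⁻¹ * φ ⬝ᵥ ((N + 1) *ᵥ u)) • (N + 1) *ᵥ v = c • u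
    · obtain ⟨φ₁, ⟨q1, q2⟩, c, hc1⟩ := hbad
      have hc2 : ∀ u, φ₁ ⬝ᵥ u = 0 → N *ᵥ u = (c - 1) • u + (φ₁ ⬝ᵥ (N *ᵥ u)) • (v + N *ᵥ v) := by
        intro u hu
        have := resid_eq (N := N) v φ₁ u hu
        have h' := hc1 u hu
        rw [inv_one, one_mul] at h'
        rw [h'] at this
        rw [sub_smul, one_smul, this]; abel
      have hc3 : ∀ u, φ₁ ⬝ᵥ u = 0 → ρ ⬝ᵥ u = 0 ∨ c - 1 = 0 → N *ᵥ u = (c - 1) • u := by
        intro u hu h
        have e1 := congrArg (ρ ⬝ᵥ ·) (hc2 u hu)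
        have h' : (c - 1) * ρ ⬝ᵥ u = 0 := by rcases h with h | h <;> simp [h]
        simp only [dotProduct_add, dotProduct_smul, hρN, smul_eq_mul, add_zero, h', zero_add] at e1
        rw [hc2 u hu, (mul_eq_zero.1 e1.symm).resolve_right v3, zero_smul, add_zero]
      have hc4 : c - 1 ≠ 0 := fun e => by
        obtain ⟨u, hu⟩ := hN (N *ᵥ v)
        have := hc3 (u - (φ₁ ⬝ᵥ u) • v) (by simp [dotProduct_sub, q1]) (Or.inr e)
        rw [e, zero_smul, mulVec_sub, mulVec_smul, sub_eq_zero] at this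
        exact hu _ this
      obtain ⟨φ, hφ, g1, g2, g3⟩ := Gen.exists_three h4 (pairSet_line _ _) (hc v6 v4) hf (hg v6)
      refine ⟨v, φ, hφ.1, hφ.2, g1, v1, v5, g2, g3, hh φ hφ g2 (v - (c - 1)⁻¹ • N *ᵥ v) ?_ ?_⟩
      · rw [mulVec_sub, mulVec_smul, hc3 _ q2 (Or.inl (hρN v)), smul_smul, inv_mul_cancel₀ hc4,
          one_smul, sub_self]
      · simp [dotProduct_sub, hφ.1, hφ.2]
    · obtain ⟨φ, hφ, g1, g2, g3⟩ := Gen.exists_three h4 (pairSet_line _ _) (hc v6 v4) hf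
        (gen_pairSet v0 v6 (y := k) (c := 0) (by simpa using k2))
      exact ⟨v, φ, hφ.1, hφ.2, g1, v1, v5, g2, fun h => hbad ⟨φ, hφ, h⟩, hh φ hφ g2 k k1 g3⟩
  · obtain ⟨v, v1, v4, v6⟩ := exists_vec_nonsing h4 hN hs s hr
    have v0 : v ≠ 0 := by rintro rfl; exact v6 0 (by simp)
    obtain ⟨u₀, hu₀⟩ := exists_mulVec_eq_of_det h0 v
    have hspan : ∀ {φ w : ι → F}, φ ⬝ᵥ v = 1 → φ ⬝ᵥ (N *ᵥ v) = 0 →
        (∀ u, φ ⬝ᵥ u = 0 → ∃ t : F, N *ᵥ u - (φ ⬝ᵥ (N *ᵥ u)) • (v + N *ᵥ v) = t • w) →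
        ∀ u, ∃ x y z : F, u = x • v + y • N *ᵥ v + z • w := by
      intro φ w p1 p2 h u
      obtain ⟨u, rfl⟩ := exists_mulVec_eq_of_det h0 u
      obtain ⟨t, ht⟩ := hT p1 p2 h u
      exact ⟨_, _, _, ht⟩
    have hh : Gen (pairSet v (N *ᵥ v)) (fun φ =>
        ∀ w, ∃ u, φ ⬝ᵥ u = 0 ∧ ∀ t : F, N *ᵥ u - (φ ⬝ᵥ (N *ᵥ u)) • (v + N *ᵥ v) ≠ t • w) := by
      by_cases hy : ∀ t : F, u₀ ≠ (-1 : F) • v + t • N *ᵥ v
      · refine (gen_pairSet v0 v6 hy).mono ?_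
        rintro φ ⟨p1, p2⟩ hφ w
        by_contra hcon
        push Not at hcon
        obtain ⟨t, ht⟩ := hT p1 p2 hcon u₀
        rw [hu₀, p1, one_smul, add_assoc, left_eq_add] at ht
        have h1 : φ ⬝ᵥ u₀ + 1 ≠ 0 := fun e => hφ (by linear_combination e)
        have h2 : t ≠ 0 := by
          rintro rfl
          rw [zero_smul, add_zero, smul_eq_zero] at ht
          exact v6 0 (by simpa using ht.resolve_left h1)
        obtain ⟨y, hy'⟩ := exists_not_comb_pair hn v (N *ᵥ v)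
        obtain ⟨a, b, c, e⟩ := hspan p1 p2 hcon y
        apply hy' a (b - c * t⁻¹ * (φ ⬝ᵥ u₀ + 1))
        have h3 : w = t⁻¹ • (t • w) := by rw [smul_smul, inv_mul_cancel₀ h2, one_smul]
        rw [e, h3, eq_neg_of_add_eq_zero_right ht]
        module
      · push Not at hy
        obtain ⟨y, hy⟩ := hy
        refine Gen.of_forall (pairSet_nonempty v0 v6) ?_
        rintro φ ⟨p1, p2⟩ w
        by_contra hcon
        push Not at hcon
        have h1 : y • N *ᵥ (N *ᵥ v) = v + N *ᵥ v := by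
          rw [hy, mulVec_add, mulVec_smul, mulVec_smul] at hu₀
          rw [← eq_sub_iff_add_eq'] at hu₀
          rw [hu₀]; module
        have h2 : y ≠ 0 := by
          rintro rfl
          rw [zero_smul] at h1
          exact v6 (-1) (by rw [neg_smul, one_smul, eq_neg_iff_add_eq_zero, add_comm, ← h1])
        have h3 : N *ᵥ (N *ᵥ v) = y⁻¹ • v + y⁻¹ • N *ᵥ v := by
          rw [← smul_add, ← h1, smul_smul, inv_mul_cancel₀ h2, one_smul]
        obtain ⟨a, b, c, e⟩ := hspan p1 p2 hcon (N *ᵥ w)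
        have d1 := det_of_span_three hn (N := N) (hspan p1 p2 hcon) !![0, y⁻¹, a; 1, y⁻¹, b; 0, 0, c]
          (by simp) (by simpa using h3) (by simpa using e)
        have d2 := det_of_span_three hn (N := N + 1) (hspan p1 p2 hcon)
          !![1, y⁻¹, a; 1, y⁻¹ + 1, b; 0, 0, c + 1] (by simp [add_mulVec, add_comm])
          (by rw [add_mulVec, h3]; simp [add_smul, add_assoc])
          (by simp [add_mulVec, e, add_smul, add_assoc])
        rw [hdet] at d2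
        simp [det_fin_three] at d1 d2
        apply h0
        rw [d1, show c = 0 by linear_combination -d2]
        simp
    obtain ⟨φ, hφ, g1, g2, g3⟩ := Gen.exists_three h4 (pairSet_line _ _) (hc v6 v4) hh (hg v6)
    refine ⟨v, φ, hφ.1, hφ.2, g1, v1, by simpa using v6 0, fun e => ?_, g3, g2⟩
    have := hφ.1
    rw [← hu₀, dotProduct_mulVec, e, zero_dotProduct] at this
    exact zero_ne_one this

theorem reg_base (h4 : Four F) {N : Matrix (Fin 2) (Fin 2) F} (hs : ∀ c : F, N ≠ c • 1)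
    (hN : R2 N) {s r : Fin 2 → F} (hs0 : s ≠ 0) (hr : r ≠ 0) :
    ∃ v φ : Fin 2 → F, φ ⬝ᵥ v = 1 ∧ φ ⬝ᵥ (N *ᵥ v) = 0 ∧ φ ⬝ᵥ s ≠ 0 ∧ v ⬝ᵥ r ≠ 0 ∧ N *ᵥ v ≠ 0 ∧
      φ ᵥ* N ≠ 0 := by
  have h0 : N.det ≠ 0 := by
    intro h0
    rw [det_fin_two] at h0
    obtain ⟨u, hu⟩ := hN (fun i => N i 0)
    obtain ⟨u', hu'⟩ := hN (fun i => N i 1)
    by_cases h1 : N 0 0 = 0
    · by_cases h2 : N 1 0 = 0
      · apply hu' (u' 1)
        ext i; fin_cases i <;> simp [mulVec, dotProduct, h1, h2, mul_comm]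
      · apply hu (u 0 + u 1 * N 1 1 / N 1 0)
        ext i; fin_cases i <;> simp [mulVec, dotProduct] <;> field_simp
        linear_combination (-u 1) * h0
    · apply hu (u 0 + u 1 * N 0 1 / N 0 0)
      ext i; fin_cases i <;> simp [mulVec, dotProduct] <;> field_simp
      linear_combination (u 1) * h0
  obtain ⟨v, v1, v4, v6⟩ := exists_vec_nonsing h4 hN hs s hr
  have v0 : v ≠ 0 := by rintro rfl; exact v6 0 (by simp)
  obtain ⟨u₀, hu₀⟩ := exists_mulVec_eq_of_det h0 v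
  obtain ⟨φ, hφ, g1⟩ := (gen_pairSet v0 v6 (y := s) (c := 0) fun t e => by
    rw [zero_smul, zero_add] at e
    exact not_smul_symm hs0 v4 t e).exists
  refine ⟨v, φ, hφ.1, hφ.2, g1, v1, by simpa using v6 0, fun e => ?_⟩
  have := hφ.1
  rw [← hu₀, dotProduct_mulVec, e, zero_dotProduct] at this
  exact zero_ne_one this

end Step

variable {F : Type*} [Field F] {n : ℕ}

theorem cons_zero_smul (t : F) (w : Fin n → F) :
    (Fin.cons 0 (t • w) : Fin (n + 1) → F) = t • Fin.cons 0 w := by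
  ext i
  refine Fin.cases ?_ (fun i => ?_) i <;> simp

theorem cons_zero_sub (u w : Fin n → F) :
    (Fin.cons 0 (u - w) : Fin (n + 1) → F) = Fin.cons 0 u - Fin.cons 0 w := by
  ext i
  refine Fin.cases ?_ (fun i => ?_) i <;> simp

/-- factorisation into a lower and an upper regular unipotent matrix -/
theorem regLU (h4 : Four F) (A : Matrix (Fin (n + 1)) (Fin (n + 1)) F) (hdet : A.det = 1)
    (hA : 1 ≤ n → (∀ c : F, A ≠ c • 1) ∧ R2 (A - 1)) {s r : Fin (n + 1) → F} (hs : s ≠ 0)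
    (hr : r ≠ 0) :
    ∃ g L U, IsLU A (fun _ => 1) (fun _ => 1) g L U ∧
      (∀ i j : Fin (n + 1), i.val = j.val + 1 → L i j ≠ 0 ∧ U j i ≠ 0) ∧
      ((g⁻¹).1 *ᵥ s) 0 ≠ 0 ∧ (r ᵥ* g.1) 0 ≠ 0 := by
  induction n with
  | zero =>
    obtain ⟨g, L, U, h⟩ := sourour A (fun _ => 1) (fun _ => 1) (by simp) (by simp)
      (by simpa using hdet) (by simp)
    have hg : g = 1 := by
      ext i j
      fin_cases i; fin_cases j
      simpa using g.2
    subst hg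
    refine ⟨1, L, U, h, fun i j hij => absurd i.2 (by omega), ?_, ?_⟩
    · intro e; apply hs; ext i; fin_cases i; simpa using e
    · intro e; apply hr; ext i; fin_cases i; simpa using e
  | succ n ih =>
    obtain ⟨hA1, hA2⟩ := hA (by omega)
    obtain ⟨N, rfl⟩ : ∃ N, A = N + 1 := ⟨A - 1, by simp⟩
    rw [add_sub_cancel_right] at hA2
    have hN : ∀ c : F, N ≠ c • 1 := fun c e => hA1 (c + 1) (by rw [e, add_smul, one_smul])
    obtain ⟨v, φ, p1, p2, p3, p4, p5, p6, p7⟩ : ∃ v φ : Fin (n + 2) → F, φ ⬝ᵥ v = 1 ∧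
        φ ⬝ᵥ (N *ᵥ v) = 0 ∧ φ ⬝ᵥ s ≠ 0 ∧ v ⬝ᵥ r ≠ 0 ∧ N *ᵥ v ≠ 0 ∧ φ ᵥ* N ≠ 0 ∧ (1 ≤ n →
        (¬ ∃ c : F, ∀ u, φ ⬝ᵥ u = 0 →
          (N + 1) *ᵥ u - ((1 : F)⁻¹ * φ ⬝ᵥ ((N + 1) *ᵥ u)) • (N + 1) *ᵥ v = c • u) ∧
        ∀ w, ∃ u, φ ⬝ᵥ u = 0 ∧ ∀ t : F, N *ᵥ u - (φ ⬝ᵥ (N *ᵥ u)) • (v + N *ᵥ v) ≠ t • w) := by
      rcases Nat.eq_zero_or_pos n with rfl | hn
      · obtain ⟨v, φ, h⟩ := reg_base h4 hN hA2 hs hr
        exact ⟨v, φ, h.1, h.2.1, h.2.2.1, h.2.2.2.1, h.2.2.2.2.1, h.2.2.2.2.2, by simp⟩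
      · obtain ⟨v, φ, h⟩ := reg_step h4 (by simp; omega) hdet hN hA2 hs hr
        exact ⟨v, φ, h.1, h.2.1, h.2.2.1, h.2.2.2.1, h.2.2.2.2.1, h.2.2.2.2.2.1,
          fun _ => h.2.2.2.2.2.2⟩
    obtain ⟨k, k1, k2⟩ := exists_SL_pair (by omega) p1
    have p8 : φ ⬝ᵥ ((N + 1) *ᵥ v) = 1 := by
      rw [add_mulVec, one_mulVec, dotProduct_add, p1, p2, zero_add]
    have hk0 : ((k⁻¹).1 * (N + 1) * k.1) 0 0 = 1 := by rw [pair_corner k1 k2, p8]
    obtain ⟨g, L, U, h, h1, h2, h3⟩ := ih (schur ((k⁻¹).1 * (N + 1) * k.1)) (by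
        have := det_eq_schur (A := (k⁻¹).1 * (N + 1) * k.1) (by rw [hk0]; exact one_ne_zero)
        rw [det_conj_SL, hdet, hk0, one_mul] at this
        exact this.symm)
      (fun hn => ⟨schur_not_scalar k1 k2 one_ne_zero p8 (p7 hn).1, fun w => by
        obtain ⟨u, u1, u2⟩ := (p7 hn).2 (k.1 *ᵥ Fin.cons 0 w)
        obtain ⟨u, rfl⟩ := pair_ker k2 u1
        refine ⟨u, fun t e => u2 t ?_⟩
        rw [← resid_eq v φ _ u1, ← mulVec_smul k.1, ← cons_zero_smul, ← e, sub_mulVec, one_mulVec,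
          cons_zero_sub, mulVec_sub, pair_schur k1 k2 (by rw [p8]; exact one_ne_zero), p8, inv_one,
          one_mul]⟩)
      (s := fun i => ((k⁻¹).1 * (N + 1) * k.1) i.succ 0)
      (r := fun j => ((k⁻¹).1 * (N + 1) * k.1) 0 j.succ)
      (fun e => p5 (by
        have h1 : ((k⁻¹).1 * (N + 1) * k.1) *ᵥ Pi.single 0 1 = Pi.single 0 1 := by
          ext i
          refine Fin.cases ?_ (fun i => ?_) i
          · simpa using hk0
          · simpa using congrFun e i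
        have h2 := pair_mulVec (N + 1) k (Pi.single 0 1)
        rw [h1, k1, add_mulVec, one_mulVec] at h2
        exact add_eq_right.1 h2.symm))
      (fun e => p6 (by
        have h1 : Pi.single 0 1 ᵥ* ((k⁻¹).1 * (N + 1) * k.1) = Pi.single 0 1 := by
          ext i
          refine Fin.cases ?_ (fun i => ?_) i
          · simpa using hk0
          · simpa using congrFun e i
        rw [← vecMul_vecMul, ← vecMul_vecMul, vecMul_inv_of_eq k2] at h1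
        have h2 := vecMul_inv_of_eq h1
        rw [vecMul_inv_of_eq k2, vecMul_add, vecMul_one] at h2
        exact add_eq_right.1 h2.symm))
    refine ⟨_, _, _, (IsLU.bord (β := fun _ => 1) (γ := fun _ => 1) one_ne_zero one_ne_zero
      (by rw [hk0, one_mul]) h).conj k, ?_, ?_, ?_⟩
    · intro i j
      refine Fin.cases ?_ (fun i => ?_) i <;> refine Fin.cases ?_ (fun j => ?_) j <;> intro hij
      · simp at hij
      · simp at hij
      · have : i = 0 := Fin.ext (by simpa using hij)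
        subst this
        rw [bord_succ_zero, bord_zero_succ, inv_one, one_smul, one_smul]
        exact ⟨h2, h3⟩
      · exact h1 i j (by simpa using hij)
    · rw [_root_.mul_inv_rev, Matrix.SpecialLinearGroup.coe_mul, ← mulVec_mulVec, coe_oneSum_inv,
        ← Fin.cons_self_tail ((k⁻¹).1 *ᵥ s), bord_mulVec, pair_inv_zero k2]
      simpa using p3
    · rw [Matrix.SpecialLinearGroup.coe_mul, ← vecMul_vecMul, coe_oneSum,
        ← Fin.cons_self_tail (r ᵥ* k.1), vecMul_bord]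
      rw [← k1, dotProduct_comm, dotProduct_mulVec] at p4
      simpa using p4

end Cfsg.Agent.SLn
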