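import Cfsg.Agent.Lib.SLn.Bord

/-!
# Sourour's factorisation theorem
-/

set_option autoImplicit false

namespace Cfsg.Agent.SLn

open Matrix

section Avoid

variable {ι F : Type*} [Fintype ι] [DecidableEq ι] [Field F]

/-- the field has at least four elements -/
def Four (F : Type*) : Prop := ∀ x y z : F, ∃ t, t ≠ x ∧ t ≠ y ∧ t ≠ z

theorem four_of_cardinal {K : Type*} (h : 4 ≤ Cardinal.mk K) : Four K := by
  classical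
  intro x y z
  by_contra hc
  push Not at hc
  have h1 : (Set.univ : Set K) ⊆ (({x, y, z} : Finset K) : Set K) := by
    intro t _
    by_cases h1 : t = x
    · simp [h1]
    by_cases h2 : t = y
    · simp [h2]
    simp [hc t h1 h2]
  have h2 := Cardinal.mk_le_mk_of_subset h1
  rw [Cardinal.mk_univ, Finset.coe_sort_coe, Cardinal.mk_coe_finset] at h2
  have h3 : ({x, y, z} : Finset K).card ≤ 3 := Finset.card_le_three
  have h4 := h.trans h2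
  norm_cast at h4
  omega

theorem four_of_card {K : Type*} [Fintype K] (h : 4 ≤ Fintype.card K) : Four K := by
  apply four_of_cardinal
  rw [Cardinal.mk_fintype]
  exact_mod_cast h

theorem exists_root_lin {a b : F} (h : a ≠ 0 ∨ b ≠ 0) : ∃ x, ∀ t, t ≠ x → a + t * b ≠ 0 := by
  by_cases hb : b = 0
  · refine ⟨0, fun t _ => ?_⟩
    rw [hb, mul_zero, add_zero]
    exact h.resolve_right (not_not.2 hb)
  · refine ⟨-a / b, fun t ht e => ht ?_⟩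
    rw [eq_div_iff hb]
    linear_combination e

/-- `P` holds on `Φ` outside a proper affine hyperplane section -/
def Gen (Φ : Set (ι → F)) (P : (ι → F) → Prop) : Prop :=
  ∃ z c, (∃ φ ∈ Φ, φ ⬝ᵥ z ≠ c) ∧ ∀ φ ∈ Φ, φ ⬝ᵥ z ≠ c → P φ

omit [DecidableEq ι] in
theorem Gen.of_forall {Φ : Set (ι → F)} {P : (ι → F) → Prop} (h0 : Φ.Nonempty)
    (h : ∀ φ ∈ Φ, P φ) : Gen Φ P := by
  obtain ⟨φ, hφ⟩ := h0
  exact ⟨0, 1, ⟨φ, hφ, by simp⟩, fun φ hφ _ => h φ hφ⟩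

omit [DecidableEq ι] in
theorem Gen.exists {Φ : Set (ι → F)} {P : (ι → F) → Prop} (h : Gen Φ P) : ∃ φ ∈ Φ, P φ := by
  obtain ⟨z, c, ⟨φ, h1, h2⟩, h3⟩ := h
  exact ⟨φ, h1, h3 φ h1 h2⟩

omit [DecidableEq ι] in
theorem Gen.mono {Φ : Set (ι → F)} {P Q : (ι → F) → Prop} (h : Gen Φ P)
    (hPQ : ∀ φ ∈ Φ, P φ → Q φ) : Gen Φ Q := by
  obtain ⟨z, c, h1, h3⟩ := h
  exact ⟨z, c, h1, fun φ hφ h => hPQ φ hφ (h3 φ hφ h)⟩

omit [DecidableEq ι] in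
theorem line_root {φ ψ z : ι → F} {c : F} (h : φ ⬝ᵥ z ≠ c ∨ ψ ⬝ᵥ z ≠ c) :
    ∃ x : F, ∀ t : F, t ≠ x → (φ + t • (ψ - φ)) ⬝ᵥ z ≠ c := by
  obtain ⟨x, hx⟩ := exists_root_lin (a := φ ⬝ᵥ z - c) (b := ψ ⬝ᵥ z - φ ⬝ᵥ z) (by
    by_cases h1 : φ ⬝ᵥ z = c
    · right; rw [h1]; exact sub_ne_zero.2 (h.resolve_left (not_not.2 h1))
    · left; exact sub_ne_zero.2 h1)
  refine ⟨x, fun t ht e => hx t ht ?_⟩
  rw [add_dotProduct, smul_dotProduct, sub_dotProduct, smul_eq_mul] at e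
  linear_combination e

omit [DecidableEq ι] in
theorem Gen.exists_three (h4 : Four F) {Φ : Set (ι → F)}
    (hΦ : ∀ φ ∈ Φ, ∀ ψ ∈ Φ, ∀ t : F, φ + t • (ψ - φ) ∈ Φ) {P Q R : (ι → F) → Prop}
    (hP : Gen Φ P) (hQ : Gen Φ Q) (hR : Gen Φ R) : ∃ φ ∈ Φ, P φ ∧ Q φ ∧ R φ := by
  obtain ⟨z1, c1, ⟨φ1, m1, n1⟩, p1⟩ := hP
  obtain ⟨z2, c2, ⟨φ2, m2, n2⟩, p2⟩ := hQ
  obtain ⟨z3, c3, ⟨φ3, m3, n3⟩, p3⟩ := hR
  obtain ⟨x1, hx1⟩ := line_root (ψ := φ2) (Or.inl n1)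
  obtain ⟨x2, hx2⟩ := line_root (φ := φ1) (Or.inr n2)
  obtain ⟨t, t1, t2, -⟩ := h4 x1 x2 x2
  obtain ⟨y1, hy1⟩ := line_root (ψ := φ3) (Or.inl (hx1 t t1))
  obtain ⟨y2, hy2⟩ := line_root (ψ := φ3) (Or.inl (hx2 t t2))
  obtain ⟨y3, hy3⟩ := line_root (φ := φ1 + t • (φ2 - φ1)) (Or.inr n3)
  obtain ⟨s, s1, s2, s3⟩ := h4 y1 y2 y3
  have hm := hΦ _ (hΦ _ m1 _ m2 t) _ m3 s
  exact ⟨_, hm, p1 _ hm (hy1 s s1), p2 _ hm (hy2 s s2), p3 _ hm (hy3 s s3)⟩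

theorem exists_dot_ne_zero' {z : ι → F} (hz : z ≠ 0) : ∃ v : ι → F, v ⬝ᵥ z ≠ 0 := by
  obtain ⟨i, hi⟩ := Function.ne_iff.1 hz
  exact ⟨Pi.single i 1, by simpa using hi⟩

theorem exists_avoid_three (h4 : Four F) {a b c : ι → F} (ha : a ≠ 0) (hb : b ≠ 0) (hc : c ≠ 0) :
    ∃ v, v ⬝ᵥ a ≠ 0 ∧ v ⬝ᵥ b ≠ 0 ∧ v ⬝ᵥ c ≠ 0 := by
  have key : ∀ z : ι → F, z ≠ 0 → Gen Set.univ (fun v => v ⬝ᵥ z ≠ 0) := fun z hz =>
    ⟨z, 0, by simpa using exists_dot_ne_zero' hz, fun _ _ h => h⟩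
  obtain ⟨v, -, h⟩ := Gen.exists_three h4 (fun _ _ _ _ _ => Set.mem_univ _) (key a ha) (key b hb)
    (key c hc)
  exact ⟨v, h⟩

theorem exists_avoid_four (h4 : Four F) {a b c d : ι → F} (ha : a ≠ 0) (hb : b ≠ 0) (hc : c ≠ 0)
    (hd : d ≠ 0) : ∃ v, v ⬝ᵥ a ≠ 0 ∧ v ⬝ᵥ b ≠ 0 ∧ v ⬝ᵥ c ≠ 0 ∧ v ⬝ᵥ d ≠ 0 := by
  obtain ⟨w, w1, w2, w3⟩ := exists_avoid_three h4 ha hb hc
  by_cases h : w ⬝ᵥ d = 0
  swap
  · exact ⟨w, w1, w2, w3, h⟩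
  obtain ⟨u, hu⟩ := exists_dot_ne_zero' hd
  obtain ⟨x1, h1⟩ := exists_root_lin (a := u ⬝ᵥ a) (Or.inr w1)
  obtain ⟨x2, h2⟩ := exists_root_lin (a := u ⬝ᵥ b) (Or.inr w2)
  obtain ⟨x3, h3⟩ := exists_root_lin (a := u ⬝ᵥ c) (Or.inr w3)
  obtain ⟨t, t1, t2, t3⟩ := h4 x1 x2 x3
  refine ⟨u + t • w, ?_, ?_, ?_, ?_⟩
  · simpa [add_dotProduct] using h1 t t1
  · simpa [add_dotProduct] using h2 t t2
  · simpa [add_dotProduct] using h3 t t3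
  · simpa [add_dotProduct, h] using hu

/-- functionals with value `1` on `v` and `0` on `w` -/
def pairSet (v w : ι → F) : Set (ι → F) := {φ | φ ⬝ᵥ v = 1 ∧ φ ⬝ᵥ w = 0}

omit [DecidableEq ι] in
theorem pairSet_line (v w : ι → F) :
    ∀ φ ∈ pairSet v w, ∀ ψ ∈ pairSet v w, ∀ t : F, φ + t • (ψ - φ) ∈ pairSet v w := by
  rintro φ ⟨h1, h2⟩ ψ ⟨h3, h4⟩ t
  constructor
  · simp [add_dotProduct, sub_dotProduct, h1, h3]
  · simp [add_dotProduct, sub_dotProduct, h2, h4]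

omit [Fintype ι] [DecidableEq ι] in
theorem not_smul_symm {v w : ι → F} (hv : v ≠ 0) (h : ∀ c : F, w ≠ c • v) (s : F) :
    v ≠ s • w := by
  intro e
  have hs : s ≠ 0 := by rintro rfl; exact hv (by simpa using e)
  exact h s⁻¹ (by rw [e, smul_smul, inv_mul_cancel₀ hs, one_smul])

omit [Fintype ι] [DecidableEq ι] in
theorem indep_pair {v w : ι → F} (hv : v ≠ 0) (h : ∀ c : F, w ≠ c • v) {a b : F}
    (e : a • v + b • w = 0) : a = 0 ∧ b = 0 := by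
  have hb : b = 0 := by
    by_contra hb
    apply h (-(b⁻¹ * a))
    have : w = b⁻¹ • (b • w) := by rw [smul_smul, inv_mul_cancel₀ hb, one_smul]
    rw [this, eq_neg_of_add_eq_zero_right e]
    module
  rw [hb, zero_smul, add_zero, smul_eq_zero] at e
  exact ⟨e.resolve_right hv, hb⟩

theorem pairSet_nonempty {v w : ι → F} (hv : v ≠ 0) (h : ∀ c : F, w ≠ c • v) :
    (pairSet v w).Nonempty := by
  obtain ⟨ρ, h1, h2⟩ := exists_dot_single (not_smul_symm hv h)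
  exact ⟨ρ, h2, h1⟩

theorem gen_pairSet {v w : ι → F} (hv : v ≠ 0) (h : ∀ c : F, w ≠ c • v) {y : ι → F} {c : F}
    (hy : ∀ t : F, y ≠ c • v + t • w) : Gen (pairSet v w) (fun φ => φ ⬝ᵥ y ≠ c) := by
  refine ⟨y, c, ?_, fun _ _ h => h⟩
  obtain ⟨φ, h1, h2⟩ := pairSet_nonempty hv h
  by_cases e : φ ⬝ᵥ y = c
  swap
  · exact ⟨φ, ⟨h1, h2⟩, e⟩
  obtain ⟨ρ, r1, r2, r3⟩ := exists_dot_pair (a := v) (b := w) (y := y) (by
    intro a b e'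
    rw [e', dotProduct_add, dotProduct_smul, dotProduct_smul, h1, h2] at e
    apply hy b
    rw [e', ← e]; simp)
  refine ⟨φ + ρ, ⟨?_, ?_⟩, ?_⟩
  · rw [add_dotProduct, h1, r1, add_zero]
  · rw [add_dotProduct, h2, r2, add_zero]
  · rw [add_dotProduct, e, r3]; simp

theorem mulVec_inj_of_det {A : Matrix ι ι F} (hA : A.det ≠ 0) {u v : ι → F}
    (h : A *ᵥ u = A *ᵥ v) : u = v :=
  (mulVec_injective_iff_isUnit.2 ((isUnit_iff_isUnit_det A).2 (Ne.isUnit hA))) h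

theorem exists_mulVec_eq_of_det {A : Matrix ι ι F} (hA : A.det ≠ 0) (y : ι → F) :
    ∃ u, A *ᵥ u = y :=
  (mulVec_surjective_iff_isUnit.2 ((isUnit_iff_isUnit_det A).2 (Ne.isUnit hA))) y

/-- the Schur complement is scalar for at most one functional -/
theorem gen_not_scalar (hn : 3 ≤ Fintype.card ι) {A : Matrix ι ι F} (hA : A.det ≠ 0)
    {v : ι → F} (hv : ∀ c : F, A *ᵥ v ≠ c • v) {c₀ : F} (hc₀ : c₀ ≠ 0) :
    Gen (pairSet v (A *ᵥ v - c₀ • v)) (fun φ => ¬ ∃ c : F, ∀ u, φ ⬝ᵥ u = 0 →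
      A *ᵥ u - (c₀⁻¹ * φ ⬝ᵥ (A *ᵥ u)) • A *ᵥ v = c • u) := by
  set w := A *ᵥ v - c₀ • v with hw
  have hv0 : v ≠ 0 := by rintro rfl; exact hv 0 (by simp)
  have hvw : ∀ c : F, w ≠ c • v := fun c e => hv (c + c₀) (by rw [add_smul, ← e, hw]; abel)
  have hAv : A *ᵥ v = c₀ • v + w := by rw [hw]; abel
  by_cases h : ∃ φ ∈ pairSet v w, ∃ c : F, ∀ u, φ ⬝ᵥ u = 0 →
      A *ᵥ u - (c₀⁻¹ * φ ⬝ᵥ (A *ᵥ u)) • A *ᵥ v = c • u
  swap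
  · exact Gen.of_forall (pairSet_nonempty hv0 hvw) fun φ hφ h' => h ⟨φ, hφ, h'⟩
  obtain ⟨φ₁, ⟨p1, p2⟩, c, hc⟩ := h
  obtain ⟨z, hz⟩ := exists_not_comb_pair hn v w
  refine (gen_pairSet hv0 hvw (hz (φ₁ ⬝ᵥ z))).mono ?_
  rintro φ ⟨q1, q2⟩ hne ⟨c', hc'⟩
  have e1 := hc w p2
  have e2 := hc' w q2
  set α := c₀⁻¹ * φ₁ ⬝ᵥ (A *ᵥ w)
  set α' := c₀⁻¹ * φ ⬝ᵥ (A *ᵥ w)
  have e3 : c = c' := by
    have := indep_pair hv0 hvw (a := (α' - α) * c₀) (b := (α' - α) - (c - c')) (by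
      have : (α' - α) • A *ᵥ v = (c - c') • w := by
        rw [sub_smul c, ← e1, ← e2]; module
      rw [hAv] at this
      rw [sub_smul (α' - α), ← this]; module)
    have h5 : α' - α = 0 := (mul_eq_zero.1 this.1).resolve_right hc₀
    have h6 := this.2
    rw [h5] at h6
    linear_combination -h6
  subst e3
  have e4 := hc (z - (φ₁ ⬝ᵥ z) • v) (by simp [dotProduct_sub, p1])
  have e5 := hc' (z - (φ ⬝ᵥ z) • v) (by simp [dotProduct_sub, q1])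
  set β := c₀⁻¹ * φ₁ ⬝ᵥ (A *ᵥ (z - (φ₁ ⬝ᵥ z) • v))
  set β' := c₀⁻¹ * φ ⬝ᵥ (A *ᵥ (z - (φ ⬝ᵥ z) • v))
  set d := φ ⬝ᵥ z - φ₁ ⬝ᵥ z with hd
  have hd0 : d ≠ 0 := sub_ne_zero.2 hne
  have e6 : (d - β + β') • A *ᵥ v = (c * d) • v := by
    have : (c * d) • v = c • (z - (φ₁ ⬝ᵥ z) • v) - c • (z - (φ ⬝ᵥ z) • v) := by
      rw [hd]; module
    rw [this, ← e4, ← e5, mulVec_sub, mulVec_sub, mulVec_smul, mulVec_smul, hd]; module
  have e7 := indep_pair hv0 hvw (a := (d - β + β') * c₀ - c * d) (b := d - β + β') (by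
    rw [sub_smul _ (c * d), ← e6, hAv]; module)
  have e8 : c = 0 := by
    have h5 := e7.1
    rw [e7.2, zero_mul, zero_sub, neg_eq_zero] at h5
    exact (mul_eq_zero.1 h5).resolve_right hd0
  rw [e8, zero_smul, sub_eq_zero, ← mulVec_smul] at e1
  exact hvw α (mulVec_inj_of_det hA e1)

end Avoid

variable {F : Type*} [Field F] {n : ℕ}

theorem schur_not_scalar {A : Matrix (Fin (n + 1)) (Fin (n + 1)) F}
    {g : SpecialLinearGroup (Fin (n + 1)) F} {v φ : Fin (n + 1) → F}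
    (h1 : g.1 *ᵥ Pi.single 0 1 = v) (h2 : φ ᵥ* g.1 = Pi.single 0 1) {c₀ : F} (hc₀ : c₀ ≠ 0)
    (h0 : φ ⬝ᵥ (A *ᵥ v) = c₀) (h : ¬ ∃ c : F, ∀ u, φ ⬝ᵥ u = 0 →
      A *ᵥ u - (c₀⁻¹ * φ ⬝ᵥ (A *ᵥ u)) • A *ᵥ v = c • u) (c : F) :
    schur ((g⁻¹).1 * A * g.1) ≠ c • 1 := by
  intro e
  refine h ⟨c, fun u hu => ?_⟩
  obtain ⟨u', rfl⟩ := pair_ker h2 hu
  rw [← h0, ← pair_schur h1 h2 (by rwa [h0]), e, ← mulVec_smul]
  congr 1
  ext i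
  refine Fin.cases ?_ (fun i => ?_) i
  · simp
  · simp [smul_mulVec]

theorem det_conj_SL (A : Matrix (Fin n) (Fin n) F) (g : SpecialLinearGroup (Fin n) F) :
    ((g⁻¹).1 * A * g.1).det = A.det := by
  rw [det_mul, det_mul, g.2, (g⁻¹).2, one_mul, mul_one]

/-- **Sourour's theorem** -/
theorem sourour (A : Matrix (Fin n) (Fin n) F) (β γ : Fin n → F) (hβ : ∀ i, β i ≠ 0)
    (hγ : ∀ i, γ i ≠ 0) (hdet : A.det = ∏ i, β i * γ i) (hA : 2 ≤ n → ∀ c : F, A ≠ c • 1) :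
    ∃ g L U, IsLU A β γ g L U := by
  induction n with
  | zero =>
    exact ⟨1, 1, 1, fun i => i.elim0, fun i => i.elim0, fun i => i.elim0, fun i => i.elim0,
      Subsingleton.elim _ _⟩
  | succ n ih =>
    have hc₀ : β 0 * γ 0 ≠ 0 := mul_ne_zero (hβ 0) (hγ 0)
    have hA0 : A.det ≠ 0 := by
      rw [hdet]; exact Finset.prod_ne_zero_iff.2 fun i _ => mul_ne_zero (hβ i) (hγ i)
    obtain ⟨k, hk0, hk⟩ : ∃ k : SpecialLinearGroup (Fin (n + 1)) F,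
        ((k⁻¹).1 * A * k.1) 0 0 = β 0 * γ 0 ∧
          (2 ≤ n → ∀ c : F, schur ((k⁻¹).1 * A * k.1) ≠ c • 1) := by
      rcases Nat.eq_zero_or_pos n with rfl | hn
      · refine ⟨1, ?_, by simp⟩
        simpa using hdet
      obtain ⟨v, hv⟩ := exists_not_eigen (hA (by omega))
      have hv0 : v ≠ 0 := by rintro rfl; exact hv 0 (by simp)
      have hvw : ∀ c : F, A *ᵥ v - (β 0 * γ 0) • v ≠ c • v := fun c e =>
        hv (c + β 0 * γ 0) (by rw [add_smul, ← e]; abel)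
      obtain ⟨φ, ⟨p1, p2⟩, hφ⟩ : ∃ φ ∈ pairSet v (A *ᵥ v - (β 0 * γ 0) • v), 2 ≤ n →
          ¬ ∃ c : F, ∀ u, φ ⬝ᵥ u = 0 →
            A *ᵥ u - ((β 0 * γ 0)⁻¹ * φ ⬝ᵥ (A *ᵥ u)) • A *ᵥ v = c • u := by
        by_cases h2 : 2 ≤ n
        · obtain ⟨φ, h, h'⟩ := (gen_not_scalar (by simpa using h2) hA0 hv hc₀).exists
          exact ⟨φ, h, fun _ => h'⟩
        · obtain ⟨φ, h⟩ := pairSet_nonempty hv0 hvw
          exact ⟨φ, h, fun h' => absurd h' h2⟩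
      have p3 : φ ⬝ᵥ (A *ᵥ v) = β 0 * γ 0 := by
        rw [dotProduct_sub, dotProduct_smul, p1, smul_eq_mul, mul_one, sub_eq_zero] at p2
        exact p2
      obtain ⟨k, k1, k2⟩ := exists_SL_pair hn p1
      exact ⟨k, by rw [pair_corner k1 k2, p3], fun h2 => schur_not_scalar k1 k2 hc₀ p3 (hφ h2)⟩
    obtain ⟨g, L, U, h⟩ := ih (schur ((k⁻¹).1 * A * k.1)) (fun i => β i.succ) (fun i => γ i.succ)
      (fun i => hβ _) (fun i => hγ _) (by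
        have := det_eq_schur (A := (k⁻¹).1 * A * k.1) (by rwa [hk0])
        rw [det_conj_SL, hdet, Fin.prod_univ_succ, hk0] at this
        exact (mul_left_cancel₀ hc₀ this).symm) hk
    exact ⟨_, _, _, (h.bord (hβ 0) (hγ 0) hk0).conj k⟩

end Cfsg.Agent.SLn
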